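import Groth.Agent.Lib.Helper5.FunFld.LSpace
import Mathlib.Algebra.Polynomial.Basis
import Mathlib.RingTheory.AlgebraTower
import Mathlib.Order.Preorder.Finsupp

/-! `deg (x)_0 = deg (x)_∞ = [K : k(x)]` and `deg (x) = 0` (helper5). -/

set_option autoImplicit false

namespace FunFld

open WithZero Polynomial

variable {k K : Type*} [Field k] [Field K] [Algebra k K]

namespace Divisor

lemma deg_eq_sum (D : Divisor k K) : D.deg = ∑ P ∈ D.support, D P * (P.deg : ℤ) := rfl

lemma deg_nonneg {D : Divisor k K} (hD : 0 ≤ D) : 0 ≤ D.deg := by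
  rw [deg_eq_sum]
  exact Finset.sum_nonneg (fun P _ => mul_nonneg (hD P) (Int.natCast_nonneg _))

lemma deg_eq_sum_of_support_subset (D : Divisor k K) (S : Finset (Place k K))
    (hS : D.support ⊆ S) : D.deg = ∑ P ∈ S, D P * (P.deg : ℤ) := by
  rw [deg_eq_sum]
  refine Finset.sum_subset hS (fun P _ hP => ?_)
  rw [Finsupp.notMem_support_iff.1 hP, zero_mul]

lemma deg_mono {D₁ D₂ : Divisor k K} (h : D₁ ≤ D₂) : D₁.deg ≤ D₂.deg := by
  have := deg_nonneg (sub_nonneg.2 h)
  rw [deg_sub] at this
  linarith

/-- The degree of the positive part, as a filtered sum. -/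
lemma deg_sup_zero (D : Divisor k K) :
    (D ⊔ 0).deg = ∑ P ∈ D.support with 0 < D P, D P * (P.deg : ℤ) := by
  classical
  rw [deg_eq_sum_of_support_subset (D ⊔ 0) D.support, Finset.sum_filter]
  · refine Finset.sum_congr rfl (fun P _ => ?_)
    rw [Finsupp.sup_apply, Finsupp.zero_apply]
    by_cases h : 0 < D P
    · rw [if_pos h, sup_eq_left.2 h.le]
    · rw [if_neg h, sup_eq_right.2 (not_lt.1 h), zero_mul]
  · intro P hP
    rw [Finsupp.mem_support_iff, Finsupp.sup_apply, Finsupp.zero_apply] at hP
    rw [Finsupp.mem_support_iff]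
    intro h0
    rw [h0] at hP
    simp at hP

end Divisor

section powers

/-- Powers of a transcendental element are linearly independent. -/
lemma linearIndependent_pow_of_transcendental {A : Type*} [CommRing A] [Algebra k A] {x : A}
    (hx : Transcendental k x) : LinearIndependent k (fun i : ℕ => x ^ i) := by
  have h1 := (Polynomial.basisMonomials k).linearIndependent
  have h2 : Function.Injective (aeval (R := k) x).toLinearMap :=
    transcendental_iff_injective.1 hx
  have h3 := h1.map' (aeval (R := k) x).toLinearMap (LinearMap.ker_eq_bot.2 h2)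
  have h4 : (fun i : ℕ => x ^ i) = (aeval (R := k) x).toLinearMap ∘ (Polynomial.basisMonomials k) := by
    funext i
    simp [Polynomial.coe_basisMonomials]
  rw [h4]
  exact h3

end powers

section main

variable (hK : IsFunctionField k K)

/-- The pole divisor of `x`. -/
noncomputable def poleDiv (x : K) : Divisor k K := (-div k x) ⊔ 0

/-- The zero divisor of `x`. -/
noncomputable def zeroDiv (x : K) : Divisor k K := (div k x) ⊔ 0

lemma poleDiv_nonneg (x : K) : (0 : Divisor k K) ≤ poleDiv x := le_sup_right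

lemma zeroDiv_nonneg (x : K) : (0 : Divisor k K) ≤ zeroDiv x := le_sup_right

include hK in
lemma poleDiv_apply (x : K) (P : Place k K) : poleDiv x P = max (-P.ord x) 0 := by
  rw [poleDiv, Finsupp.sup_apply, Finsupp.neg_apply, div_apply hK]; rfl

include hK in
lemma zeroDiv_apply (x : K) (P : Place k K) : zeroDiv x P = max (P.ord x) 0 := by
  rw [zeroDiv, Finsupp.sup_apply, div_apply hK]; rfl

include hK in
lemma zeroDiv_inv (x : K) : zeroDiv (k := k) x⁻¹ = poleDiv x := by
  rw [zeroDiv, poleDiv, div_inv hK]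

include hK in
lemma poleDiv_inv (x : K) : poleDiv (k := k) x⁻¹ = zeroDiv x := by
  rw [zeroDiv, poleDiv, div_inv hK, neg_neg]

include hK in
lemma div_eq_zeroDiv_sub_poleDiv (x : K) : div k x = zeroDiv x - poleDiv x := by
  ext P
  rw [Finsupp.sub_apply, zeroDiv_apply hK, poleDiv_apply hK, div_apply hK]
  rcases le_total (P.ord x) 0 with h | h
  · rw [max_eq_right h, max_eq_left (by omega)]; ring
  · rw [max_eq_left h, max_eq_right (by omega)]; ring

include hK in
/-- `deg (x)_0 ≤ [K : k(x)]`. -/
theorem deg_zeroDiv_le {x : K} (hx : x ∉ Set.range (algebraMap k K)) :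
    (zeroDiv (k := k) x).deg ≤
      (Module.finrank (IntermediateField.adjoin k ({x} : Set K)) K : ℤ) := by
  classical
  have hx0 : x ≠ 0 := by rintro rfl; exact hx ⟨0, map_zero _⟩
  have hS : ∀ P ∈ (zeroDiv (k := k) x).support, P.1 x < 1 := by
    intro P hP
    rw [Finsupp.mem_support_iff, zeroDiv_apply hK] at hP
    rw [P.v_lt_one_iff hx0]
    by_contra h
    apply hP
    rw [max_eq_right (not_lt.1 h)]
  have h1 := sum_deg_mul_ord_le_finrank hK hx _ hS
  rw [Divisor.deg_eq_sum]
  have h2 : ∑ P ∈ (zeroDiv (k := k) x).support, zeroDiv x P * (P.deg : ℤ) =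
      ((∑ P ∈ (zeroDiv (k := k) x).support, P.deg * (P.ord x).toNat : ℕ) : ℤ) := by
    push_cast
    refine Finset.sum_congr rfl (fun P hP => ?_)
    have hpos : 0 < P.ord x := (P.v_lt_one_iff hx0).1 (hS P hP)
    rw [zeroDiv_apply hK, max_eq_left hpos.le, Int.toNat_of_nonneg hpos.le]; ring
  rw [h2]
  exact_mod_cast h1

lemma adjoin_inv_eq (x : K) :
    IntermediateField.adjoin k ({x⁻¹} : Set K) = IntermediateField.adjoin k ({x} : Set K) := by
  apply le_antisymm
  · rw [IntermediateField.adjoin_simple_le_iff]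
    exact inv_mem (IntermediateField.mem_adjoin_simple_self k x)
  · rw [IntermediateField.adjoin_simple_le_iff]
    have := inv_mem (IntermediateField.mem_adjoin_simple_self k x⁻¹)
    rwa [inv_inv] at this

include hK in
/-- `deg (x)_∞ ≤ [K : k(x)]`. -/
theorem deg_poleDiv_le {x : K} (hx : x ∉ Set.range (algebraMap k K)) :
    (poleDiv (k := k) x).deg ≤
      (Module.finrank (IntermediateField.adjoin k ({x} : Set K)) K : ℤ) := by
  have := deg_zeroDiv_le hK (inv_notMem_range hx)
  rw [zeroDiv_inv hK, adjoin_inv_eq] at this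
  exact this

include hK in
/-- `[K : k(x)] ≤ deg (x)_∞`. -/
theorem finrank_le_deg_poleDiv {x : K} (hx : x ∉ Set.range (algebraMap k K)) :
    (Module.finrank (IntermediateField.adjoin k ({x} : Set K)) K : ℤ) ≤
      (poleDiv (k := k) x).deg := by
  classical
  have hx0 : x ≠ 0 := by rintro rfl; exact hx ⟨0, map_zero _⟩
  have htr := hK.transcendental_of_notMem hx
  have hfd := hK.finiteDimensional_adjoin' hx
  set F := IntermediateField.adjoin k ({x} : Set K) with hF
  set n := Module.finrank F K with hn
  have hnpos : 0 < n := Module.finrank_pos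
  let b := Module.finBasis F K
  let B : Divisor k K := poleDiv x
  let C : Divisor k K := ∑ j, poleDiv (b j)
  have hB0 : (0 : Divisor k K) ≤ B := poleDiv_nonneg x
  have hC0 : (0 : Divisor k K) ≤ C := Finset.sum_nonneg (fun j _ => poleDiv_nonneg _)
  have hCj : ∀ j (P : Place k K), -C P ≤ P.ord (b j) := by
    intro j P
    have h1 : poleDiv (b j) P ≤ C P := by
      have : poleDiv (k := k) (b j) ≤ C :=
        Finset.single_le_sum (f := fun j => poleDiv (k := k) (b j))
          (fun j _ => poleDiv_nonneg _) (Finset.mem_univ j)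
      exact this P
    rw [poleDiv_apply hK] at h1
    have := le_max_left (-P.ord (b j)) 0
    omega
  have hBx : ∀ P : Place k K, -B P ≤ P.ord x ∧ 0 ≤ B P := by
    intro P
    have h1 : B P = max (-P.ord x) 0 := poleDiv_apply hK x P
    have := le_max_left (-P.ord x) 0
    have := le_max_right (-P.ord x) 0
    constructor <;> omega
  -- the gen of k(x)
  let g : F := IntermediateField.AdjoinSimple.gen k x
  have hg : Transcendental k g := by
    intro halg
    apply htr
    have := halg.algebraMap (A := K)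
    simpa [g] using this
  have hli : LinearIndependent k (fun p : ℕ × Fin n => g ^ p.1 • (b p.2 : K)) :=
    linearIndependent_smul (linearIndependent_pow_of_transcendental hg) b.linearIndependent
  have hcount : ∀ l : ℕ, ((l + 1) * n : ℤ) ≤ l * B.deg + C.deg + 1 := by
    intro l
    have hDl0 : (0 : Divisor k K) ≤ l • B + C := add_nonneg (nsmul_nonneg hB0 l) hC0
    have hfin := finiteDimensional_L hK (l • B + C)
    have hmem : ∀ p : Fin (l + 1) × Fin n, g ^ (p.1 : ℕ) • (b p.2 : K) ∈ L (l • B + C) := by
      intro p P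
      have hgx : g ^ (p.1 : ℕ) • (b p.2 : K) = x ^ (p.1 : ℕ) * b p.2 := by
        rw [Algebra.smul_def, IntermediateField.algebraMap_apply, SubmonoidClass.coe_pow,
          IntermediateField.AdjoinSimple.coe_gen]
      rw [hgx]
      have hne : x ^ (p.1 : ℕ) * b p.2 ≠ 0 := mul_ne_zero (pow_ne_zero _ hx0) (b.ne_zero _)
      rw [P.v_le_exp_iff hne, P.ord_mul (pow_ne_zero _ hx0) (b.ne_zero _), P.ord_pow,
        Finsupp.add_apply, Finsupp.smul_apply, nsmul_eq_mul]
      have h1 := hCj p.2 P
      obtain ⟨h2, h3⟩ := hBx P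
      have h4 : ((p.1 : ℕ) : ℤ) ≤ l := by
        have := p.1.2
        exact_mod_cast Nat.lt_succ_iff.1 this
      have h5 : (0 : ℤ) ≤ ((p.1 : ℕ) : ℤ) := Int.natCast_nonneg _
      nlinarith
    let w : Fin (l + 1) × Fin n → L (l • B + C) := fun p => ⟨_, hmem p⟩
    have hwli : LinearIndependent k w := by
      apply LinearIndependent.of_comp (L (l • B + C)).subtype
      have : (L (l • B + C)).subtype ∘ w =
          (fun p : ℕ × Fin n => g ^ p.1 • (b p.2 : K)) ∘
            (fun p : Fin (l + 1) × Fin n => ((p.1 : ℕ), p.2)) := by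
        funext p; rfl
      rw [this]
      refine hli.comp _ ?_
      rintro ⟨a1, a2⟩ ⟨b1, b2⟩ h
      simp only [Prod.mk.injEq] at h
      exact Prod.ext (Fin.ext h.1) h.2
    have h1 := hwli.fintype_card_le_finrank
    rw [Fintype.card_prod, Fintype.card_fin, Fintype.card_fin] at h1
    have h2 := ell_le_deg_add_one hK hDl0
    rw [Divisor.deg_add, Divisor.deg_nsmul] at h2
    have h3 : (((l + 1) * n : ℕ) : ℤ) ≤ (ell (l • B + C) : ℤ) := by exact_mod_cast h1
    push_cast at h3
    linarith
  by_contra hlt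
  rw [not_le] at hlt
  have hC := Divisor.deg_nonneg hC0
  have h1 := hcount (C.deg.toNat + 1)
  have h2 : ((C.deg.toNat + 1 : ℕ) : ℤ) = C.deg + 1 := by
    push_cast; rw [Int.toNat_of_nonneg hC]
  have hBn : B.deg ≤ n - 1 := by
    have : B.deg < n := hlt
    omega
  have hn1 : (1 : ℤ) ≤ n := by exact_mod_cast hnpos
  rw [h2] at h1
  nlinarith

include hK in
theorem deg_poleDiv {x : K} (hx : x ∉ Set.range (algebraMap k K)) :
    (poleDiv (k := k) x).deg =
      (Module.finrank (IntermediateField.adjoin k ({x} : Set K)) K : ℤ) :=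
  le_antisymm (deg_poleDiv_le hK hx) (finrank_le_deg_poleDiv hK hx)

include hK in
theorem deg_zeroDiv {x : K} (hx : x ∉ Set.range (algebraMap k K)) :
    (zeroDiv (k := k) x).deg =
      (Module.finrank (IntermediateField.adjoin k ({x} : Set K)) K : ℤ) := by
  have := deg_poleDiv hK (inv_notMem_range hx)
  rwa [poleDiv_inv hK, adjoin_inv_eq] at this

include hK in
/-- Principal divisors have degree zero. -/
theorem deg_div (x : K) : (div k x).deg = 0 := by
  by_cases hx : x ∈ Set.range (algebraMap k K)
  · obtain ⟨c, rfl⟩ := hx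
    rw [div_algebraMap hK, Divisor.deg_zero]
  · rw [div_eq_zeroDiv_sub_poleDiv hK, Divisor.deg_sub, deg_zeroDiv hK hx, deg_poleDiv hK hx,
      sub_self]

end main

end FunFld
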