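import Groth.Agent.Lib.Helper5.FunFld.Criterion
import Mathlib.RingTheory.MvPolynomial.Homogeneous

/-! Finiteness of zero loci of homogeneous forms and of fibres of a projective map (helper5). -/

set_option autoImplicit false

namespace FunFld

open WithZero

variable {k K : Type*} [Field k] [Field K] [Algebra k K] {ι : Type*}

/-- Evaluating a homogeneous polynomial at a rescaled point. -/
lemma aeval_div_of_isHomogeneous [Fintype ι] {g : MvPolynomial ι k} {e : ℕ}
    (hg : g.IsHomogeneous e) (φ : ι → K) (c : K) :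
    MvPolynomial.aeval (fun i => φ i / c) g = MvPolynomial.aeval φ g / c ^ e := by
  rw [MvPolynomial.aeval_def, MvPolynomial.aeval_def, MvPolynomial.eval₂_eq',
    MvPolynomial.eval₂_eq', div_eq_mul_inv, Finset.sum_mul]
  refine Finset.sum_congr rfl (fun d hd => ?_)
  rw [← div_eq_mul_inv]
  have hdeg : ∑ i, d i = e := by
    rw [← Finsupp.degree_eq_sum]
    by_contra hne
    exact (MvPolynomial.mem_support_iff.1 hd) (hg.coeff_eq_zero hne)
  rw [mul_div_assoc]
  congr 1
  have : ∀ i, (φ i / c) ^ d i = φ i ^ d i / c ^ d i := fun i => _root_.div_pow _ _ _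
  rw [Finset.prod_congr rfl (fun i _ => this i), Finset.prod_div_distrib,
    Finset.prod_pow_eq_pow_sum, hdeg]

section

variable (hK : IsFunctionField k K)

include hK in
/-- A nonzero function has finitely many zeros. -/
lemma finite_zeros' {z : K} (hz : z ≠ 0) : {P : Place k K | P.1 z < 1}.Finite := by
  refine (finite_support_ord hK z).subset ?_
  intro P hP
  rw [Set.mem_ofPred_eq, P.v_lt_one_iff hz] at hP
  rw [Function.mem_support]
  omega

include hK in
theorem finite_zeroPlaces [Finite ι] (φ : ι → K) (g : MvPolynomial ι k)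
    (hg : g.IsHomogeneous g.totalDegree) (hgφ : MvPolynomial.aeval φ g ≠ 0) :
    {P : Place k K | ∃ j, φ j ≠ 0 ∧ (∀ i, P.1 (φ i) ≤ P.1 (φ j)) ∧
      P.1 (MvPolynomial.aeval (fun i => φ i / φ j) g) < 1}.Finite := by
  classical
  have := Fintype.ofFinite ι
  have hfin : ∀ j : ι, φ j ≠ 0 →
      {P : Place k K | P.1 (MvPolynomial.aeval (fun i => φ i / φ j) g) < 1}.Finite := by
    intro j hj
    apply finite_zeros' hK
    rw [aeval_div_of_isHomogeneous hg]
    exact div_ne_zero hgφ (pow_ne_zero _ hj)
  refine (Set.finite_iUnion (ι := {j : ι // φ j ≠ 0}) (fun j => hfin j.1 j.2)).subset ?_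
  rintro P ⟨j, hj0, -, hP⟩
  exact Set.mem_iUnion.2 ⟨⟨j, hj0⟩, hP⟩

include hK in
theorem finite_fibre [Finite ι] (φ : ι → K)
    (hnc : ∀ j, ∃ i, φ i / φ j ∉ Set.range (algebraMap k K)) (P : Place k K) :
    {Q : Place k K | SameImage φ P Q}.Finite := by
  classical
  have hfin : ∀ j : ι, {Q : Place k K | ∀ i, ∃ c : k, P.1 (φ i / φ j - algebraMap k K c) < 1 ∧
      Q.1 (φ i / φ j - algebraMap k K c) < 1}.Finite := by
    intro j
    obtain ⟨i, hi⟩ := hnc j
    by_cases hc : ∃ c : k, P.1 (φ i / φ j - algebraMap k K c) < 1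
    · obtain ⟨c0, hc0⟩ := hc
      have hne : φ i / φ j - algebraMap k K c0 ≠ 0 := by
        intro h
        exact hi ⟨c0, (sub_eq_zero.1 h).symm⟩
      refine (finite_zeros' hK hne).subset ?_
      intro Q hQ
      obtain ⟨c, hcP, hcQ⟩ := hQ i
      have : c = c0 := by
        by_contra hcc
        have h1 : P.1 (algebraMap k K (c0 - c)) < 1 := by
          have : algebraMap k K (c0 - c) =
              (φ i / φ j - algebraMap k K c) - (φ i / φ j - algebraMap k K c0) := by
            rw [map_sub]; ring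
          rw [this]
          exact lt_of_le_of_lt (Valuation.map_sub _ _ _) (max_lt hcP hc0)
        rw [P.v_algebraMap (sub_ne_zero.2 (Ne.symm hcc))] at h1
        exact lt_irrefl _ h1
      subst this
      exact hcQ
    · refine Set.Finite.subset Set.finite_empty ?_
      intro Q hQ
      obtain ⟨c, hcP, -⟩ := hQ i
      exact hc ⟨c, hcP⟩
  refine (Set.finite_iUnion hfin).subset ?_
  rintro Q ⟨j, -, -, -, hQ⟩
  exact Set.mem_iUnion.2 ⟨j, hQ⟩

end

end FunFld
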