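import Groth.Agent.Lib.Helper5.FunFld.LinSeries

/-! Linear series: small-degree bounds, drops, cusps (helper5). -/

set_option autoImplicit false

namespace FunFld

open WithZero

variable {k K : Type*} [Field k] [Field K] [Algebra k K]

section ff

variable (hK : IsFunctionField k K)

include hK in
theorem ell_le_deg_add_one' {D : Divisor k K} (hpos : 0 < ell D) : (ell D : ℤ) ≤ D.deg + 1 := by
  obtain ⟨x, hx0, hx⟩ := (ell_pos_iff hK D).1 hpos
  have := ell_le_deg_add_one hK hx
  rwa [ell_add_div hK D hx0, Divisor.deg_add, deg_div hK, add_zero] at this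

include hK in
theorem ell_le_deg_add_one'' (D : Divisor k K) (hd : 0 ≤ D.deg) : (ell D : ℤ) ≤ D.deg + 1 := by
  rcases Nat.eq_zero_or_pos (ell D) with h | h
  · rw [h]; push_cast; linarith
  · exact ell_le_deg_add_one' hK h

include hK in
/-- On a curve of positive genus a divisor of degree one has `ℓ ≤ 1`. -/
theorem ell_le_one_of_deg_eq_one (hg : 0 < genus k K) {D : Divisor k K} (hdeg : D.deg = 1) :
    ell D ≤ 1 := by
  by_contra hlt
  rw [not_le] at hlt
  obtain ⟨x, hx0, hx⟩ := (ell_pos_iff hK D).1 (by omega)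
  have hdeg' : (D + div k x).deg = 1 := by rw [Divisor.deg_add, deg_div hK, add_zero, hdeg]
  obtain ⟨P, hP1, hPeq⟩ := exists_single_of_nonneg_of_deg_one hK hx hdeg'
  have hell : ell (Finsupp.single P 1 : Divisor k K) = ell D := by
    rw [← hPeq, ell_add_div hK D hx0]
  have hlt' : ell (0 : Divisor k K) < ell (Finsupp.single P 1 : Divisor k K) := by
    rw [ell_zero hK, hell]; exact hlt
  obtain ⟨y, hyL, hy0⟩ := exists_mem_L_notMem hK hlt'
  have hyr : y ∉ Set.range (algebraMap k K) := by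
    rintro ⟨c, rfl⟩
    apply hy0
    intro Q
    rw [Finsupp.zero_apply, exp_zero]
    exact Q.v_algebraMap_le c
  have hpd := poleDiv_le_of_mem_L hK (single_nonneg P (by norm_num)) hyL
  have h1 := Divisor.deg_mono hpd
  rw [Divisor.deg_single, hP1] at h1
  have h2 := deg_poleDiv hK hyr
  have hfd := hK.finiteDimensional_adjoin' hyr
  have h3 : 0 < Module.finrank (IntermediateField.adjoin k ({y} : Set K)) K := Module.finrank_pos
  have h4 : (poleDiv (k := k) y).deg = 1 := by
    have : (1 : ℤ) ≤ (poleDiv (k := k) y).deg := by rw [h2]; exact_mod_cast h3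
    push_cast at h1
    linarith
  have := genus_eq_zero_of_adjoin_eq_top hK (adjoin_eq_top_of_deg_poleDiv hK hyr h4)
  omega

include hK in
theorem finrank_inf_L_le_ell (V : Submodule k K) (D : Divisor k K) :
    Module.finrank k ↥(V ⊓ L D) ≤ ell D := by
  have := finiteDimensional_L hK D
  exact Submodule.finrank_mono inf_le_right

end ff


/-- Propagation of the cusp condition down a chain ending in a curve of positive genus. -/
theorem chain_finrank_le_one [IsAlgClosed k] {n' : ℕ} {W : Fin (n' + 1) → Type*}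
    [∀ j, Field (W j)] [∀ j, Algebra k (W j)] (hW : ∀ j, IsFunctionField k (W j))
    (hpos : ∀ j : Fin (n' + 1), (j : ℕ) + 1 = n' + 1 → 0 < genus k (W j))
    {d r : ℕ} (hd : 1 ≤ d) {D : ∀ j, Divisor k (W j)} (hD : ∀ j, (D j).deg = d)
    {V : ∀ j, Submodule k (W j)} (hVr : ∀ j, Module.finrank k ↥(V j) = r + 1)
    {A B : ∀ j, Place k (W j)}
    (hAB : ∀ j : Fin (n' + 1), (j : ℕ) + 1 < n' + 1 → A j ≠ B j)
    (hcomp : ∀ (j : Fin (n' + 1)) (hj : (j : ℕ) + 1 < n' + 1) (m : ℕ), m ≤ d + 1 →
      Module.finrank k ↥((V j) ⊓ L ((D j) - Finsupp.single (B j) ((m : ℤ)))) +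
        Module.finrank k ↥((V ⟨(j : ℕ) + 1, hj⟩) ⊓ L ((D ⟨(j : ℕ) + 1, hj⟩) -
          Finsupp.single (A ⟨(j : ℕ) + 1, hj⟩) ((d : ℤ) + 1 - m))) = r + 1)
    (j : Fin (n' + 1)) :
    Module.finrank k ↥((V j) ⊓ L ((D j) - Finsupp.single (A j) ((d : ℤ) + 1 - (2 : ℕ)))) ≤ 1 := by
  induction j using Fin.reverseInduction with
  | last =>
    have hg := hpos (Fin.last n') (by simp)
    refine (finrank_inf_L_le_ell (hW _) _ _).trans ?_
    apply ell_le_one_of_deg_eq_one (hW _) hg
    rw [Divisor.deg_sub, Divisor.deg_single, hD, Place.deg_eq_one_of_isAlgClosed (hW _)]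
    push_cast
    ring
  | cast i ih =>
    have hj : ((i.castSucc : Fin (n' + 1)) : ℕ) + 1 < n' + 1 := by
      have := i.2
      simp only [Fin.val_castSucc]
      omega
    have h1 := hcomp i.castSucc hj 2 (by omega)
    change _ + Module.finrank k ↥((V i.succ) ⊓ L ((D i.succ) -
      Finsupp.single (A i.succ) ((d : ℤ) + 1 - (2 : ℕ)))) = r + 1 at h1
    have hfinV : FiniteDimensional k (V i.castSucc) :=
      Module.finite_of_finrank_pos (by rw [hVr]; omega)
    have hne := hAB i.castSucc hj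
    have hdA := Place.deg_eq_one_of_isAlgClosed (hW i.castSucc) (A i.castSucc)
    have hdB := Place.deg_eq_one_of_isAlgClosed (hW i.castSucc) (B i.castSucc)
    have h2 := finrank_Vn_add_le (hW i.castSucc) (V i.castSucc) hne (D := D i.castSucc)
      (m := (d : ℤ) + 1 - (2 : ℕ)) (n := ((2 : ℕ) : ℤ)) (by
        rw [hD, hdA, hdB]; push_cast; linarith)
    rw [hVr] at h2
    change Module.finrank k ↥((V i.castSucc) ⊓ L ((D i.castSucc) -
      Finsupp.single (A i.castSucc) ((d : ℤ) + 1 - (2 : ℕ)))) +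
      Module.finrank k ↥((V i.castSucc) ⊓ L ((D i.castSucc) -
      Finsupp.single (B i.castSucc) ((2 : ℕ) : ℤ))) ≤ r + 1 at h2
    omega

end FunFld
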