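import Groth.Agent.Lib.Helper5.FunFld.Conorm
import Groth.Agent.Lib.Helper5.FunFld.LinSeries2
import Groth.Prelude.Def_W4bk4goldsch45

/-! The divisor of a projective map (helper5). -/

set_option autoImplicit false

namespace FunFld

open WithZero

variable {k K : Type*} [Field k] [Field K] [Algebra k K]

section

variable (hK : IsFunctionField k K) {ι : Type*} [Fintype ι] [Nonempty ι]

/-- The least order of the entries of a tuple at a place. -/
noncomputable def minOrd (φ : ι → K) (P : Place k K) : ℤ :=
  Finset.univ.inf' Finset.univ_nonempty (fun i => P.ord (φ i))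

lemma minOrd_le (φ : ι → K) (P : Place k K) (i : ι) : minOrd φ P ≤ P.ord (φ i) :=
  Finset.inf'_le _ (Finset.mem_univ i)

lemma exists_minOrd_eq (φ : ι → K) (P : Place k K) : ∃ i, minOrd φ P = P.ord (φ i) := by
  obtain ⟨i, -, hi⟩ := Finset.exists_mem_eq_inf' Finset.univ_nonempty (fun i => P.ord (φ i))
  exact ⟨i, hi⟩

lemma le_minOrd_iff (φ : ι → K) (P : Place k K) (n : ℤ) :
    n ≤ minOrd φ P ↔ ∀ i, n ≤ P.ord (φ i) := by
  rw [minOrd, Finset.le_inf'_iff]
  simp

include hK in
lemma finite_support_minOrd (φ : ι → K) :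
    (Function.support fun P : Place k K => -minOrd φ P).Finite := by
  classical
  have hfin : (⋃ i : ι, Function.support fun P : Place k K => P.ord (φ i)).Finite :=
    Set.finite_iUnion (fun i => finite_support_ord hK (φ i))
  refine hfin.subset ?_
  intro P hP
  rw [Function.mem_support, neg_ne_zero] at hP
  rw [Set.mem_iUnion]
  by_contra hall
  push Not at hall
  apply hP
  obtain ⟨i, hi⟩ := exists_minOrd_eq φ P
  rw [hi]
  have := hall i
  rwa [Function.mem_support, not_not] at this

include hK in
lemma mapDiv_apply (φ : ι → K) (P : Place k K) : mapDiv k φ P = -minOrd φ P := by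
  have h := finite_support_minOrd hK φ
  unfold mapDiv
  rw [dif_pos (by exact h)]
  rfl

end

section conorm

variable {K' : Type*} [Field K'] [Algebra K K'] [Algebra k K'] [IsScalarTower k K K']
  [FiniteDimensional K K'] {ι : Type*} [Fintype ι] [Nonempty ι]

/-- The divisor of a projective map over a finite extension is the conorm. -/
theorem mapDiv_algebraMap_eq_conorm (hK : IsFunctionField k K) (hK' : IsFunctionField k K')
    (φ : ι → K) :
    mapDiv k (fun i => algebraMap K K' (φ i)) = conorm K' (mapDiv k φ) := by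
  ext Q
  obtain ⟨P₀, e, he⟩ := exists_isOverWith hK.isFF1 Q
  rw [mapDiv_apply hK', conorm_apply hK.isFF1 _ he, mapDiv_apply hK, mul_neg, neg_inj]
  apply le_antisymm
  · obtain ⟨i, hi⟩ := exists_minOrd_eq φ P₀
    rw [hi, ← he.ord_eq]
    exact minOrd_le (fun i => algebraMap K K' (φ i)) Q i
  · rw [le_minOrd_iff]
    intro i
    rw [he.ord_eq]
    exact mul_le_mul_of_nonneg_left (minOrd_le φ P₀ i) (Int.natCast_nonneg e)

end conorm

end FunFld
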