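import Groth.Agent.Lib.Helper5.FunFld.Genus1
import Mathlib.FieldTheory.Relrank
import Mathlib.Algebra.Polynomial.Degree.SmallDegree

/-! Genus one: Weierstrass equation (helper5). -/

set_option autoImplicit false

namespace FunFld

open WithZero Polynomial

variable {k K : Type*} [Field k] [Field K] [Algebra k K]

section

variable (hK : IsFunctionField k K)

include hK in
lemma exists_mem_L_notMem {D₁ D₂ : Divisor k K} (hlt : ell D₁ < ell D₂) :
    ∃ x ∈ L D₂, x ∉ L D₁ := by
  by_contra hall
  have hle : L D₂ ≤ L D₁ := by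
    intro x hx
    by_contra hx0
    exact hall ⟨x, hx, hx0⟩
  have hfin := finiteDimensional_L hK D₁
  have := Submodule.finrank_mono hle
  unfold ell at hlt
  omega

lemma single_nonneg (P : Place k K) {n : ℤ} (hn : 0 ≤ n) :
    (0 : Divisor k K) ≤ Finsupp.single P n := by
  classical
  intro Q
  by_cases hQ : Q = P
  · subst hQ; simpa using hn
  · simp [Finsupp.single_eq_of_ne hQ]

/-- An element of `L(nP) \ L((n-1)P)` has a pole of exact order `n` at `P`. -/
lemma v_eq_of_mem_L_single {P : Place k K} {n : ℤ} {x : K}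
    (hx : x ∈ L (Finsupp.single P n : Divisor k K))
    (hx' : x ∉ L (Finsupp.single P (n - 1) : Divisor k K)) : P.1 x = exp n := by
  classical
  have h1 := hx P
  rw [Finsupp.single_eq_same] at h1
  refine le_antisymm h1 ?_
  by_contra hlt
  rw [not_le] at hlt
  apply hx'
  intro Q
  by_cases hQ : Q = P
  · subst hQ
    rw [Finsupp.single_eq_same]
    have : Q.1 x < exp (n - 1) * exp 1 := by
      rw [← exp_add]; simpa using hlt
    exact (lt_mul_exp_iff_le exp_ne_zero).1 this
  · have := hx Q
    rwa [Finsupp.single_eq_of_ne hQ] at this ⊢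

lemma v_le_one_of_mem_L_single {P Q : Place k K} (hQ : Q ≠ P) {n : ℤ} {x : K}
    (hx : x ∈ L (Finsupp.single P n : Divisor k K)) : Q.1 x ≤ 1 := by
  have := hx Q
  rwa [Finsupp.single_eq_of_ne hQ, exp_zero] at this

include hK in
/-- The pole divisor of an element with a single pole. -/
lemma poleDiv_eq_single {P : Place k K} {n : ℤ} (hn : 0 ≤ n) {x : K}
    (hx : x ∈ L (Finsupp.single P n : Divisor k K)) (hP : P.1 x = exp n) :
    poleDiv (k := k) x = Finsupp.single P n := by
  classical
  have hx0 : x ≠ 0 := by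
    rintro rfl
    rw [map_zero] at hP
    exact exp_ne_zero hP.symm
  ext Q
  rw [poleDiv_apply hK]
  by_cases hQ : Q = P
  · subst hQ
    rw [Finsupp.single_eq_same, Q.ord_eq_of_v_eq hP, neg_neg, max_eq_left hn]
  · rw [Finsupp.single_eq_of_ne hQ]
    have := (Q.v_le_one_iff hx0).1 (v_le_one_of_mem_L_single hQ hx)
    exact max_eq_right (by omega)

/-- Six elements with pole orders `0,2,3,4,5,6` at `P` are linearly independent. -/
lemma eq_zero_of_relation_six (P : Place k K) (u : Fin 6 → K)
    (hu : ∀ i, P.1 (u i) = exp ((![0, 2, 3, 4, 5, 6] : Fin 6 → ℤ) i)) (c : Fin 6 → k)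
    (hc : ∑ i, c i • u i = 0) : c = 0 := by
  by_contra hne
  have hmono : StrictMono (fun i => P.1 (u i)) := by
    intro i j hij
    simp only [hu]
    rw [exp_lt_exp]
    revert i j
    decide
  have hpos : ∀ i, 0 < P.1 (u i) := fun i => by rw [hu]; exact exp_pos
  have := le_v_sum_of_strictMono P.1 P.v_algebraMap_le u hmono hpos c hne
  rw [hc, map_zero, hu] at this
  exact absurd this (not_le.2 exp_pos)

include hK in
/-- Weierstrass form of a genus-one function field with a rational point. -/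
theorem weierstrass (hg : genus k K = 1) (P₀ : Place k K) (hP : P₀.deg = 1) :
    ∃ x y : K, x ∈ L (Finsupp.single P₀ 2 : Divisor k K) ∧
      y ∈ L (Finsupp.single P₀ 3 : Divisor k K) ∧
      P₀.ord x = -2 ∧ P₀.ord y = -3 ∧
      IntermediateField.adjoin k ({x, y} : Set K) = ⊤ ∧
      ∃ f g : Polynomial k, f.natDegree ≤ 1 ∧ g.natDegree = 3 ∧
        y ^ 2 + Polynomial.aeval x f * y + Polynomial.aeval x g = 0 := by
  classical
  have hell : ∀ n : ℤ, 1 ≤ n → (ell (Finsupp.single P₀ n : Divisor k K) : ℤ) = n := by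
    intro n hn
    have hdeg : Divisor.deg (Finsupp.single P₀ n : Divisor k K) = n := by
      rw [Divisor.deg_single, hP]; simp
    rw [ell_eq_of_large_deg hK (by rw [hg, hdeg]; push_cast; omega), hdeg, hg]
    push_cast; ring
  have hlt : ∀ n : ℤ, 2 ≤ n → ell (Finsupp.single P₀ (n - 1) : Divisor k K) <
      ell (Finsupp.single P₀ n : Divisor k K) := by
    intro n hn
    have h1 := hell n (by omega)
    have h2 := hell (n - 1) (by omega)
    have : (ell (Finsupp.single P₀ (n - 1) : Divisor k K) : ℤ) <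
        ell (Finsupp.single P₀ n : Divisor k K) := by omega
    exact_mod_cast this
  obtain ⟨x, hxL, hxN⟩ := exists_mem_L_notMem hK (hlt 2 le_rfl)
  obtain ⟨y, hyL, hyN⟩ := exists_mem_L_notMem hK (hlt 3 (by norm_num))
  have hvx : P₀.1 x = exp 2 := v_eq_of_mem_L_single hxL hxN
  have hvy : P₀.1 y = exp 3 := v_eq_of_mem_L_single hyL hyN
  have hx0 : x ≠ 0 := by rintro rfl; rw [map_zero] at hvx; exact exp_ne_zero hvx.symm
  have hy0 : y ≠ 0 := by rintro rfl; rw [map_zero] at hvy; exact exp_ne_zero hvy.symm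
  have hxr : x ∉ Set.range (algebraMap k K) := by
    rintro ⟨c, rfl⟩
    have := P₀.v_algebraMap_le c
    rw [hvx, ← exp_zero, exp_le_exp] at this
    omega
  have hyr : y ∉ Set.range (algebraMap k K) := by
    rintro ⟨c, rfl⟩
    have := P₀.v_algebraMap_le c
    rw [hvy, ← exp_zero, exp_le_exp] at this
    omega
  have hfx : Module.finrank (IntermediateField.adjoin k ({x} : Set K)) K = 2 := by
    have := deg_poleDiv hK hxr
    rw [poleDiv_eq_single hK (by norm_num) hxL hvx, Divisor.deg_single, hP] at this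
    have h2 : ((Module.finrank (IntermediateField.adjoin k ({x} : Set K)) K : ℕ) : ℤ) = 2 := by
      rw [← this]; norm_num
    exact_mod_cast h2
  have hfy : Module.finrank (IntermediateField.adjoin k ({y} : Set K)) K = 3 := by
    have := deg_poleDiv hK hyr
    rw [poleDiv_eq_single hK (by norm_num) hyL hvy, Divisor.deg_single, hP] at this
    have h2 : ((Module.finrank (IntermediateField.adjoin k ({y} : Set K)) K : ℕ) : ℤ) = 3 := by
      rw [← this]; norm_num
    exact_mod_cast h2
  have htop : IntermediateField.adjoin k ({x, y} : Set K) = ⊤ := by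
    rw [← IntermediateField.finrank_eq_one_iff_eq_top]
    have hle1 : IntermediateField.adjoin k ({x} : Set K) ≤
        IntermediateField.adjoin k ({x, y} : Set K) :=
      IntermediateField.adjoin.mono k _ _ (by simp)
    have hle2 : IntermediateField.adjoin k ({y} : Set K) ≤
        IntermediateField.adjoin k ({x, y} : Set K) :=
      IntermediateField.adjoin.mono k _ _ (by simp)
    have h1 := IntermediateField.relfinrank_mul_finrank_top hle1
    have h2 := IntermediateField.relfinrank_mul_finrank_top hle2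
    rw [hfx] at h1
    rw [hfy] at h2
    have d1 : Module.finrank (IntermediateField.adjoin k ({x, y} : Set K)) K ∣ 2 :=
      Dvd.intro_left _ h1
    have d2 : Module.finrank (IntermediateField.adjoin k ({x, y} : Set K)) K ∣ 3 :=
      Dvd.intro_left _ h2
    have d3 : Module.finrank (IntermediateField.adjoin k ({x, y} : Set K)) K ∣ 1 := by
      have := Nat.dvd_sub d2 d1
      simpa using this
    exact Nat.dvd_one.1 d3
  refine ⟨x, y, hxL, hyL, ?_, ?_, htop, ?_⟩
  · rw [P₀.ord_eq_of_v_eq hvx]
  · rw [P₀.ord_eq_of_v_eq hvy]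
  -- the seven elements of `L(6 P₀)`
  have hint : ∀ Q : Place k K, Q ≠ P₀ → Q.1 x ≤ 1 ∧ Q.1 y ≤ 1 := fun Q hQ =>
    ⟨v_le_one_of_mem_L_single hQ hxL, v_le_one_of_mem_L_single hQ hyL⟩
  have hmem6 : ∀ (a b : ℕ), (2 * a + 3 * b : ℤ) ≤ 6 →
      x ^ a * y ^ b ∈ L (Finsupp.single P₀ 6 : Divisor k K) := by
    intro a b hab Q
    rw [map_mul, map_pow, map_pow]
    by_cases hQ : Q = P₀
    · subst hQ
      rw [Finsupp.single_eq_same, hvx, hvy, ← exp_nsmul, ← exp_nsmul, ← exp_add, exp_le_exp]
      simp only [nsmul_eq_mul]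
      linarith
    · rw [Finsupp.single_eq_of_ne hQ, exp_zero]
      exact mul_le_one' (pow_le_one' (hint Q hQ).1 _) (pow_le_one' (hint Q hQ).2 _)
  let e : Fin 7 → L (Finsupp.single P₀ 6 : Divisor k K) :=
    ![⟨x ^ 0 * y ^ 0, hmem6 0 0 (by norm_num)⟩, ⟨x ^ 1 * y ^ 0, hmem6 1 0 (by norm_num)⟩,
      ⟨x ^ 0 * y ^ 1, hmem6 0 1 (by norm_num)⟩, ⟨x ^ 2 * y ^ 0, hmem6 2 0 (by norm_num)⟩,
      ⟨x ^ 1 * y ^ 1, hmem6 1 1 (by norm_num)⟩, ⟨x ^ 3 * y ^ 0, hmem6 3 0 (by norm_num)⟩,
      ⟨x ^ 0 * y ^ 2, hmem6 0 2 (by norm_num)⟩]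
  have hfin := finiteDimensional_L hK (Finsupp.single P₀ 6 : Divisor k K)
  have hnli : ¬ LinearIndependent k e := by
    intro hli
    have h1 := hli.fintype_card_le_finrank
    rw [Fintype.card_fin] at h1
    have h2 := hell 6 (by norm_num)
    have h3 : ((Module.finrank k (L (Finsupp.single P₀ 6 : Divisor k K)) : ℕ) : ℤ) = 6 := h2
    omega
  rw [Fintype.not_linearIndependent_iff] at hnli
  obtain ⟨c, hc, hcne⟩ := hnli
  have hrel : c 0 • (1 : K) + c 1 • x + c 2 • y + c 3 • x ^ 2 + c 4 • (x * y) + c 5 • x ^ 3 +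
      c 6 • y ^ 2 = 0 := by
    have := congrArg Subtype.val hc
    rw [Fin.sum_univ_seven] at this
    simpa [e] using this
  -- valuations
  have v1 : P₀.1 (1 : K) = exp 0 := by simp
  have vx2 : P₀.1 (x ^ 2) = exp 4 := by rw [map_pow, hvx, ← exp_nsmul]; norm_num
  have vxy : P₀.1 (x * y) = exp 5 := by rw [map_mul, hvx, hvy, ← exp_add]; norm_num
  have vx3 : P₀.1 (x ^ 3) = exp 6 := by rw [map_pow, hvx, ← exp_nsmul]; norm_num
  have vy2 : P₀.1 (y ^ 2) = exp 6 := by rw [map_pow, hvy, ← exp_nsmul]; norm_num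
  have hc6 : c 6 ≠ 0 := by
    intro h6
    have h0 := eq_zero_of_relation_six P₀ ![1, x, y, x ^ 2, x * y, x ^ 3]
      (by
        intro i
        fin_cases i
        · exact v1
        · exact hvx
        · exact hvy
        · exact vx2
        · exact vxy
        · exact vx3)
      ![c 0, c 1, c 2, c 3, c 4, c 5]
      (by
        rw [Fin.sum_univ_six]
        simp only [Matrix.cons_val_zero, Matrix.cons_val_one, Matrix.cons_val]
        rw [h6, zero_smul, add_zero] at hrel
        exact hrel)
    obtain ⟨i, hi⟩ := hcne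
    apply hi
    fin_cases i
    · exact congrFun h0 0
    · exact congrFun h0 1
    · exact congrFun h0 2
    · exact congrFun h0 3
    · exact congrFun h0 4
    · exact congrFun h0 5
    · exact h6
  have hc5 : c 5 ≠ 0 := by
    intro h5
    have h0 := eq_zero_of_relation_six P₀ ![1, x, y, x ^ 2, x * y, y ^ 2]
      (by
        intro i
        fin_cases i
        · exact v1
        · exact hvx
        · exact hvy
        · exact vx2
        · exact vxy
        · exact vy2)
      ![c 0, c 1, c 2, c 3, c 4, c 6]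
      (by
        rw [Fin.sum_univ_six]
        simp only [Matrix.cons_val_zero, Matrix.cons_val_one, Matrix.cons_val]
        rw [h5, zero_smul, add_zero] at hrel
        exact hrel)
    exact hc6 (congrFun h0 5)
  refine ⟨C (c 4 / c 6) * X + C (c 2 / c 6),
    C (c 5 / c 6) * X ^ 3 + C (c 3 / c 6) * X ^ 2 + C (c 1 / c 6) * X + C (c 0 / c 6),
    natDegree_linear_le, natDegree_cubic (div_ne_zero hc5 hc6), ?_⟩
  simp only [map_add, map_mul, map_pow, aeval_C, aeval_X, Algebra.smul_def, map_div₀,
    mul_one] at hrel ⊢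
  have hc6' : algebraMap k K (c 6) ≠ 0 := by
    rw [Ne, map_eq_zero_iff _ (algebraMap k K).injective]; exact hc6
  field_simp
  linear_combination hrel

end

end FunFld
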