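import Groth.Agent.Lib.Helper5.FunFld.Weil

/-! `dim_K W_K = 1`, duality and the Riemann–Roch theorem (helper5). -/

set_option autoImplicit false

namespace FunFld

open WithZero

variable {k K : Type*} [Field k] [Field K] [Algebra k K]

/-- Two injective linear maps into a space of too small dimension have a common nonzero value. -/
lemma exists_eq_of_finrank_lt {V W₁ W₂ : Type*} [AddCommGroup V] [Module k V]
    [AddCommGroup W₁] [Module k W₁] [AddCommGroup W₂] [Module k W₂] [FiniteDimensional k V]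
    (φ₁ : W₁ →ₗ[k] V) (φ₂ : W₂ →ₗ[k] V) (h₁ : Function.Injective φ₁)
    (h₂ : Function.Injective φ₂)
    (hlt : Module.finrank k V < Module.finrank k W₁ + Module.finrank k W₂) :
    ∃ (y₁ : W₁) (y₂ : W₂), φ₁ y₁ = φ₂ y₂ ∧ y₂ ≠ 0 := by
  have hsum := Submodule.finrank_sup_add_finrank_inf_eq (LinearMap.range φ₁) (LinearMap.range φ₂)
  have hle : Module.finrank k ↥(LinearMap.range φ₁ ⊔ LinearMap.range φ₂) ≤
      Module.finrank k V := Submodule.finrank_le _
  rw [LinearMap.finrank_range_of_inj h₁, LinearMap.finrank_range_of_inj h₂] at hsum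
  have hpos : 0 < Module.finrank k ↥(LinearMap.range φ₁ ⊓ LinearMap.range φ₂) := by omega
  have hnt : Nontrivial ↥(LinearMap.range φ₁ ⊓ LinearMap.range φ₂) :=
    Module.finrank_pos_iff.1 hpos
  rw [Submodule.nontrivial_iff_ne_bot, Submodule.ne_bot_iff] at hnt
  obtain ⟨η, ⟨⟨y₁, hy₁⟩, ⟨y₂, hy₂⟩⟩, hη0⟩ := hnt
  refine ⟨y₁, y₂, hy₁.trans hy₂.symm, ?_⟩
  rintro rfl
  rw [map_zero] at hy₂
  exact hη0 hy₂.symm

section

variable (hK : IsFunctionField k K)
  (h : ∀ (x : K), ∀ a ∈ adele k K, x • a ∈ adele k K)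

/-- Multiplication by `ω ∈ W(A)` as a linear map `L(A + B) → W(-B)`. -/
noncomputable def mulWLin (ω : Module.Dual k (adele k K)) (A B : Divisor k K) (hω : ω ∈ WD A) :
    L (A + B) →ₗ[k] WD (-B) where
  toFun y := ⟨mulW (y : K) (h y) ω, by
    have := mulW_mem_WD A (A + B) y y.2 (h y) ω hω
    rwa [sub_add_cancel_left] at this⟩
  map_add' y z := by
    apply Subtype.ext
    exact mulW_add h y z ω
  map_smul' c y := by
    apply Subtype.ext
    exact mulW_smul h c y ω

lemma mulWLin_injective {ω : Module.Dual k (adele k K)} (hω0 : ω ≠ 0) (A B : Divisor k K)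
    (hω : ω ∈ WD A) : Function.Injective (mulWLin h ω A B hω) := by
  intro y z hyz
  have := congrArg Subtype.val hyz
  exact Subtype.ext (mulW_injective_left h hω0 this)

include hK in
/-- Any two Weil differentials are proportional over `K`. -/
theorem exists_mulW_eq {ω₁ ω₂ : Module.Dual k (adele k K)} (h₁ : IsWeil ω₁) (h0 : ω₁ ≠ 0)
    (h₂ : IsWeil ω₂) : ∃ x : K, mulW x (h x) ω₁ = ω₂ := by
  by_cases h20 : ω₂ = 0
  · exact ⟨0, by rw [h20, mulW_zero]⟩
  obtain ⟨A₁, hA₁⟩ := h₁
  obtain ⟨A₂, hA₂⟩ := h₂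
  obtain ⟨P₀⟩ := nonempty_place hK
  have hP₀ : (1 : ℤ) ≤ P₀.deg := by exact_mod_cast P₀.deg_pos hK
  set g : ℤ := (genus k K : ℤ) with hg
  set m : ℕ := (3 * g - 2 - A₁.deg - A₂.deg).toNat + 1 with hm
  set B : Divisor k K := m • Finsupp.single P₀ 1 with hB
  have hBdeg : B.deg = m * P₀.deg := by
    rw [hB, Divisor.deg_nsmul, Divisor.deg_single, one_mul]
  have hm1 : 3 * g - 2 - A₁.deg - A₂.deg < m := by
    rw [hm]; push_cast
    have := Int.self_le_toNat (3 * g - 2 - A₁.deg - A₂.deg)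
    omega
  have hm0 : (1 : ℤ) ≤ m := by rw [hm]; push_cast; omega
  have hBdeg1 : (m : ℤ) ≤ B.deg := by rw [hBdeg]; nlinarith
  let φ₁ := mulWLin h ω₁ A₁ B hA₁
  let φ₂ := mulWLin h ω₂ A₂ B hA₂
  have hinj₁ := mulWLin_injective h h0 A₁ B hA₁
  have hinj₂ := mulWLin_injective h h20 A₂ B hA₂
  obtain ⟨hfinW, hrankW⟩ := finrank_WD hK (-B)
  have hL1 := finiteDimensional_L hK (A₁ + B)
  have hL2 := finiteDimensional_L hK (A₂ + B)
  have hell0 : ell (-B) = 0 := ell_eq_zero_of_deg_neg hK (by rw [Divisor.deg_neg]; omega)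
  have hR1 := deg_add_one_sub_ell_le_genus hK (A₁ + B)
  have hR2 := deg_add_one_sub_ell_le_genus hK (A₂ + B)
  rw [Divisor.deg_add] at hR1 hR2
  have hlt : Module.finrank k (WD (-B)) <
      Module.finrank k (L (A₁ + B)) + Module.finrank k (L (A₂ + B)) := by
    have e2 : (Module.finrank k (WD (-B)) : ℤ) = g - ((-B).deg + 1 - (0 : ℕ)) := by
      rw [hrankW, hell0]
    rw [Divisor.deg_neg] at e2
    have e3 : (Module.finrank k (L (A₁ + B)) : ℤ) = ell (A₁ + B) := rfl
    have e4 : (Module.finrank k (L (A₂ + B)) : ℤ) = ell (A₂ + B) := rfl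
    have : (Module.finrank k (WD (-B)) : ℤ) <
        (Module.finrank k (L (A₁ + B)) : ℤ) + (Module.finrank k (L (A₂ + B)) : ℤ) := by
      rw [e2, e3, e4]
      push_cast
      linarith
    exact_mod_cast this
  obtain ⟨y₁, y₂, hy, hy₂0'⟩ := exists_eq_of_finrank_lt (k := k) (V := ↥(WD (-B)))
    (W₁ := ↥(L (A₁ + B))) (W₂ := ↥(L (A₂ + B))) φ₁ φ₂ hinj₁ hinj₂ hlt
  have e₁₂ : mulW (y₁ : K) (h y₁) ω₁ = mulW (y₂ : K) (h y₂) ω₂ := congrArg Subtype.val hy
  have hy₂0 : (y₂ : K) ≠ 0 := by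
    intro h0'
    exact hy₂0' (Subtype.ext h0')
  refine ⟨(y₁ : K) * (y₂ : K)⁻¹, ?_⟩
  rw [← mulW_mulW h, e₁₂, mulW_mulW h, mul_inv_cancel₀ hy₂0, mulW_one]

include hK in
/-- Canonical divisors are linearly equivalent. -/
theorem canonical_equiv {C₁ C₂ : Divisor k K} (h₁ : IsCanonical k K C₁)
    (h₂ : IsCanonical k K C₂) : ∃ x : K, x ≠ 0 ∧ C₂ = C₁ + div k x := by
  have h := smul_mem_adele hK
  obtain ⟨ω₁, h10, hd1⟩ := h₁
  obtain ⟨ω₂, h20, hd2⟩ := h₂
  obtain ⟨x, hx⟩ := exists_mulW_eq hK h hd1.isWeil h10 hd2.isWeil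
  have hx0 : x ≠ 0 := by
    rintro rfl
    rw [mulW_zero] at hx
    exact h20 hx.symm
  refine ⟨x, hx0, ?_⟩
  have := isDivOf_mulW hK hx0 (h x) hd1
  rw [hx] at this
  exact hd2.unique this

include hK in
/-- Duality: multiplication by `ω` is a bijection `L(C - D) → W(D)`. -/
theorem existsUnique_mulW_eq {ω : Module.Dual k (adele k K)} {C : Divisor k K}
    (hω : IsDivOf ω C) (D : Divisor k K) {ω' : Module.Dual k (adele k K)} (hω' : ω' ∈ WD D) :
    ∃! x : K, x ∈ L (C - D) ∧ mulW x (h x) ω = ω' := by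
  obtain ⟨P₀⟩ := nonempty_place hK
  have hω0 := hω.ne_zero P₀
  obtain ⟨x, hx⟩ := exists_mulW_eq hK h hω.isWeil hω0 ⟨D, hω'⟩
  refine ⟨x, ⟨?_, hx⟩, fun y hy => mulW_injective_left h hω0 (hy.2.trans hx.symm)⟩
  rcases eq_or_ne x 0 with rfl | hx0
  · exact Submodule.zero_mem _
  · have h1 := isDivOf_mulW hK hx0 (h x) hω
    rw [hx] at h1
    have h2 := (h1 D).1 hω'
    rw [mem_L_iff_div hK hx0]
    have : C - D + div k x = C + div k x - D := by abel
    rw [this]
    exact sub_nonneg.2 h2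

include hK in
/-- `dim W(D) = ℓ(C - D)` for a canonical divisor `C`. -/
theorem finrank_WD_eq_ell {ω : Module.Dual k (adele k K)} {C : Divisor k K}
    (hω : IsDivOf ω C) (D : Divisor k K) : Module.finrank k (WD D) = ell (C - D) := by
  have h := smul_mem_adele hK
  obtain ⟨P₀⟩ := nonempty_place hK
  have hω0 := hω.ne_zero P₀
  have e : C - D + D = C := by abel
  let φ : L (C - D) →ₗ[k] WD D :=
    { toFun := fun y => ⟨mulW (y : K) (h y) ω, by
        have := mulW_mem_WD C (C - D) y y.2 (h y) ω hω.mem_WD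
        rwa [sub_sub_cancel] at this⟩
      map_add' := fun y z => by
        apply Subtype.ext
        exact mulW_add h y z ω
      map_smul' := fun c y => by
        apply Subtype.ext
        exact mulW_smul h c y ω }
  have hinj : Function.Injective φ := by
    intro y z hyz
    have := congrArg Subtype.val hyz
    exact Subtype.ext (mulW_injective_left h hω0 this)
  have hsurj : Function.Surjective φ := by
    intro ω'
    obtain ⟨x, ⟨hx1, hx2⟩, -⟩ := existsUnique_mulW_eq hK h hω D ω'.2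
    exact ⟨⟨x, hx1⟩, Subtype.ext hx2⟩
  exact (LinearEquiv.finrank_eq (LinearEquiv.ofBijective φ ⟨hinj, hsurj⟩)).symm

include hK in
/-- **Riemann–Roch**. -/
theorem riemann_roch {C : Divisor k K} (hC : IsCanonical k K C) (D : Divisor k K) :
    (ell D : ℤ) = D.deg + 1 - genus k K + ell (C - D) := by
  obtain ⟨ω, -, hω⟩ := hC
  have h1 := (finrank_WD hK D).2
  rw [finrank_WD_eq_ell hK hω D] at h1
  linarith

include hK in
/-- Existence of a canonical divisor. -/
theorem exists_isCanonical : ∃ C : Divisor k K, IsCanonical k K C := by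
  obtain ⟨P₀⟩ := nonempty_place hK
  have hP₀ : (1 : ℤ) ≤ P₀.deg := by exact_mod_cast P₀.deg_pos hK
  set D : Divisor k K := -((2 : ℕ) • Finsupp.single P₀ 1) with hD
  have hDdeg : D.deg = -(2 * P₀.deg) := by
    rw [hD, Divisor.deg_neg, Divisor.deg_nsmul, Divisor.deg_single]; push_cast; ring
  obtain ⟨hfin, hrank⟩ := finrank_WD hK D
  have hell : ell D = 0 := ell_eq_zero_of_deg_neg hK (by rw [hDdeg]; omega)
  have hpos : 0 < Module.finrank k (WD D) := by
    have : (0 : ℤ) < Module.finrank k (WD D) := by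
      rw [hrank, hDdeg, hell]
      have : (0 : ℤ) ≤ genus k K := Int.natCast_nonneg _
      push_cast
      linarith
    exact_mod_cast this
  have hnt : Nontrivial (WD D) := Module.finrank_pos_iff.1 hpos
  rw [Submodule.nontrivial_iff_ne_bot, Submodule.ne_bot_iff] at hnt
  obtain ⟨ω, hω, hω0⟩ := hnt
  obtain ⟨C, hC⟩ := exists_isDivOf hK ⟨D, hω⟩ hω0
  exact ⟨C, ω, hω0, hC⟩

include hK in
theorem ell_canonical {C : Divisor k K} (hC : IsCanonical k K C) : ell C = genus k K := by
  have := riemann_roch hK hC 0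
  rw [ell_zero hK, Divisor.deg_zero, sub_zero] at this
  have h2 : ((ell C : ℕ) : ℤ) = genus k K := by push_cast at this; linarith
  exact_mod_cast h2

include hK in
theorem deg_canonical {C : Divisor k K} (hC : IsCanonical k K C) :
    C.deg = 2 * (genus k K : ℤ) - 2 := by
  have := riemann_roch hK hC C
  rw [sub_self, ell_zero hK, ell_canonical hK hC] at this
  push_cast at this
  linarith

include hK in
/-- Characterisation of canonical divisors. -/
theorem isCanonical_iff (C : Divisor k K) :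
    IsCanonical k K C ↔ (ell C = genus k K ∧ C.deg = 2 * (genus k K : ℤ) - 2) := by
  constructor
  · intro hC
    exact ⟨ell_canonical hK hC, deg_canonical hK hC⟩
  · rintro ⟨h1, h2⟩
    obtain ⟨C', hC'⟩ := exists_isCanonical hK
    have hrr := riemann_roch hK hC' C
    have hdeg' := deg_canonical hK hC'
    rw [h1, h2] at hrr
    have hpos : 0 < ell (C' - C) := by
      have : (0 : ℤ) < ell (C' - C) := by linarith
      exact_mod_cast this
    obtain ⟨z, hz0, hz⟩ := (ell_pos_iff hK _).1 hpos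
    have hdeg0 : (C' - C + div k z).deg = 0 := by
      rw [Divisor.deg_add, Divisor.deg_sub, deg_div hK, hdeg', h2]; ring
    have h0 := Divisor.eq_zero_of_nonneg_of_deg_eq_zero hK hz hdeg0
    have hC : C = C' + div k z := by
      have : C = C' + div k z - (C' - C + div k z) := by abel
      rw [this, h0, sub_zero]
    obtain ⟨ω', hω'0, hω'⟩ := hC'
    have hh := smul_mem_adele hK
    refine ⟨mulW z (hh z) ω', ?_, ?_⟩
    · intro h0'
      exact hω'0 ((mulW_eq_zero_iff hh hz0 ω').1 h0')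
    · rw [hC]
      exact isDivOf_mulW hK hz0 (hh z) hω'

include hK in
/-- Divisors of degree `≥ 2g - 1` are nonspecial. -/
theorem ell_eq_of_large_deg {D : Divisor k K} (hD : 2 * (genus k K : ℤ) - 1 ≤ D.deg) :
    (ell D : ℤ) = D.deg + 1 - genus k K := by
  obtain ⟨C, hC⟩ := exists_isCanonical hK
  have hrr := riemann_roch hK hC D
  have hdeg := deg_canonical hK hC
  have h0 : ell (C - D) = 0 :=
    ell_eq_zero_of_deg_neg hK (by rw [Divisor.deg_sub, hdeg]; omega)
  rw [h0] at hrr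
  push_cast at hrr
  linarith

end

end FunFld
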