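import Groth.Agent.Lib.Helper5.FunFld.Criterion
import Groth.Agent.Lib.Helper5.FunFld.Weil2
import Groth.Agent.Lib.Helper5.FunFld.Weierstrass

/-! A birational projective map is nonsingular at all but finitely many places (helper5). -/

set_option autoImplicit false

namespace FunFld

open WithZero

variable {k K : Type*} [Field k] [Field K] [Algebra k K] {ι : Type*}

section

variable [IsAlgClosed k] (hK : IsFunctionField k K)

include hK in
/-- For a divisor of degree at least `2g`, some section has exact order `-D(P)` at `P`. -/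
theorem exists_mem_L_v_eq (D : Divisor k K) (hD : 2 * (genus k K : ℤ) ≤ D.deg) (P : Place k K) :
    ∃ x ∈ L D, P.1 x = exp (D P) := by
  have hdP := Place.deg_eq_one_of_isAlgClosed hK P
  have h1 := ell_eq_of_large_deg hK (D := D) (by omega)
  have h2 := ell_eq_of_large_deg hK (D := D - Finsupp.single P 1) (by
    rw [Divisor.deg_sub, Divisor.deg_single, hdP]; push_cast; omega)
  rw [Divisor.deg_sub, Divisor.deg_single, hdP] at h2
  push_cast at h2
  have hlt : ell (D - Finsupp.single P 1) < ell D := by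
    have : (ell (D - Finsupp.single P 1) : ℤ) < ell D := by omega
    exact_mod_cast this
  obtain ⟨x, hx, hxn⟩ := exists_mem_L_notMem hK hlt
  refine ⟨x, hx, ?_⟩
  rw [mem_L_sub_single_iff hx] at hxn
  by_contra hne
  exact hxn (P.v_le_exp_pred_of_lt (lt_of_le_of_ne (hx P) hne))

end

section

variable [IsAlgClosed k] (hK : IsFunctionField k K) [Fintype ι] [Nonempty ι]

include hK in
theorem finite_singular {φ : ι → K} (hφ : ∀ i, φ i ≠ 0)
    (hnc : ∀ j, ∃ i, φ i / φ j ∉ Set.range (algebraMap k K)) (j0 : ι)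
    (hbir : IntermediateField.adjoin k (Set.range fun i => φ i / φ j0) = ⊤) :
    {P : Place k K | ¬ IsNonsingularAt φ P}.Finite := by
  classical
  set ψ : ι → K := fun i => φ i / φ j0 with hψ
  have hψj : ψ j0 = 1 := div_self (hφ j0)
  obtain ⟨m0, hm0⟩ := exists_fg_bound hK ψ hψj (hnc j0)
  set E := mapDiv k ψ with hE
  set A := affRing k φ j0 with hA
  have hAeq : A = Algebra.adjoin k (Set.range ψ) := rfl
  have hE0 : 0 ≤ E := mapDiv_nonneg_of_one hK ψ hψj
  -- E has positive degree
  obtain ⟨i1, hi1⟩ := hnc j0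
  obtain ⟨Q1, hQ1⟩ := exists_place_ord_neg hK hi1
  have hEQ1 : 0 < E Q1 := by
    have h1 := mapDiv_apply hK ψ Q1
    have h2 := minOrd_le ψ Q1 i1
    rw [← hE] at h1
    have : Q1.ord (ψ i1) < 0 := hQ1
    omega
  have hEdeg : 1 ≤ E.deg := by
    by_contra hlt
    have h0 : E.deg = 0 := le_antisymm (by omega) (Divisor.deg_nonneg hE0)
    have := Divisor.eq_zero_of_nonneg_of_deg_eq_zero hK hE0 h0
    rw [this, Finsupp.zero_apply] at hEQ1
    exact lt_irrefl _ hEQ1
  -- every element of `K` is a quotient of elements of `A`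
  have hfrac : ∀ z : K, ∃ u ∈ A, ∃ w ∈ A, w ≠ 0 ∧ z * w = u := by
    intro z
    have hz : z ∈ IntermediateField.adjoin k (Set.range ψ) := by rw [hbir]; trivial
    rw [IntermediateField.mem_adjoin_iff_div] at hz
    obtain ⟨r, hr, s, hs, rfl⟩ := hz
    by_cases hs0 : s = 0
    · exact ⟨0, Subalgebra.zero_mem _, 1, Subalgebra.one_mem _, one_ne_zero, by simp [hs0]⟩
    · exact ⟨r, hr, s, hs, hs0, div_mul_cancel₀ r hs0⟩
  -- common denominator for `L (m0 • E)`
  set G : Submodule k K := L (m0 • E) with hG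
  have hfinG : FiniteDimensional k G := finiteDimensional_L hK _
  obtain ⟨w, hwA, hw0, hwG⟩ : ∃ w ∈ A, w ≠ 0 ∧ ∀ z ∈ G, z * w ∈ A := by
    let b := Module.finBasis k G
    choose u hu wl hwl hwl0 hzw using fun l => hfrac (b l : K)
    refine ⟨∏ l, wl l, Subalgebra.prod_mem _ (fun l _ => hwl l),
      Finset.prod_ne_zero_iff.2 (fun l _ => hwl0 l), ?_⟩
    intro z hz
    have hzrep := b.sum_repr ⟨z, hz⟩
    have hz' : z = ∑ l, b.repr ⟨z, hz⟩ l • (b l : K) := by
      have := congrArg (Subtype.val) hzrep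
      rw [Submodule.coe_sum] at this
      simp only [Submodule.coe_smul] at this
      exact this.symm
    rw [hz', Finset.sum_mul]
    refine Subalgebra.sum_mem _ (fun l _ => ?_)
    rw [smul_mul_assoc]
    refine Subalgebra.smul_mem _ ?_ _
    rw [← Finset.mul_prod_erase Finset.univ wl (Finset.mem_univ l), ← mul_assoc, hzw l]
    exact Subalgebra.mul_mem _ (hu l) (Subalgebra.prod_mem _ (fun l' _ => hwl l'))
  have hwB : ∀ z : K, (∀ Q : Place k K, E Q = 0 → Q.1 z ≤ 1) → z * w ∈ A := by
    intro z hz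
    have := hm0 z hz
    rw [← hAeq] at this
    clear hz
    induction this using Submodule.span_induction with
    | mem x hx => exact hwG x hx
    | zero => rw [zero_mul]; exact Subalgebra.zero_mem _
    | add x y _ _ hx hy => rw [add_mul]; exact Subalgebra.add_mem _ hx hy
    | smul a x _ hx =>
      rw [smul_mul_assoc]
      exact Subalgebra.mul_mem _ a.2 hx
  -- the bad set
  have hbad : ((E.support : Set (Place k K)) ∪
      Function.support fun P : Place k K => P.ord w).Finite :=
    (E.support.finite_toSet).union (finite_support_ord hK w)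
  refine hbad.subset ?_
  intro P hP
  by_contra hgood
  rw [Set.mem_union, not_or] at hgood
  apply hP
  have hEP : E P = 0 := by
    by_contra h
    exact hgood.1 (Finset.mem_coe.2 (Finsupp.mem_support_iff.2 h))
  have hwP : P.1 w = 1 := by
    have h : P.ord w = 0 := by
      by_contra h
      exact hgood.2 (Function.mem_support.2 h)
    rw [P.v_eq_exp_neg_ord hw0, h, neg_zero, exp_zero]
  have hj : IsLeast φ P j0 := isLeast_of_mapDiv_eq_zero hK (hφ j0) hφ hEP
  have hBloc : ∀ z : K, (∀ Q : Place k K, E Q = 0 → Q.1 z ≤ 1) → z ∈ locRing φ P j0 := by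
    intro z hz
    have := div_mem_locRing (P := P) (hwB z hz) hwA hwP
    rwa [mul_div_assoc, div_self hw0, mul_one] at this
  set g : ℤ := (genus k K : ℤ) with hg
  have hN : ∀ R : Place k K, 2 * g ≤ ((2 * genus k K + 1) • E - Finsupp.single R 1).deg := by
    intro R
    have hdR := Place.deg_eq_one_of_isAlgClosed hK R
    rw [Divisor.deg_sub, Divisor.deg_nsmul, Divisor.deg_single, hdR]
    push_cast
    nlinarith
  have hreg : ∀ (R : Place k K) (x : K), x ∈ L ((2 * genus k K + 1) • E - Finsupp.single R 1) →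
      ∀ Q : Place k K, E Q = 0 → Q.1 x ≤ 1 := by
    intro R x hx Q hQ
    refine (hx Q).trans ?_
    rw [← exp_zero, exp_le_exp, Finsupp.sub_apply, Finsupp.smul_apply, hQ, smul_zero, zero_sub,
      neg_nonpos]
    have := single_nonneg R (by norm_num : (0 : ℤ) ≤ 1) Q
    rwa [Finsupp.zero_apply] at this
  refine isNonsingularAt_of_param hK hφ hnc ?_ ?_
  · intro Q hQ
    by_contra hQP
    by_cases hEQ : E Q = 0
    · obtain ⟨x, hx, hxv⟩ := exists_mem_L_v_eq hK _ (hN Q) P
      rw [Finsupp.sub_apply, Finsupp.smul_apply, hEP, smul_zero, zero_sub,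
        Finsupp.single_eq_of_ne (Ne.symm hQP), neg_zero, exp_zero] at hxv
      have hxloc := hBloc x (hreg Q x hx)
      have hinv := inv_mem_locRing hj hxloc hxv
      have h1 := hQ _ ((mem_locRing_iff hj).1 hinv)
      have hxQ := hx Q
      rw [Finsupp.sub_apply, Finsupp.smul_apply, hEQ, smul_zero, zero_sub,
        Finsupp.single_eq_same] at hxQ
      have hx0 : x ≠ 0 := by
        rintro rfl
        rw [map_zero] at hxv
        exact zero_ne_one hxv
      rw [map_inv₀, inv_le_one₀ (pos_iff_ne_zero.2 (Q.v_ne_zero hx0))] at h1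
      have := h1.trans hxQ
      rw [← exp_zero, exp_le_exp] at this
      omega
    · obtain ⟨i, hi⟩ := exists_minOrd_eq ψ Q
      have h1 := mapDiv_apply hK ψ Q
      rw [← hE, hi] at h1
      have hpos : 0 < E Q := lt_of_le_of_ne (hE0 Q) (Ne.symm hEQ)
      have hmem : ψ i ∈ A := Algebra.subset_adjoin ⟨i, rfl⟩
      have h2 := hQ _ (inLocRing_of_mem_affRing hj hmem)
      have hψi0 : ψ i ≠ 0 := div_ne_zero (hφ i) (hφ j0)
      rw [Q.v_le_one_iff hψi0] at h2
      omega
  · obtain ⟨x, hx, hxv⟩ := exists_mem_L_v_eq hK _ (hN P) P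
    rw [Finsupp.sub_apply, Finsupp.smul_apply, hEP, smul_zero, zero_sub,
      Finsupp.single_eq_same] at hxv
    exact ⟨x, (mem_locRing_iff hj).1 (hBloc x (hreg P x hx)), hxv⟩

end

end FunFld
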