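import Groth.Agent.Lib.Helper5.FunFld.Plane3
import Groth.Agent.Lib.Helper5.FunFld.FiniteSing

/-! Projective normality in large degrees versus nonsingularity (helper5). -/

set_option autoImplicit false

namespace FunFld

open WithZero Polynomial

variable {k K : Type*} [Field k] [Field K] [Algebra k K] {ι : Type*}

section basics

/-- Forms of degree `m` divided by `φ_j^m` lie in the affine ring of the chart `j`. -/
lemma div_pow_mem_affRing (φ : ι → K) (j : ι) (m : ℕ) {w : K}
    (hw : w ∈ (Submodule.span k (Set.range φ)) ^ m) : w / φ j ^ m ∈ affRing k φ j := by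
  induction m generalizing w with
  | zero =>
    rw [pow_zero, Submodule.one_eq_span] at hw
    obtain ⟨c, rfl⟩ := Submodule.mem_span_singleton.1 hw
    rw [pow_zero, _root_.div_one, Algebra.smul_def, mul_one]
    exact Subalgebra.algebraMap_mem _ c
  | succ m ih =>
    rw [pow_succ] at hw
    refine Submodule.mul_induction_on hw (fun a ha b hb => ?_) (fun x y hx hy => ?_)
    · have : a * b / φ j ^ (m + 1) = (a / φ j ^ m) * (b / φ j) := by
        rw [pow_succ, mul_div_mul_comm]
      rw [this]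
      exact Subalgebra.mul_mem _ (ih ha) (span_ratio_le_affRing φ j (div_mem_span_ratio φ j hb))
    · rw [add_div]
      exact Subalgebra.add_mem _ hx hy

variable (hK : IsFunctionField k K) [Fintype ι] [Nonempty ι]

include hK in
/-- A tuple with an entry `1` has, at each place, a nonzero entry of least order. -/
lemma exists_isLeast_of_one (φ : ι → K) {j0 : ι} (hj0 : φ j0 = 1) (P : Place k K) :
    ∃ j, IsLeast φ P j ∧ P.1 (φ j) = exp (mapDiv k φ P) := by
  have hkey : ∃ j, φ j ≠ 0 ∧ P.ord (φ j) = minOrd φ P := by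
    obtain ⟨i, hi⟩ := exists_minOrd_eq φ P
    by_cases h0 : φ i = 0
    · refine ⟨j0, by rw [hj0]; exact one_ne_zero, ?_⟩
      rw [hi, h0, hj0, Place.ord_one, Place.ord_zero]
    · exact ⟨i, h0, hi.symm⟩
  obtain ⟨j, hj0', hj⟩ := hkey
  refine ⟨j, ⟨hj0', fun i => ?_⟩, ?_⟩
  · rcases eq_or_ne (φ i) 0 with h0 | h0
    · rw [h0, map_zero]; exact zero_le
    · rw [P.v_eq_exp_neg_ord h0, P.v_eq_exp_neg_ord hj0', exp_le_exp, hj]
      have := minOrd_le φ P i
      omega
  · rw [P.v_eq_exp_neg_ord hj0', mapDiv_apply hK, hj]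

end basics

section fill

variable [IsAlgClosed k] (hK : IsFunctionField k K) [Fintype ι] [Nonempty ι]

include hK in
/-- If the forms of every large degree `m` fill `L(m D)`, the map is nonsingular everywhere. -/
theorem isNonsingularAt_of_pow_eq_L (φ : ι → K) {j0 : ι} (hj0 : φ j0 = 1)
    (hdeg : 0 < (mapDiv k φ).deg)
    (hfill : ∃ m0 : ℕ, ∀ m, m0 ≤ m →
      (Submodule.span k (Set.range φ)) ^ m = L (m • mapDiv k φ)) (P : Place k K) :
    IsNonsingularAt φ P := by
  classical
  intro z hz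
  set D := mapDiv k φ with hD
  obtain ⟨m0, hm0⟩ := hfill
  obtain ⟨j, hj, hjv⟩ := exists_isLeast_of_one hK φ hj0 P
  set E := poleDiv (k := k) z with hE
  have hE0 : 0 ≤ E := poleDiv_nonneg z
  have hEP : E P = 0 := by
    rw [hE, poleDiv_apply hK]
    rcases eq_or_ne z 0 with rfl | hz0
    · simp
    · rw [P.v_le_one_iff hz0] at hz
      exact max_eq_right (by omega)
  have hzE : ∀ Q : Place k K, Q.1 z ≤ exp (E Q) := by
    intro Q
    rcases eq_or_ne z 0 with rfl | hz0
    · rw [map_zero]; exact zero_le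
    · rw [hE, poleDiv_apply hK, Q.v_eq_exp_neg_ord hz0, exp_le_exp]
      exact le_max_left _ _
  -- choose `m` large
  obtain ⟨m, hm1, hm2⟩ : ∃ m : ℕ, m0 ≤ m ∧ 2 * (genus k K : ℤ) ≤ (m • D - E).deg := by
    refine ⟨m0 + (2 * genus k K + E.deg.toNat), by omega, ?_⟩
    rw [Divisor.deg_sub, Divisor.deg_nsmul]
    have h1 : E.deg ≤ E.deg.toNat := Int.self_le_toNat _
    push_cast
    have h2 : (1 : ℤ) ≤ D.deg := hdeg
    have h3 : (0 : ℤ) ≤ (E.deg.toNat : ℤ) := Int.natCast_nonneg _
    have h4 : (0 : ℤ) ≤ (genus k K : ℤ) := Int.natCast_nonneg _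
    have h5 : (0 : ℤ) ≤ (m0 : ℤ) := Int.natCast_nonneg _
    nlinarith
  obtain ⟨s, hs, hsv⟩ := exists_mem_L_v_eq hK (m • D - E) hm2 P
  rw [Finsupp.sub_apply, hEP, sub_zero, Finsupp.smul_apply] at hsv
  have hsL : s ∈ L (m • D) := L_mono (by
    intro Q
    rw [Finsupp.sub_apply]
    have := hE0 Q
    rw [Finsupp.zero_apply] at this
    linarith) hs
  have hszL : z * s ∈ L (m • D) := by
    intro Q
    rw [map_mul]
    have h1 := hs Q
    rw [Finsupp.sub_apply] at h1
    calc Q.1 z * Q.1 s ≤ exp (E Q) * exp ((m • D) Q - E Q) := mul_le_mul' (hzE Q) h1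
      _ = exp ((m • D) Q) := by rw [← exp_add]; congr 1; ring
  rw [← hm0 m hm1] at hsL hszL
  have hu := div_pow_mem_affRing φ j m hszL
  have hw := div_pow_mem_affRing φ j m hsL
  have hj0' : φ j ^ m ≠ 0 := pow_ne_zero _ hj.1
  refine ⟨j, hj.1, hj.2, z * s / φ j ^ m, hu, s / φ j ^ m, hw, ?_, ?_⟩
  · rw [map_div₀, map_pow, hsv, hjv, ← exp_nsmul, div_self exp_ne_zero]
  · rw [mul_div_assoc]

end fill

end FunFld
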