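import Groth.Prelude.Def_W4bk4goldsch23FF
import Mathlib.RingTheory.Valuation.ValuationSubring
import Mathlib.Algebra.Order.GroupWithZero.Canonical

/-! Basic API for places of function fields (helper5). -/

set_option autoImplicit false

namespace FunFld

open WithZero

variable {k K : Type*} [Field k] [Field K] [Algebra k K]

namespace Place

variable (P : Place k K)

lemma v_algebraMap_le (c : k) : P.1 (algebraMap k K c) ≤ 1 := P.2.1 c

lemma surj : Function.Surjective P.1 := P.2.2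

lemma v_algebraMap {c : k} (hc : c ≠ 0) : P.1 (algebraMap k K c) = 1 := by
  have h1 := P.v_algebraMap_le c
  have h2 := P.v_algebraMap_le c⁻¹
  have h3 : P.1 (algebraMap k K c) * P.1 (algebraMap k K c⁻¹) = 1 := by
    rw [← map_mul, ← map_mul, mul_inv_cancel₀ hc, map_one, map_one]
  refine le_antisymm h1 ?_
  by_contra hlt
  rw [not_le] at hlt
  have : P.1 (algebraMap k K c) * P.1 (algebraMap k K c⁻¹) < 1 :=
    mul_lt_one_of_lt_of_le hlt h2
  exact absurd h3 (ne_of_lt this)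

lemma exists_uniformizer : ∃ t : K, P.1 t = exp (-1 : ℤ) := P.surj _

lemma exists_v_eq (n : ℤ) : ∃ t : K, P.1 t = exp n := P.surj _

lemma v_ne_zero {x : K} (hx : x ≠ 0) : P.1 x ≠ 0 := (Valuation.ne_zero_iff _).2 hx

lemma v_eq_exp_neg_ord {x : K} (hx : x ≠ 0) : P.1 x = exp (-(P.ord x)) := by
  rw [ord, neg_neg, exp_log (P.v_ne_zero hx)]

lemma ord_eq_of_v_eq {x : K} {n : ℤ} (h : P.1 x = exp n) : P.ord x = -n := by
  rw [ord, h, log_exp]

@[simp] lemma ord_zero : P.ord (0 : K) = 0 := by simp [ord]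

@[simp] lemma ord_one : P.ord (1 : K) = 0 := by simp [ord]

lemma ord_mul {x y : K} (hx : x ≠ 0) (hy : y ≠ 0) : P.ord (x * y) = P.ord x + P.ord y := by
  rw [ord, ord, ord, map_mul, log_mul (P.v_ne_zero hx) (P.v_ne_zero hy)]; ring

lemma ord_inv (x : K) : P.ord x⁻¹ = -P.ord x := by
  rw [ord, ord, map_inv₀, log_inv]

lemma ord_div {x y : K} (hx : x ≠ 0) (hy : y ≠ 0) : P.ord (x / y) = P.ord x - P.ord y := by
  rw [div_eq_mul_inv, P.ord_mul hx (inv_ne_zero hy), ord_inv]; ring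

lemma ord_pow (x : K) (n : ℕ) : P.ord (x ^ n) = n * P.ord x := by
  rw [ord, ord, map_pow, log_pow]; simp

lemma ord_zpow (x : K) (n : ℤ) : P.ord (x ^ n) = n * P.ord x := by
  rw [ord, ord, map_zpow₀, log_zpow]; simp

lemma ord_algebraMap (c : k) : P.ord (algebraMap k K c) = 0 := by
  rcases eq_or_ne c 0 with rfl | hc
  · simp
  · rw [ord, P.v_algebraMap hc]; simp

lemma v_le_exp_iff {x : K} (hx : x ≠ 0) {n : ℤ} : P.1 x ≤ exp n ↔ -n ≤ P.ord x := by
  rw [P.v_eq_exp_neg_ord hx, exp_le_exp]; constructor <;> intro h <;> linarith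

lemma v_lt_exp_iff {x : K} (hx : x ≠ 0) {n : ℤ} : P.1 x < exp n ↔ -n < P.ord x := by
  rw [P.v_eq_exp_neg_ord hx, exp_lt_exp]; constructor <;> intro h <;> linarith

lemma v_le_one_iff {x : K} (hx : x ≠ 0) : P.1 x ≤ 1 ↔ 0 ≤ P.ord x := by
  simpa using P.v_le_exp_iff hx (n := 0)

lemma v_lt_one_iff {x : K} (hx : x ≠ 0) : P.1 x < 1 ↔ 0 < P.ord x := by
  simpa using P.v_lt_exp_iff hx (n := 0)

lemma v_eq_one_iff {x : K} (hx : x ≠ 0) : P.1 x = 1 ↔ P.ord x = 0 := by
  rw [P.v_eq_exp_neg_ord hx, exp_eq_one]; constructor <;> intro h <;> linarith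

lemma mem_O_iff {x : K} : x ∈ P.O ↔ P.1 x ≤ 1 := Valuation.mem_valuationSubring_iff _ _

lemma algebraMap_mem_O (c : k) : algebraMap k K c ∈ P.O := P.mem_O_iff.2 (P.v_algebraMap_le c)

lemma v_smul (c : k) (x : K) (hc : c ≠ 0) : P.1 (c • x) = P.1 x := by
  rw [Algebra.smul_def, map_mul, P.v_algebraMap hc, one_mul]

lemma v_smul_le (c : k) (x : K) : P.1 (c • x) ≤ P.1 x := by
  rw [Algebra.smul_def, map_mul]
  exact (mul_le_mul' (P.v_algebraMap_le c) le_rfl).trans_eq (one_mul _)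

/-- Two places with the same underlying valuation function are equal. -/
lemma ext' {P Q : Place k K} (h : ∀ x, P.1 x = Q.1 x) : P = Q :=
  Subtype.ext (Valuation.ext h)

lemma ext_ord {P Q : Place k K} (h : ∀ x, x ≠ 0 → P.ord x = Q.ord x) : P = Q := by
  apply ext'
  intro x
  rcases eq_or_ne x 0 with rfl | hx
  · simp
  · rw [P.v_eq_exp_neg_ord hx, Q.v_eq_exp_neg_ord hx, h x hx]

end Place

end FunFld
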