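import Groth.Agent.Lib.Helper5.FunFld.Weil2
import Mathlib.FieldTheory.IntermediateField.Adjoin.Basic

/-! Rational function fields, genus zero (helper5). -/

set_option autoImplicit false

namespace FunFld

open WithZero

variable {k K : Type*} [Field k] [Field K] [Algebra k K]

section

variable (hK : IsFunctionField k K)

include hK in
/-- An effective divisor of degree one is a place of degree one. -/
lemma exists_single_of_nonneg_of_deg_one {B : Divisor k K} (hB : 0 ≤ B) (hdeg : B.deg = 1) :
    ∃ P : Place k K, P.deg = 1 ∧ B = Finsupp.single P 1 := by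
  classical
  have hne : B ≠ 0 := by
    rintro rfl
    rw [Divisor.deg_zero] at hdeg
    exact zero_ne_one hdeg
  obtain ⟨P, hP⟩ : ∃ P, B P ≠ 0 := by
    by_contra hall
    apply hne
    ext P
    by_contra hP
    exact hall ⟨P, hP⟩
  have hBP : 1 ≤ B P := by
    have := hB P
    change (0 : ℤ) ≤ B P at this
    omega
  have hB' : (0 : Divisor k K) ≤ B - Finsupp.single P 1 := by
    intro Q
    rw [Finsupp.sub_apply]
    by_cases hQ : Q = P
    · subst hQ
      rw [Finsupp.single_eq_same]
      change (0 : ℤ) ≤ _
      omega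
    · rw [Finsupp.single_eq_of_ne hQ, sub_zero]
      exact hB Q
  have hdeg' := Divisor.deg_nonneg hB'
  rw [Divisor.deg_sub, Divisor.deg_single, hdeg, one_mul] at hdeg'
  have hPdeg : (1 : ℤ) ≤ P.deg := by exact_mod_cast P.deg_pos hK
  have hP1 : P.deg = 1 := by
    have : (P.deg : ℤ) = 1 := by omega
    exact_mod_cast this
  refine ⟨P, hP1, ?_⟩
  have h0 := Divisor.eq_zero_of_nonneg_of_deg_eq_zero hK hB' (by
    rw [Divisor.deg_sub, Divisor.deg_single, hdeg, hP1]; norm_num)
  exact sub_eq_zero.1 h0

include hK in
lemma adjoin_eq_top_of_deg_poleDiv {x : K} (hx : x ∉ Set.range (algebraMap k K))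
    (h : (poleDiv (k := k) x).deg = 1) : IntermediateField.adjoin k ({x} : Set K) = ⊤ := by
  rw [← IntermediateField.finrank_eq_one_iff_eq_top]
  have := deg_poleDiv hK hx
  rw [h] at this
  exact_mod_cast this.symm

include hK in
lemma notMem_range_of_adjoin_eq_top {x : K}
    (h : IntermediateField.adjoin k ({x} : Set K) = ⊤) : x ∉ Set.range (algebraMap k K) := by
  intro hx
  have hbot : IntermediateField.adjoin k ({x} : Set K) = ⊥ := by
    rw [IntermediateField.adjoin_simple_eq_bot_iff, IntermediateField.mem_bot]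
    exact hx
  obtain ⟨⟨y, hy, -⟩, -⟩ := id hK
  have hyt : y ∈ (⊤ : IntermediateField k K) := IntermediateField.mem_top
  rw [← h, hbot, IntermediateField.mem_bot] at hyt
  obtain ⟨c, rfl⟩ := hyt
  exact hy (isAlgebraic_algebraMap c)

include hK in
lemma deg_poleDiv_of_adjoin_eq_top {x : K}
    (h : IntermediateField.adjoin k ({x} : Set K) = ⊤) : (poleDiv (k := k) x).deg = 1 := by
  rw [deg_poleDiv hK (notMem_range_of_adjoin_eq_top hK h),
    IntermediateField.finrank_eq_one_iff_eq_top.2 h]
  rfl

include hK in
lemma pow_mem_L_nsmul_poleDiv (x : K) {r i : ℕ} (hi : i ≤ r) :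
    x ^ i ∈ L (r • poleDiv (k := k) x) := by
  rcases eq_or_ne x 0 with rfl | hx0
  · rcases Nat.eq_zero_or_pos i with rfl | hipos
    · rw [pow_zero]
      intro P
      rw [map_one, Finsupp.smul_apply, ← exp_zero, exp_le_exp]
      exact nsmul_nonneg (poleDiv_nonneg _ P) r
    · rw [zero_pow hipos.ne']; exact Submodule.zero_mem _
  intro P
  rw [P.v_le_exp_iff (pow_ne_zero _ hx0), P.ord_pow, Finsupp.smul_apply, nsmul_eq_mul,
    poleDiv_apply hK]
  have h1 := le_max_left (-P.ord x) 0
  have h2 := le_max_right (-P.ord x) 0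
  have h3 : (i : ℤ) ≤ r := by exact_mod_cast hi
  have h4 : (0 : ℤ) ≤ i := Int.natCast_nonneg _
  nlinarith

include hK in
theorem genus_eq_zero_of_adjoin_eq_top {x : K}
    (h : IntermediateField.adjoin k ({x} : Set K) = ⊤) : genus k K = 0 := by
  have hx := notMem_range_of_adjoin_eq_top hK h
  have htr := hK.transcendental_of_notMem hx
  have hdeg := deg_poleDiv_of_adjoin_eq_top hK h
  obtain ⟨N, hN⟩ := exists_forall_deg_add_one_sub_ell_eq_genus hK
  set r : ℕ := N.toNat with hr
  have hfin := finiteDimensional_L hK (r • poleDiv (k := k) x)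
  let w : Fin (r + 1) → L (r • poleDiv (k := k) x) := fun i =>
    ⟨x ^ (i : ℕ), pow_mem_L_nsmul_poleDiv hK x (Nat.lt_succ_iff.1 i.2)⟩
  have hli : LinearIndependent k w := by
    apply LinearIndependent.of_comp (L (r • poleDiv (k := k) x)).subtype
    have : (L (r • poleDiv (k := k) x)).subtype ∘ w = (fun i : ℕ => x ^ i) ∘ Fin.val := by
      funext i; rfl
    rw [this]
    exact (linearIndependent_pow_of_transcendental htr).comp _ Fin.val_injective
  have h1 := hli.fintype_card_le_finrank
  rw [Fintype.card_fin] at h1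
  have h2 := hN (r • poleDiv (k := k) x) (by
    rw [Divisor.deg_nsmul, hdeg, mul_one, hr]
    exact Int.self_le_toNat N)
  rw [Divisor.deg_nsmul, hdeg, mul_one] at h2
  have h3 : ((r + 1 : ℕ) : ℤ) ≤ (ell (r • poleDiv (k := k) x) : ℤ) := by exact_mod_cast h1
  have h4 : (0 : ℤ) ≤ genus k K := Int.natCast_nonneg _
  have : (genus k K : ℤ) = 0 := by push_cast at h3; omega
  exact_mod_cast this

include hK in
lemma poleDiv_le_of_mem_L {D : Divisor k K} (hD : 0 ≤ D) {x : K} (hx : x ∈ L D) :
    poleDiv (k := k) x ≤ D := by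
  intro P
  rw [poleDiv_apply hK]
  rcases eq_or_ne x 0 with rfl | hx0
  · simp only [Place.ord_zero, neg_zero, max_self]
    exact hD P
  · have := (P.v_le_exp_iff hx0).1 (hx P)
    exact max_le (by omega) (hD P)

include hK in
/-- Genus zero with a rational place iff rational function field. -/
theorem genus_zero_iff_rational :
    (genus k K = 0 ∧ ∃ P : Place k K, P.deg = 1) ↔
      ∃ x : K, IntermediateField.adjoin k ({x} : Set K) = ⊤ := by
  constructor
  · rintro ⟨hg, P, hP⟩
    have hD0 : (0 : Divisor k K) ≤ Finsupp.single P 1 := by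
      intro Q
      by_cases hQ : Q = P
      · subst hQ; simp
      · simp [Finsupp.single_eq_of_ne hQ]
    have hdegP : Divisor.deg (Finsupp.single P 1 : Divisor k K) = 1 := by
      rw [Divisor.deg_single, hP]; norm_num
    have hell : (ell (Finsupp.single P 1 : Divisor k K) : ℤ) = 2 := by
      rw [ell_eq_of_large_deg hK (by rw [hg, hdegP]; norm_num), hdegP, hg]; norm_num
    have hfin := finiteDimensional_L hK (Finsupp.single P 1 : Divisor k K)
    obtain ⟨x, hxL, hx0⟩ : ∃ x ∈ L (Finsupp.single P 1 : Divisor k K),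
        x ∉ L (0 : Divisor k K) := by
      by_contra hall
      have hle : L (Finsupp.single P 1 : Divisor k K) ≤ L (0 : Divisor k K) := by
        intro x hx
        by_contra hx0
        exact hall ⟨x, hx, hx0⟩
      have hfin0 := finiteDimensional_L_zero hK
      have := Submodule.finrank_mono hle
      have h0 := ell_zero hK
      unfold ell at hell h0
      rw [h0] at this
      have : ((Module.finrank k (L (Finsupp.single P 1 : Divisor k K)) : ℕ) : ℤ) ≤ 1 := by
        exact_mod_cast this
      omega
    have hxr : x ∉ Set.range (algebraMap k K) := by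
      intro hx
      apply hx0
      rw [L_zero hK, Submodule.mem_one]
      exact hx
    refine ⟨x, adjoin_eq_top_of_deg_poleDiv hK hxr ?_⟩
    have h1 := Divisor.deg_mono (poleDiv_le_of_mem_L hK hD0 hxL)
    rw [hdegP] at h1
    have h2 := deg_poleDiv hK hxr
    have := hK.finiteDimensional_adjoin' hxr
    have h3 : 0 < Module.finrank (IntermediateField.adjoin k ({x} : Set K)) K := Module.finrank_pos
    omega
  · rintro ⟨x, hx⟩
    refine ⟨genus_eq_zero_of_adjoin_eq_top hK hx, ?_⟩
    obtain ⟨P, hP, -⟩ := exists_single_of_nonneg_of_deg_one hK (poleDiv_nonneg x)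
      (deg_poleDiv_of_adjoin_eq_top hK hx)
    exact ⟨P, hP⟩

include hK in
/-- An element with a single simple pole of degree one generates the field. -/
theorem rational_iff_simple_pole :
    (∃ (x : K) (P : Place k K), P.deg = 1 ∧ P.ord x = -1 ∧
        ∀ Q : Place k K, Q ≠ P → 0 ≤ Q.ord x) ↔
      ∃ x : K, IntermediateField.adjoin k ({x} : Set K) = ⊤ := by
  constructor
  · rintro ⟨x, P, hP, hPx, hQ⟩
    have hpd : poleDiv (k := k) x = Finsupp.single P 1 := by
      ext Q
      rw [poleDiv_apply hK]
      by_cases hQP : Q = P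
      · subst hQP
        rw [hPx, Finsupp.single_eq_same]; rfl
      · rw [Finsupp.single_eq_of_ne hQP, max_eq_right]
        have := hQ Q hQP
        omega
    have hxr : x ∉ Set.range (algebraMap k K) := by
      rintro ⟨c, rfl⟩
      rw [P.ord_algebraMap] at hPx
      omega
    refine ⟨x, adjoin_eq_top_of_deg_poleDiv hK hxr ?_⟩
    rw [hpd, Divisor.deg_single, hP]; norm_num
  · rintro ⟨x, hx⟩
    obtain ⟨P, hP, hB⟩ := exists_single_of_nonneg_of_deg_one hK (poleDiv_nonneg x)
      (deg_poleDiv_of_adjoin_eq_top hK hx)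
    refine ⟨x, P, hP, ?_, ?_⟩
    · have := congrArg (fun D : Divisor k K => D P) hB
      simp only [Finsupp.single_eq_same] at this
      rw [poleDiv_apply hK] at this
      have h2 := le_max_right (-P.ord x) 0
      rcases max_choice (-P.ord x) 0 with h | h
      · omega
      · omega
    · intro Q hQ
      have := congrArg (fun D : Divisor k K => D Q) hB
      simp only [Finsupp.single_eq_of_ne hQ] at this
      rw [poleDiv_apply hK] at this
      have h2 := le_max_left (-Q.ord x) 0
      omega

include hK in
/-- In positive genus, distinct rational places are not linearly equivalent. -/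
theorem eq_of_single_sub_single_eq_div (hg : 0 < genus k K) {P P' : Place k K} (hP : P.deg = 1)
    (hP' : P'.deg = 1) {x : K} (hx : x ≠ 0)
    (h : Finsupp.single P 1 - Finsupp.single P' 1 = div k x) : P = P' := by
  by_contra hne
  have hpd : poleDiv (k := k) x = Finsupp.single P' 1 := by
    ext Q
    rw [poleDiv_apply hK, ← div_apply hK, ← h, Finsupp.sub_apply]
    by_cases hQP' : Q = P'
    · subst hQP'
      rw [Finsupp.single_eq_same, Finsupp.single_eq_of_ne (Ne.symm hne)]; rfl
    · rw [Finsupp.single_eq_of_ne hQP']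
      by_cases hQP : Q = P
      · subst hQP
        rw [Finsupp.single_eq_same]; rfl
      · rw [Finsupp.single_eq_of_ne hQP]; rfl
  have hxr : x ∉ Set.range (algebraMap k K) := by
    rintro ⟨c, rfl⟩
    have := congrArg (fun D : Divisor k K => D P') hpd
    simp only [Finsupp.single_eq_same] at this
    rw [poleDiv_apply hK, P'.ord_algebraMap] at this
    simp at this
  have htop := adjoin_eq_top_of_deg_poleDiv hK hxr (by
    rw [hpd, Divisor.deg_single, hP']; norm_num)
  have := genus_eq_zero_of_adjoin_eq_top hK htop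
  omega

end

end FunFld
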