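import Groth.Agent.Lib.Helper5.FunFld.Exists

/-! Weak approximation for places of a function field (helper5). -/

set_option autoImplicit false

namespace FunFld

open WithZero

variable {k K : Type*} [Field k] [Field K] [Algebra k K]

section zm0

/-- Powers of an element `< 1` of `ℤᵐ⁰` eventually drop below any nonzero bound. -/
lemma exists_pow_lt_of_lt_one {a ε : WithZero (Multiplicative ℤ)} (ha : a < 1) (hε : ε ≠ 0) :
    ∃ s₀ : ℕ, ∀ s, s₀ ≤ s → a ^ s < ε := by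
  have hεpos : 0 < ε := pos_iff_ne_zero.2 hε
  rcases eq_or_ne a 0 with rfl | ha0
  · exact ⟨1, fun s hs => by rw [zero_pow (by omega)]; exact hεpos⟩
  · obtain ⟨m, rfl⟩ : ∃ m : ℤ, a = exp m := ⟨log a, (exp_log ha0).symm⟩
    obtain ⟨e, rfl⟩ : ∃ e : ℤ, ε = exp e := ⟨log ε, (exp_log hε).symm⟩
    have hm : m < 0 := by rwa [← exp_zero, exp_lt_exp] at ha
    refine ⟨(-e).toNat + 1, fun s hs => ?_⟩
    rw [← exp_nsmul, exp_lt_exp, nsmul_eq_mul]
    have h1 : (-e) ≤ ((-e).toNat : ℤ) := Int.self_le_toNat _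
    have h2 : ((-e).toNat : ℤ) + 1 ≤ (s : ℤ) := by exact_mod_cast hs
    nlinarith

/-- Powers of an element `> 1` of `ℤᵐ⁰` eventually exceed any bound. -/
lemma exists_lt_pow_of_one_lt {a b : WithZero (Multiplicative ℤ)} (ha : 1 < a) :
    ∃ r₀ : ℕ, ∀ r, r₀ ≤ r → b < a ^ r := by
  have ha0 : 0 < a := lt_trans zero_lt_one ha
  rcases eq_or_ne b 0 with rfl | hb
  · exact ⟨0, fun r _ => pow_pos ha0 r⟩
  · obtain ⟨s₀, hs₀⟩ := exists_pow_lt_of_lt_one (a := a⁻¹) (ε := b⁻¹)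
      ((inv_lt_one₀ ha0).2 ha) (inv_ne_zero hb)
    refine ⟨s₀, fun r hr => ?_⟩
    have := hs₀ r hr
    rw [inv_pow, inv_lt_inv₀ (pow_pos ha0 r) (pos_iff_ne_zero.2 hb)] at this
    exact this

end zm0

namespace Place

/-- A place is determined by its valuation ring. -/
theorem eq_of_O_le {P Q : Place k K} (h : ∀ y, P.1 y ≤ 1 → Q.1 y ≤ 1) : P = Q := by
  obtain ⟨t, ht⟩ := P.exists_uniformizer
  have ht0 : t ≠ 0 := by
    rintro rfl
    rw [map_zero] at ht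
    exact exp_ne_zero ht.symm
  have hunit : ∀ u : K, u ≠ 0 → P.1 u = 1 → Q.1 u = 1 := by
    intro u hu0 hu
    refine le_antisymm (h u hu.le) ?_
    have h2 : Q.1 u⁻¹ ≤ 1 := h _ (by rw [map_inv₀, hu, inv_one])
    rw [map_inv₀, inv_le_one₀ (pos_iff_ne_zero.2 (Q.v_ne_zero hu0))] at h2
    exact h2
  have hPt : P.ord t = 1 := by rw [P.ord_eq_of_v_eq ht]; ring
  have hmul : ∀ y : K, y ≠ 0 → Q.ord y = P.ord y * Q.ord t := by
    intro y hy0
    have hu0 : y * t ^ (-(P.ord y)) ≠ 0 := mul_ne_zero hy0 (zpow_ne_zero _ ht0)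
    have hu : P.1 (y * t ^ (-(P.ord y))) = 1 := by
      rw [P.v_eq_one_iff hu0, P.ord_mul hy0 (zpow_ne_zero _ ht0), P.ord_zpow, hPt]; ring
    have := hunit _ hu0 hu
    rw [Q.v_eq_one_iff hu0, Q.ord_mul hy0 (zpow_ne_zero _ ht0), Q.ord_zpow] at this
    linarith
  have hQt0 : 0 ≤ Q.ord t := by
    rw [← Q.v_le_one_iff ht0]
    apply h
    rw [ht, ← exp_zero, exp_le_exp]; norm_num
  obtain ⟨s, hs⟩ := Q.exists_uniformizer
  have hs0 : s ≠ 0 := by
    rintro rfl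
    rw [map_zero] at hs
    exact exp_ne_zero hs.symm
  have hQs : Q.ord s = 1 := by rw [Q.ord_eq_of_v_eq hs]; ring
  have h1 := hmul s hs0
  rw [hQs] at h1
  have hQt : Q.ord t = 1 := by
    have hdvd : Q.ord t ∣ 1 := ⟨P.ord s, by rw [h1]; ring⟩
    exact Int.eq_one_of_dvd_one hQt0 hdvd
  apply ext_ord
  intro y hy
  rw [hmul y hy, hQt, mul_one]

theorem exists_v_le_one_and_one_lt {P Q : Place k K} (hPQ : P ≠ Q) :
    ∃ y : K, P.1 y ≤ 1 ∧ 1 < Q.1 y := by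
  by_contra hcon
  apply hPQ
  apply eq_of_O_le
  intro y hy
  by_contra hlt
  exact hcon ⟨y, hy, not_le.1 hlt⟩

theorem exists_v_lt_one_and_one_lt {P Q : Place k K} (hPQ : P ≠ Q) :
    ∃ u : K, P.1 u < 1 ∧ 1 < Q.1 u := by
  obtain ⟨y₁, h1P, h1Q⟩ := exists_v_le_one_and_one_lt hPQ
  obtain ⟨y₂, h2Q, h2P⟩ := exists_v_le_one_and_one_lt (Ne.symm hPQ)
  have hy2 : y₂ ≠ 0 := by
    rintro rfl
    rw [map_zero] at h2P
    exact absurd h2P (not_lt.2 zero_le_one)
  have hy1 : y₁ ≠ 0 := by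
    rintro rfl
    rw [map_zero] at h1Q
    exact absurd h1Q (not_lt.2 zero_le_one)
  refine ⟨y₁ / y₂, ?_, ?_⟩
  · rw [map_div₀, div_lt_one₀ (lt_trans zero_lt_one h2P)]
    exact lt_of_le_of_lt h1P h2P
  · rw [map_div₀, one_lt_div₀ (pos_iff_ne_zero.2 (Q.v_ne_zero hy2))]
    exact lt_of_le_of_lt h2Q h1Q

/-- Weak approximation, step 1. -/
theorem exists_v_lt_one_and_forall_one_lt (P : Place k K) (S : Finset (Place k K))
    (hPS : P ∉ S) : ∃ u : K, P.1 u < 1 ∧ ∀ Q ∈ S, 1 < Q.1 u := by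
  classical
  induction S using Finset.induction_on with
  | empty =>
    obtain ⟨t, ht⟩ := P.exists_uniformizer
    refine ⟨t, ?_, by simp⟩
    rw [ht, ← exp_zero, exp_lt_exp]; norm_num
  | insert Q S' hQ ih =>
    have hPS' : P ∉ S' := fun h => hPS (Finset.mem_insert_of_mem h)
    have hPQ : P ≠ Q := fun h => hPS (h ▸ Finset.mem_insert_self _ _)
    obtain ⟨y, hyP, hyS⟩ := ih hPS'
    by_cases hyQ : 1 < Q.1 y
    · refine ⟨y, hyP, ?_⟩
      intro Q' hQ'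
      rcases Finset.mem_insert.1 hQ' with rfl | h
      exacts [hyQ, hyS _ h]
    · rw [not_lt] at hyQ
      obtain ⟨z, hzP, hzQ⟩ := exists_v_lt_one_and_one_lt hPQ
      have hr : ∀ Q' ∈ S', ∃ r₀ : ℕ, ∀ r, r₀ ≤ r → (Q'.1 z ≤ 1 ∨ Q'.1 y < Q'.1 z ^ r) := by
        intro Q' _
        by_cases h : Q'.1 z ≤ 1
        · exact ⟨0, fun r _ => Or.inl h⟩
        · obtain ⟨r₀, hr₀⟩ := exists_lt_pow_of_one_lt (b := Q'.1 y) (not_le.1 h)
          exact ⟨r₀, fun r hr => Or.inr (hr₀ r hr)⟩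
      choose! r₀ hr₀ using hr
      obtain ⟨r, hrdef⟩ : ∃ r, r = S'.sup r₀ + 1 := ⟨_, rfl⟩
      have hr1 : r ≠ 0 := by omega
      refine ⟨y + z ^ r, ?_, ?_⟩
      · refine Valuation.map_add_lt _ hyP ?_
        rw [map_pow]; exact pow_lt_one₀ zero_le hzP hr1
      · intro Q' hQ'
        rcases Finset.mem_insert.1 hQ' with rfl | h
        · have h1 : 1 < Q'.1 (z ^ r) := by rw [map_pow]; exact one_lt_pow₀ hzQ hr1
          have : Q'.1 y < Q'.1 (z ^ r) := lt_of_le_of_lt hyQ h1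
          rw [Valuation.map_add_eq_of_lt_right _ this]; exact h1
        · have hle : r₀ Q' ≤ r := by
            rw [hrdef]; exact (Finset.le_sup h).trans (Nat.le_succ _)
          rcases hr₀ Q' h r hle with h1 | h1
          · have : Q'.1 (z ^ r) < Q'.1 y :=
              lt_of_le_of_lt (by rw [map_pow]; exact pow_le_one' h1 _) (hyS Q' h)
            rw [Valuation.map_add_eq_of_lt_left _ this]; exact hyS Q' h
          · have h2 : Q'.1 y < Q'.1 (z ^ r) := by rwa [map_pow]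
            rw [Valuation.map_add_eq_of_lt_right _ h2]; exact lt_trans (hyS Q' h) h2

/-- Weak approximation, step 2: an element close to `1` at `P` and close to `0` on `S`. -/
theorem exists_approx_one (P : Place k K) (S : Finset (Place k K)) (hPS : P ∉ S)
    {ε : WithZero (Multiplicative ℤ)} (hε : ε ≠ 0) :
    ∃ w : K, P.1 (w - 1) < ε ∧ ∀ Q ∈ S, Q.1 w < ε := by
  classical
  obtain ⟨u, huP, huS⟩ := exists_v_lt_one_and_forall_one_lt P S hPS
  obtain ⟨sP, hsP⟩ := exists_pow_lt_of_lt_one huP hε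
  have hS : ∀ Q ∈ S, ∃ s₀ : ℕ, ∀ s, s₀ ≤ s → (Q.1 u)⁻¹ ^ s < ε := fun Q hQ =>
    exists_pow_lt_of_lt_one ((inv_lt_one₀ (lt_trans zero_lt_one (huS Q hQ))).2 (huS Q hQ)) hε
  choose! s₀ hs₀ using hS
  obtain ⟨s, hsdef⟩ : ∃ s, s = max (S.sup s₀) sP + 1 := ⟨_, rfl⟩
  have hs1 : s ≠ 0 := by omega
  have hPus : P.1 (u ^ s) < 1 := by rw [map_pow]; exact pow_lt_one₀ zero_le huP hs1
  have hP1 : P.1 (1 + u ^ s) = 1 := Valuation.map_one_add_of_lt _ hPus
  have hne : 1 + u ^ s ≠ 0 := by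
    intro h0; rw [h0, map_zero] at hP1; exact zero_ne_one hP1
  refine ⟨(1 + u ^ s)⁻¹, ?_, ?_⟩
  · have : (1 + u ^ s)⁻¹ - 1 = -(u ^ s) / (1 + u ^ s) := by
      field_simp; ring
    rw [this, map_div₀, Valuation.map_neg, hP1, div_one, map_pow]
    exact hsP s (by omega)
  · intro Q hQ
    have h1 : 1 < Q.1 (u ^ s) := by rw [map_pow]; exact one_lt_pow₀ (huS Q hQ) hs1
    have h2 : Q.1 (1 + u ^ s) = Q.1 (u ^ s) :=
      Valuation.map_add_eq_of_lt_right _ (by rwa [map_one])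
    rw [map_inv₀, h2, map_pow, ← inv_pow]
    exact hs₀ Q hQ s (by
      have := Finset.le_sup (f := s₀) hQ
      omega)

/-- Weak approximation, step 3: simultaneous approximation of a family at finitely many
places. -/
theorem exists_approx (S : Finset (Place k K)) (y : Place k K → K)
    {ε : WithZero (Multiplicative ℤ)} (hε : ε ≠ 0) :
    ∃ z : K, ∀ P ∈ S, P.1 (z - y P) < ε := by
  classical
  obtain ⟨B, hBdef⟩ : ∃ B, B = (S ×ˢ S).sup (fun p => p.2.1 (y p.1)) ⊔ 1 := ⟨_, rfl⟩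
  have hB1 : 1 ≤ B := by rw [hBdef]; exact le_sup_right
  have hBpos : 0 < B := lt_of_lt_of_le zero_lt_one hB1
  have hB : ∀ P ∈ S, ∀ Q ∈ S, Q.1 (y P) ≤ B := by
    intro P hP Q hQ
    rw [hBdef]
    exact le_sup_of_le_left
      (Finset.le_sup (f := fun p : Place k K × Place k K => p.2.1 (y p.1))
        (Finset.mk_mem_product hP hQ))
  have hε' : ε / B ≠ 0 := div_ne_zero hε hBpos.ne'
  have hw : ∀ P : Place k K, ∃ w : K, P.1 (w - 1) < ε / B ∧ ∀ Q ∈ S.erase P, Q.1 w < ε / B :=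
    fun P => exists_approx_one P (S.erase P) (Finset.notMem_erase _ _) hε'
  choose w hw1 hw2 using hw
  have hmul : ∀ a b : WithZero (Multiplicative ℤ), a ≤ B → b < ε / B → a * b < ε := by
    intro a b ha hb
    calc a * b ≤ B * b := mul_le_mul_left ha _
      _ < B * (ε / B) := mul_lt_mul_of_pos_left hb hBpos
      _ = ε := mul_div_cancel₀ _ hBpos.ne'
  refine ⟨∑ P ∈ S, y P * w P, fun Q hQ => ?_⟩
  have hsplit : ∑ P ∈ S, y P * w P - y Q = y Q * (w Q - 1) + ∑ P ∈ S.erase Q, y P * w P := by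
    rw [← Finset.add_sum_erase _ _ hQ]; ring
  rw [hsplit]
  refine Valuation.map_add_lt _ ?_ (Valuation.map_sum_lt _ hε (fun P hP => ?_))
  · rw [map_mul]; exact hmul _ _ (hB Q hQ Q hQ) (hw1 Q)
  · rw [map_mul]
    have hPS : P ∈ S := Finset.mem_of_mem_erase hP
    have hQP : Q ∈ S.erase P := Finset.mem_erase.2 ⟨(Finset.ne_of_mem_erase hP).symm, hQ⟩
    exact hmul _ _ (hB P hPS Q hQ) (hw2 P Q hQP)

/-- Weak approximation theorem: exact orders of `z - x P` at finitely many places. -/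
theorem exists_approx_eq (S : Finset (Place k K)) (x : Place k K → K) (r : Place k K → ℤ) :
    ∃ z : K, ∀ P ∈ S, P.1 (z - x P) = exp (r P) := by
  classical
  obtain ⟨ε, hεdef⟩ : ∃ ε : WithZero (Multiplicative ℤ), ε = exp (-(∑ P ∈ S, |r P|)) := ⟨_, rfl⟩
  have hε0 : ε ≠ 0 := by rw [hεdef]; exact exp_ne_zero
  have hεle : ∀ P ∈ S, ε ≤ exp (r P) := by
    intro P hP
    rw [hεdef, exp_le_exp]
    have h1 : |r P| ≤ ∑ P ∈ S, |r P| :=
      Finset.single_le_sum (f := fun P => |r P|) (fun _ _ => abs_nonneg _) hP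
    have h2 := neg_abs_le (r P)
    linarith
  choose t ht using fun P : Place k K => P.exists_v_eq (r P)
  obtain ⟨z₁, hz₁⟩ := exists_approx S x hε0
  obtain ⟨z₂, hz₂⟩ := exists_approx S t hε0
  refine ⟨z₁ + z₂, fun P hP => ?_⟩
  have h2 : P.1 z₂ = exp (r P) := by
    have : z₂ = t P + (z₂ - t P) := by ring
    rw [this, Valuation.map_add_eq_of_lt_left _ (by
      rw [ht]; exact lt_of_lt_of_le (hz₂ P hP) (hεle P hP)), ht]
  have : z₁ + z₂ - x P = z₂ + (z₁ - x P) := by ring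
  rw [this, Valuation.map_add_eq_of_lt_left _ (by
    rw [h2]; exact lt_of_lt_of_le (hz₁ P hP) (hεle P hP)), h2]

end Place

end FunFld
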