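import Groth.Prelude.Def_W4bk4goldsch23FF
import Mathlib.FieldTheory.LinearDisjoint
import Mathlib.FieldTheory.PrimitiveElement
import Mathlib.FieldTheory.IsAlgClosed.AlgebraicClosure
import Mathlib.RingTheory.Polynomial.GaussLemma
import Mathlib.FieldTheory.Perfect

/-! Geometric function fields: separable constant extensions (helper5). -/

set_option autoImplicit false

namespace FunFld

open Polynomial TensorProduct

section minpoly

variable {k K E : Type*} [Field k] [Field K] [Field E] [Algebra k K] [Algebra K E] [Algebra k E]
  [IsScalarTower k K E]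

/-- If `k` is algebraically closed in `K`, the minimal polynomial over `K` of an element
algebraic over `k` has coefficients in `k`. -/
theorem minpoly_map_eq_of_algClosedIn
    (hcl : ∀ y : K, IsAlgebraic k y → y ∈ Set.range (algebraMap k K)) {β : E}
    (hβ : IsIntegral k β) : (minpoly k β).map (algebraMap k K) = minpoly K β := by
  have hβK : IsIntegral K β := hβ.tower_top
  have hdvd : minpoly K β ∣ (minpoly k β).map (algebraMap k K) :=
    minpoly.dvd_map_of_isScalarTower k K β
  have hlift := integralClosure.mem_lifts_of_monic_of_dvd_map K (minpoly.monic hβ)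
    (minpoly.monic hβK) hdvd
  have hlift' : minpoly K β ∈ lifts (algebraMap k K) := by
    rw [lifts_iff_coeff_lifts] at hlift ⊢
    intro n
    obtain ⟨y, hy⟩ := hlift n
    rw [← hy]
    exact hcl _ (y.2.isAlgebraic)
  obtain ⟨g₀, hg₀, hdeg, hmon⟩ := lifts_and_natDegree_eq_and_monic hlift' (minpoly.monic hβK)
  have hdvd₀ : g₀ ∣ minpoly k β := by
    rw [← Polynomial.map_dvd_map' (algebraMap k K), hg₀]
    exact hdvd
  have hirr := minpoly.irreducible hβ
  have hnu : ¬ IsUnit g₀ := by
    intro hu
    have : IsUnit (minpoly K β) := by rw [← hg₀]; exact hu.map (mapRingHom (algebraMap k K))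
    exact minpoly.not_isUnit K β this
  have hassoc : Associated g₀ (minpoly k β) := by
    obtain ⟨c, hc⟩ := hdvd₀
    rcases hirr.isUnit_or_isUnit hc with h | h
    · exact absurd h hnu
    · exact ⟨h.unit, by rw [hc]; rfl⟩
  have heq : g₀ = minpoly k β := eq_of_monic_of_associated hmon (minpoly.monic hβ) hassoc
  rw [← heq, hg₀]

end minpoly

section tensor

variable {k : Type*} {K : Type*} [Field k] [Field K] [Algebra k K]

/-- If `k` is algebraically closed in `K` then `k' ⊗[k] K` is a field for every finite
separable extension `k'/k`. -/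
theorem isField_tensor_of_isSeparable
    (hcl : ∀ y : K, IsAlgebraic k y → y ∈ Set.range (algebraMap k K))
    (k' : Type*) [Field k'] [Algebra k k'] [FiniteDimensional k k'] [Algebra.IsSeparable k k'] :
    IsField (k' ⊗[k] K) := by
  let E := AlgebraicClosure K
  let pb := Field.powerBasisOfFiniteOfSeparable k k'
  let fa : k' →ₐ[k] E := IsAlgClosed.lift
  let A : IntermediateField k E := fa.fieldRange
  let e : k' ≃ₐ[k] A := AlgEquiv.ofInjectiveField fa
  let b : Module.Basis (Fin pb.dim) k A := pb.basis.map e.toLinearEquiv
  set β : E := fa pb.gen with hβdef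
  have hβ : IsIntegral k β := (Algebra.IsIntegral.isIntegral pb.gen).map fa
  have hmp : minpoly k β = minpoly k pb.gen := minpoly.algHom_eq fa fa.injective pb.gen
  have hdeg : (minpoly K β).natDegree = pb.dim := by
    rw [← minpoly_map_eq_of_algClosedIn hcl hβ, natDegree_map, hmp, pb.natDegree_minpoly]
  have hli : LinearIndependent K (A.val ∘ b) := by
    have h1 := linearIndependent_pow (K := K) β
    have h2 : (A.val ∘ b) = (fun i : Fin (minpoly K β).natDegree => β ^ (i : ℕ)) ∘
        (Fin.cast hdeg.symm) := by
      funext i
      simp only [Function.comp_apply, b, Module.Basis.map_apply, PowerBasis.coe_basis]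
      change fa (pb.gen ^ (i : ℕ)) = _
      rw [map_pow]
      rfl
    rw [h2]
    exact h1.comp _ (Fin.cast_injective _)
  have hLD : A.LinearDisjoint K := IntermediateField.LinearDisjoint.of_basis_left b hli
  have hA : Algebra.IsAlgebraic k A := e.isAlgebraic
  have hF : IsField (A ⊗[k] K) := hLD.isField_of_isAlgebraic (Or.inl hA)
  exact (Algebra.TensorProduct.congr e (AlgEquiv.refl : K ≃ₐ[k] K)).toMulEquiv.isField hF

end tensor

/-- Over a perfect ground field every function field of one variable is geometric. -/
theorem isGeometric_of_perfectField (k : Type*) (K : Type*) [Field k] [Field K] [Algebra k K]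
    [PerfectField k] (hK : IsFunctionField k K) : IsGeometric k K := by
  intro k' _ _ hfin
  have : Algebra.IsSeparable k k' := Algebra.IsAlgebraic.isSeparable_of_perfectField
  exact isField_tensor_of_isSeparable hK.2 k'

end FunFld
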