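import Groth.Agent.Lib.Helper5.FunFld.Weierstrass
import Mathlib.FieldTheory.IsAlgClosed.Basic

/-! Linear series `V ⊆ L(D)` and vanishing filtrations (helper5). -/

set_option autoImplicit false

namespace FunFld

open WithZero

variable {k K : Type*} [Field k] [Field K] [Algebra k K]

/-- Over an algebraically closed constant field every place has degree one. -/
theorem Place.deg_eq_one_of_isAlgClosed [IsAlgClosed k] (hK : IsFunctionField k K)
    (P : Place k K) : P.deg = 1 := by
  have hfin := P.finiteDimensional_residueField hK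
  let _ : Algebra k (IsLocalRing.ResidueField P.O) := IsLocalRing.ResidueField.algebra P.O
  have : Algebra.IsIntegral k (IsLocalRing.ResidueField P.O) :=
    @Algebra.IsIntegral.of_finite k (IsLocalRing.ResidueField P.O) _ _ _ hfin
  have hbij : Function.Bijective (algebraMap k (IsLocalRing.ResidueField P.O)) :=
    IsAlgClosed.algebraMap_bijective_of_isIntegral
  unfold Place.deg
  have e : k ≃ₗ[k] IsLocalRing.ResidueField P.O :=
    LinearEquiv.ofBijective (Algebra.linearMap k _) hbij
  exact (e.finrank_eq).symm.trans (Module.finrank_self k)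

/-- `V(-nP) = V ∩ L(D - nP)`. -/
noncomputable def Vn (V : Submodule k K) (D : Divisor k K) (P : Place k K) (n : ℤ) : Submodule k K :=
  V ⊓ L (D - Finsupp.single P n)

lemma Vn_def (V : Submodule k K) (D : Divisor k K) (P : Place k K) (n : ℤ) :
    Vn V D P n = V ⊓ L (D - Finsupp.single P n) := rfl

lemma single_mono (P : Place k K) {m n : ℤ} (h : m ≤ n) :
    (Finsupp.single P m : Divisor k K) ≤ Finsupp.single P n := by
  classical
  intro Q
  by_cases hQ : Q = P
  · subst hQ; simpa using h
  · simp [Finsupp.single_eq_of_ne hQ]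

lemma Vn_anti (V : Submodule k K) (D : Divisor k K) (P : Place k K) {m n : ℤ} (h : m ≤ n) :
    Vn V D P n ≤ Vn V D P m :=
  inf_le_inf_left _ (L_mono (sub_le_sub_left (single_mono P h) D))

lemma Vn_le (V : Submodule k K) (D : Divisor k K) (P : Place k K) (n : ℤ) : Vn V D P n ≤ V :=
  inf_le_left

lemma Vn_zero {V : Submodule k K} {D : Divisor k K} (hV : V ≤ L D) (P : Place k K) :
    Vn V D P 0 = V := by
  rw [Vn, Finsupp.single_zero, sub_zero]
  exact inf_eq_left.2 hV

lemma Vn_of_nonpos {V : Submodule k K} {D : Divisor k K} (hV : V ≤ L D) (P : Place k K) {n : ℤ}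
    (hn : n ≤ 0) : Vn V D P n = V :=
  le_antisymm (Vn_le _ _ _ _) (by
    have := Vn_anti V D P hn
    rwa [Vn_zero hV P] at this)

section ff

variable (hK : IsFunctionField k K)

include hK in
lemma Vn_eq_bot (V : Submodule k K) {D : Divisor k K} (P : Place k K) {n : ℤ}
    (hn : D.deg < n * (P.deg : ℤ)) : Vn V D P n = ⊥ := by
  rw [Vn, L_eq_bot_of_deg_neg hK, inf_bot_eq]
  rw [Divisor.deg_sub, Divisor.deg_single]
  linarith

include hK in
/-- Members vanishing to high order at two different places. -/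
lemma Vn_inf_Vn_eq_bot (V : Submodule k K) {D : Divisor k K} {P Q : Place k K} (hPQ : P ≠ Q)
    {m n : ℤ} (hmn : D.deg < m * (P.deg : ℤ) + n * (Q.deg : ℤ)) :
    Vn V D P m ⊓ Vn V D Q n = ⊥ := by
  classical
  rw [eq_bot_iff]
  intro x hx
  have h1 : x ∈ L (D - Finsupp.single P m - Finsupp.single Q n) := by
    intro R
    by_cases hR : R = P
    · subst hR
      have := hx.1.2 R
      simpa [Finsupp.single_eq_of_ne hPQ] using this
    · have := hx.2.2 R
      simpa [Finsupp.single_eq_of_ne hR] using this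
  rw [L_eq_bot_of_deg_neg hK] at h1
  · exact h1
  · rw [Divisor.deg_sub, Divisor.deg_sub, Divisor.deg_single, Divisor.deg_single]
    linarith

include hK in
lemma finrank_Vn_add_le (V : Submodule k K) [FiniteDimensional k V] {D : Divisor k K}
    {P Q : Place k K} (hPQ : P ≠ Q)
    {m n : ℤ} (hmn : D.deg < m * (P.deg : ℤ) + n * (Q.deg : ℤ)) :
    Module.finrank k (Vn V D P m) + Module.finrank k (Vn V D Q n) ≤ Module.finrank k V := by
  have : FiniteDimensional k (Vn V D P m) := Submodule.finiteDimensional_of_le (Vn_le _ _ _ _)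
  have : FiniteDimensional k (Vn V D Q n) := Submodule.finiteDimensional_of_le (Vn_le _ _ _ _)
  have h1 := Submodule.finrank_sup_add_finrank_inf_eq (Vn V D P m) (Vn V D Q n)
  rw [Vn_inf_Vn_eq_bot hK V hPQ hmn, finrank_bot, add_zero] at h1
  rw [← h1]
  exact Submodule.finrank_mono (sup_le (Vn_le _ _ _ _) (Vn_le _ _ _ _))

end ff

/-- The sum `∑_{j=1}^{d} dim V(-jP)` (the sum of the vanishing orders of `V` at `P`). -/
noncomputable def Wsum (V : Submodule k K) (D : Divisor k K) (P : Place k K) (d : ℕ) : ℕ :=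
  ∑ j ∈ Finset.range d, Module.finrank k ↥(V ⊓ L (D - Finsupp.single P ((j : ℤ) + 1)))

lemma Wsum_def (V : Submodule k K) (D : Divisor k K) (P : Place k K) (d : ℕ) :
    Wsum V D P d =
      ∑ j ∈ Finset.range d, Module.finrank k ↥(V ⊓ L (D - Finsupp.single P ((j : ℤ) + 1))) := rfl

/-- Reindexing `j ↦ d - 1 - j`. -/
lemma Wsum_reflect (V : Submodule k K) (D : Divisor k K) (P : Place k K) (d : ℕ) :
    Wsum V D P d = ∑ j ∈ Finset.range d,
      Module.finrank k ↥(V ⊓ L (D - Finsupp.single P ((d : ℤ) + 1 - ((j + 1 : ℕ) : ℤ)))) := by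
  rw [Wsum, ← Finset.sum_range_reflect]
  refine Finset.sum_congr rfl (fun n hn => ?_)
  rw [Finset.mem_range] at hn
  have hcast : ((d - 1 - n : ℕ) : ℤ) + 1 = (d : ℤ) + 1 - ((n + 1 : ℕ) : ℤ) := by
    rw [Nat.cast_sub (by omega), Nat.cast_sub (by omega)]
    push_cast
    ring
  rw [hcast]

/-- Two-point bound: `∑ m_i(P) + ∑ m_i(Q) ≤ (r+1) d`. -/
theorem Wsum_add_Wsum_le [IsAlgClosed k] (hK : IsFunctionField k K) {V : Submodule k K}
    {D : Divisor k K} {d r : ℕ} (hD : D.deg = d) (hVr : Module.finrank k ↥V = r + 1)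
    {P Q : Place k K} (hPQ : P ≠ Q) : Wsum V D P d + Wsum V D Q d ≤ (r + 1) * d := by
  have hfinV : FiniteDimensional k V := Module.finite_of_finrank_pos (by omega)
  have hdP := Place.deg_eq_one_of_isAlgClosed hK P
  have hdQ := Place.deg_eq_one_of_isAlgClosed hK Q
  rw [Wsum_reflect V D Q d, Wsum, ← Finset.sum_add_distrib]
  calc _ ≤ ∑ n ∈ Finset.range d, (r + 1) := by
        refine Finset.sum_le_sum (fun n hn => ?_)
        have := finrank_Vn_add_le hK V hPQ (D := D) (m := (n : ℤ) + 1)
          (n := (d : ℤ) + 1 - ((n + 1 : ℕ) : ℤ)) (by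
            rw [hD, hdP, hdQ]; push_cast; linarith)
        rw [hVr] at this
        exact this
    _ = (r + 1) * d := by rw [Finset.sum_const, Finset.card_range, smul_eq_mul, mul_comm]

/-- Compatibility at a node forces the vanishing-order sums to add up to `(r+1) d`. -/
theorem Wsum_add_Wsum_eq_of_compat {K₂ : Type*} [Field K₂] [Algebra k K₂]
    {V : Submodule k K} {D : Divisor k K} {V₂ : Submodule k K₂} {D₂ : Divisor k K₂} {d r : ℕ}
    {B : Place k K} {A : Place k K₂}
    (hcomp : ∀ m : ℕ, m ≤ d + 1 →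
      Module.finrank k ↥(V ⊓ L (D - Finsupp.single B ((m : ℤ)))) +
        Module.finrank k ↥(V₂ ⊓ L (D₂ - Finsupp.single A ((d : ℤ) + 1 - m))) = r + 1) :
    Wsum V D B d + Wsum V₂ D₂ A d = (r + 1) * d := by
  rw [Wsum_reflect V₂ D₂ A d, Wsum, ← Finset.sum_add_distrib]
  calc _ = ∑ n ∈ Finset.range d, (r + 1) := by
        refine Finset.sum_congr rfl (fun n hn => ?_)
        rw [Finset.mem_range] at hn
        have := hcomp (n + 1) (by omega)
        push_cast at this ⊢
        exact this
    _ = (r + 1) * d := by rw [Finset.sum_const, Finset.card_range, smul_eq_mul, mul_comm]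


lemma two_mul_half_mul_succ (r : ℕ) : 2 * (r * (r + 1) / 2) = r * (r + 1) :=
  Nat.two_mul_div_two_of_even (Nat.even_mul_succ_self r)

/-- Along a chain of components with compatible aspects, the weight at the incoming node stays
at least `c` once the weight at the first outgoing node is at most `(r+1)(d-r) - c`. -/
theorem chain_Wsum_ge [IsAlgClosed k] {n' : ℕ} {U : Fin (n' + 2) → Type*} [∀ l, Field (U l)]
    [∀ l, Algebra k (U l)] (hU : ∀ l, IsFunctionField k (U l))
    {d r : ℕ} {D : ∀ l, Divisor k (U l)} (hD : ∀ l, (D l).deg = d)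
    {V : ∀ l, Submodule k (U l)} (hVr : ∀ l, Module.finrank k ↥(V l) = r + 1)
    {A B : ∀ l, Place k (U l)}
    (hAB : ∀ l : Fin (n' + 2), 0 < (l : ℕ) → (l : ℕ) < n' + 1 → A l ≠ B l)
    (hcomp : ∀ (l : Fin (n' + 1)) (m : ℕ), m ≤ d + 1 →
      Module.finrank k ↥((V l.castSucc) ⊓ L ((D l.castSucc) - Finsupp.single (B l.castSucc) ((m : ℤ)))) +
        Module.finrank k ↥((V l.succ) ⊓ L ((D l.succ) - Finsupp.single (A l.succ) ((d : ℤ) + 1 - m))) = r + 1)
    {c : ℕ} (hc : Wsum (V 0) (D 0) (B 0) d + c + r * (r + 1) ≤ (r + 1) * d + r * (r + 1) / 2)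
    (i : Fin (n' + 1)) :
    c + r * (r + 1) / 2 ≤ Wsum (V i.succ) (D i.succ) (A i.succ) d := by
  have h2 := two_mul_half_mul_succ r
  induction i using Fin.induction with
  | zero =>
    have h1 := Wsum_add_Wsum_eq_of_compat (hcomp 0)
    change Wsum (V 0) (D 0) (B 0) d + _ = _ at h1
    omega
  | succ i ih =>
    have h1 := Wsum_add_Wsum_eq_of_compat (hcomp i.succ)
    have hne : A i.castSucc.succ ≠ B i.castSucc.succ := hAB _ (by simp) (by
      have := i.2
      simp only [Fin.val_succ, Fin.val_castSucc]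
      omega)
    have h3 := Wsum_add_Wsum_le (hU i.castSucc.succ) (hD _) (hVr _) hne
    change Wsum (V i.castSucc.succ) (D i.castSucc.succ) (B i.castSucc.succ) d + _ = _ at h1
    omega

end FunFld
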