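import Groth.Agent.Lib.Helper5.FunFld.Plane7
import Mathlib.Algebra.MvPolynomial.Monad

/-! Plane models: degree of the map equals the total degree of the relation (helper5). -/

set_option autoImplicit false

namespace FunFld

open WithZero

variable {k K : Type*} [Field k] [Field K] [Algebra k K]

section affine

/-- The affine-linear polynomial with coefficients `c`. -/
noncomputable def lin (c : Fin 3 → k) : MvPolynomial (Fin 2) k :=
  MvPolynomial.C (c 0) + MvPolynomial.C (c 1) * MvPolynomial.X 0 +
    MvPolynomial.C (c 2) * MvPolynomial.X 1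

lemma aeval_lin (c : Fin 3 → k) (a b : K) :
    MvPolynomial.aeval ![a, b] (lin c) = ∑ i, c i • ![(1 : K), a, b] i := by
  rw [Fin.sum_univ_three]
  simp [lin, Algebra.smul_def]

lemma totalDegree_lin_le (c : Fin 3 → k) : (lin c).totalDegree ≤ 1 := by
  unfold lin
  refine (MvPolynomial.totalDegree_add _ _).trans (max_le ?_ ?_)
  · refine (MvPolynomial.totalDegree_add _ _).trans (max_le ?_ ?_)
    · rw [MvPolynomial.totalDegree_C]; exact Nat.zero_le _
    · refine (MvPolynomial.totalDegree_mul _ _).trans ?_
      rw [MvPolynomial.totalDegree_C, MvPolynomial.totalDegree_X]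
  · refine (MvPolynomial.totalDegree_mul _ _).trans ?_
    rw [MvPolynomial.totalDegree_C, MvPolynomial.totalDegree_X]

lemma bind₁_lin (u v c : Fin 3 → k) :
    MvPolynomial.bind₁ ![lin u, lin v] (lin c) =
      lin (fun i => c 0 * (if i = 0 then 1 else 0) + c 1 * u i + c 2 * v i) := by
  simp only [lin, map_add, map_mul, MvPolynomial.bind₁_C_right, MvPolynomial.bind₁_X_right,
    Matrix.cons_val_zero, Matrix.cons_val_one, if_true]
  simp only [show ((1 : Fin 3) = 0) = False from by simp, show ((2 : Fin 3) = 0) = False from by simp,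
    if_false, mul_zero, mul_one, add_zero, zero_add, map_zero, map_one]
  ring

/-- Substituting polynomials of degree at most one does not raise the total degree. -/
lemma totalDegree_bind₁_le {g : Fin 2 → MvPolynomial (Fin 2) k}
    (hg : ∀ i, (g i).totalDegree ≤ 1) (p : MvPolynomial (Fin 2) k) :
    (MvPolynomial.bind₁ g p).totalDegree ≤ p.totalDegree := by
  classical
  rw [p.as_sum, map_sum]
  refine (MvPolynomial.totalDegree_finsetSum _ _).trans ?_
  rw [Finset.sup_le_iff]
  intro m hm
  rw [MvPolynomial.bind₁_monomial]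
  refine (MvPolynomial.totalDegree_mul _ _).trans ?_
  rw [MvPolynomial.totalDegree_C, zero_add]
  refine (MvPolynomial.totalDegree_finsetProd _ _).trans ?_
  have h1 : ∑ i ∈ m.support, (g i ^ m i).totalDegree ≤ ∑ i ∈ m.support, m i := by
    refine Finset.sum_le_sum (fun i _ => ?_)
    refine (MvPolynomial.totalDegree_pow _ _).trans ?_
    have := hg i
    nlinarith
  refine h1.trans ?_
  rw [← p.as_sum]
  exact MvPolynomial.le_totalDegree hm

lemma totalDegree_isUnit {u : MvPolynomial (Fin 2) k} (hu : IsUnit u) : u.totalDegree = 0 := by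
  obtain ⟨v, hv⟩ := hu.exists_right_inv
  have hu0 : u ≠ 0 := hu.ne_zero
  have hv0 : v ≠ 0 := by
    rintro rfl
    rw [mul_zero] at hv
    exact zero_ne_one hv
  have := MvPolynomial.totalDegree_mul_of_isDomain hu0 hv0
  rw [hv, MvPolynomial.totalDegree_one] at this
  omega

lemma lin_injective_of_linearIndependent {x y : K} (hli : LinearIndependent k ![(1 : K), x, y])
    {c c' : Fin 3 → k}
    (h : MvPolynomial.aeval ![x, y] (lin c) = MvPolynomial.aeval ![x, y] (lin c')) : c = c' := by
  rw [aeval_lin, aeval_lin] at h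
  have h2 : ∑ i, (c i - c' i) • ![(1 : K), x, y] i = 0 := by
    simp only [sub_smul, Finset.sum_sub_distrib, h, sub_self]
  have := Fintype.linearIndependent_iff.1 hli _ h2
  funext i
  exact sub_eq_zero.1 (this i)

lemma X_zero_eq_lin : (MvPolynomial.X 0 : MvPolynomial (Fin 2) k) = lin ![0, 1, 0] := by
  simp [lin]

lemma X_one_eq_lin : (MvPolynomial.X 1 : MvPolynomial (Fin 2) k) = lin ![0, 0, 1] := by
  simp [lin]

end affine

section nondegenerate

variable [IsAlgClosed k] (hK : IsFunctionField k K)

include hK in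
/-- The degree of a nondegenerate plane model is the total degree of its irreducible relation. -/
theorem deg_eq_totalDegree_of_linearIndependent (x y : K)
    (hxy : IntermediateField.adjoin k ({x, y} : Set K) = ⊤)
    (hli : LinearIndependent k ![(1 : K), x, y])
    (f : MvPolynomial (Fin 2) k) (hf : Irreducible f)
    (hfxy : MvPolynomial.aeval ![x, y] f = 0) :
    (mapDiv k ![(1 : K), x, y]).deg = f.totalDegree := by
  obtain ⟨t, z, htW, hzW, hspan, htz, htnc, hpole⟩ := exists_generic_coords hK x y hxy
  set D := mapDiv k ![(1 : K), x, y] with hD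
  set W := Submodule.span k (Set.range ![(1 : K), x, y]) with hW
  have hWL : W ≤ L D := span_le_L_mapDiv (k := k) hK ![(1 : K), x, y]
  have hdeg := deg_poleDiv hK htnc
  rw [hpole] at hdeg
  set n := Module.finrank (IntermediateField.adjoin k ({t} : Set K)) K with hn
  have hzL : z ∈ L (poleDiv (k := k) t) := by rw [hpole]; exact hWL hzW
  obtain ⟨G, hGirr, hGdeg, hker⟩ := exists_ker_aeval_eq_span hK htnc htz hzL
  rw [← hn] at hGdeg
  -- coefficients of the coordinate changes
  have hxW : x ∈ W := Submodule.subset_span ⟨1, rfl⟩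
  have hyW : y ∈ W := Submodule.subset_span ⟨2, rfl⟩
  have hrep : ∀ w ∈ W, ∃ c : Fin 3 → k, w = ∑ i, c i • ![(1 : K), z, t] i := by
    intro w hw
    rw [← hspan] at hw
    obtain ⟨c, hc⟩ := (Submodule.mem_span_range_iff_exists_fun k).1 hw
    refine ⟨![c 0, c 2, c 1], ?_⟩
    rw [← hc, Fin.sum_univ_three, Fin.sum_univ_three]
    simp only [Matrix.cons_val_zero, Matrix.cons_val_one, Matrix.cons_val_two, Matrix.tail_cons,
      Matrix.head_cons]
    ring
  have hrep' : ∀ w ∈ W, ∃ c : Fin 3 → k, w = ∑ i, c i • ![(1 : K), x, y] i := by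
    intro w hw
    obtain ⟨c, hc⟩ := (Submodule.mem_span_range_iff_exists_fun k).1 hw
    exact ⟨c, hc.symm⟩
  obtain ⟨cx, hcx⟩ := hrep x hxW
  obtain ⟨cy, hcy⟩ := hrep y hyW
  obtain ⟨cz, hcz⟩ := hrep' z hzW
  obtain ⟨ct, hct⟩ := hrep' t htW
  -- the two substitutions
  have hσ' : ∀ p : MvPolynomial (Fin 2) k,
      MvPolynomial.aeval ![z, t] (MvPolynomial.bind₁ ![lin cx, lin cy] p) =
        MvPolynomial.aeval ![x, y] p := by
    intro p
    rw [MvPolynomial.aeval_bind₁]
    congr 2
    funext i
    fin_cases i
    · show MvPolynomial.aeval ![z, t] (lin cx) = x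
      rw [aeval_lin, ← hcx]
    · show MvPolynomial.aeval ![z, t] (lin cy) = y
      rw [aeval_lin, ← hcy]
  have hσ : ∀ q : MvPolynomial (Fin 2) k,
      MvPolynomial.aeval ![x, y] (MvPolynomial.bind₁ ![lin cz, lin ct] q) =
        MvPolynomial.aeval ![z, t] q := by
    intro q
    rw [MvPolynomial.aeval_bind₁]
    congr 2
    funext i
    fin_cases i
    · show MvPolynomial.aeval ![x, y] (lin cz) = z
      rw [aeval_lin, ← hcz]
    · show MvPolynomial.aeval ![x, y] (lin ct) = t
      rw [aeval_lin, ← hct]
  have hσσ' : ∀ p : MvPolynomial (Fin 2) k,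
      MvPolynomial.bind₁ ![lin cz, lin ct] (MvPolynomial.bind₁ ![lin cx, lin cy] p) = p := by
    intro p
    rw [MvPolynomial.bind₁_bind₁]
    have : (fun i => MvPolynomial.bind₁ ![lin cz, lin ct] (![lin cx, lin cy] i)) =
        (MvPolynomial.X : Fin 2 → MvPolynomial (Fin 2) k) := by
      funext i
      fin_cases i
      · show MvPolynomial.bind₁ ![lin cz, lin ct] (lin cx) = MvPolynomial.X 0
        have h1 := hσ (lin cx)
        rw [bind₁_lin] at h1 ⊢
        rw [X_zero_eq_lin]
        congr 1
        apply lin_injective_of_linearIndependent hli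
        rw [h1, ← X_zero_eq_lin, MvPolynomial.aeval_X, aeval_lin, ← hcx]
        rfl
      · show MvPolynomial.bind₁ ![lin cz, lin ct] (lin cy) = MvPolynomial.X 1
        have h1 := hσ (lin cy)
        rw [bind₁_lin] at h1 ⊢
        rw [X_one_eq_lin]
        congr 1
        apply lin_injective_of_linearIndependent hli
        rw [h1, ← X_one_eq_lin, MvPolynomial.aeval_X, aeval_lin, ← hcy]
        rfl
    rw [this, MvPolynomial.bind₁_X_left]
    rfl
  -- `σ' f` is a multiple of `G`
  have hmem : MvPolynomial.bind₁ ![lin cx, lin cy] f ∈ Ideal.span {G} := by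
    rw [← hker, RingHom.mem_ker, hσ', hfxy]
  obtain ⟨h, hh⟩ := Ideal.mem_span_singleton.1 hmem
  have hf0 : f ≠ 0 := hf.ne_zero
  have hfac : f = MvPolynomial.bind₁ ![lin cz, lin ct] G * MvPolynomial.bind₁ ![lin cz, lin ct] h := by
    rw [← map_mul, ← hh, hσσ']
  have hσG0 : MvPolynomial.bind₁ ![lin cz, lin ct] G ≠ 0 := by
    intro h0; rw [h0, zero_mul] at hfac; exact hf0 hfac
  have hσh0 : MvPolynomial.bind₁ ![lin cz, lin ct] h ≠ 0 := by
    intro h0; rw [h0, mul_zero] at hfac; exact hf0 hfac
  have hh0 : h ≠ 0 := by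
    rintro rfl; rw [map_zero] at hσh0; exact hσh0 rfl
  have hG0 : G ≠ 0 := hGirr.ne_zero
  have hlin1 : ∀ i, ((![lin cz, lin ct] : Fin 2 → MvPolynomial (Fin 2) k) i).totalDegree ≤ 1 := by
    intro i; fin_cases i <;> exact totalDegree_lin_le _
  have hlin2 : ∀ i, ((![lin cx, lin cy] : Fin 2 → MvPolynomial (Fin 2) k) i).totalDegree ≤ 1 := by
    intro i; fin_cases i <;> exact totalDegree_lin_le _
  -- `σ G` is not a unit since it vanishes at `(x, y)`
  have hσGnu : ¬ IsUnit (MvPolynomial.bind₁ ![lin cz, lin ct] G) := by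
    intro hu
    have h1 : MvPolynomial.aeval ![x, y] (MvPolynomial.bind₁ ![lin cz, lin ct] G) = 0 := by
      rw [hσ]
      have : G ∈ RingHom.ker (MvPolynomial.aeval ![z, t] : MvPolynomial (Fin 2) k →ₐ[k] K) := by
        rw [hker]; exact Ideal.mem_span_singleton_self G
      exact this
    have h2 := hu.map (MvPolynomial.aeval ![x, y] : MvPolynomial (Fin 2) k →ₐ[k] K)
    rw [h1] at h2
    exact not_isUnit_zero h2
  have hunit : IsUnit (MvPolynomial.bind₁ ![lin cz, lin ct] h) :=
    (hf.isUnit_or_isUnit hfac).resolve_left hσGnu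
  have e1 : f.totalDegree = (MvPolynomial.bind₁ ![lin cz, lin ct] G).totalDegree := by
    rw [hfac, MvPolynomial.totalDegree_mul_of_isDomain hσG0 hσh0, totalDegree_isUnit hunit,
      add_zero]
  have e2 : (MvPolynomial.bind₁ ![lin cz, lin ct] G).totalDegree ≤ n := by
    rw [← hGdeg]; exact totalDegree_bind₁_le hlin1 G
  have e3 : n ≤ f.totalDegree := by
    have h1 := totalDegree_bind₁_le hlin2 f
    rw [hh, MvPolynomial.totalDegree_mul_of_isDomain hG0 hh0, hGdeg] at h1
    omega
  rw [hdeg]
  have : f.totalDegree = n := by omega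
  exact_mod_cast this.symm

end nondegenerate

section degenerate

variable (hK : IsFunctionField k K)

include hK in
lemma not_both_const {x y : K} (hxy : IntermediateField.adjoin k ({x, y} : Set K) = ⊤) :
    ¬ (x ∈ Set.range (algebraMap k K) ∧ y ∈ Set.range (algebraMap k K)) := by
  rintro ⟨hx, hy⟩
  obtain ⟨⟨t, ht, -⟩, -⟩ := hK
  apply ht
  have htmem : t ∈ IntermediateField.adjoin k ({x, y} : Set K) := by rw [hxy]; trivial
  have hbot : IntermediateField.adjoin k ({x, y} : Set K) = ⊥ := by
    rw [IntermediateField.adjoin_eq_bot_iff]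
    intro w hw
    show w ∈ (⊥ : IntermediateField k K)
    rw [IntermediateField.mem_bot]
    rcases hw with rfl | rfl
    · exact hx
    · exact hy
  rw [hbot, IntermediateField.mem_bot] at htmem
  obtain ⟨a', rfl⟩ := htmem
  exact isAlgebraic_algebraMap a'

/-- A point on a line, with transcendental second coordinate: its irreducible relation has
degree one. -/
theorem totalDegree_eq_one_of_affine {a b : K} (hb : Transcendental k b) (α β : k)
    (hab : a = algebraMap k K α + β • b) (f : MvPolynomial (Fin 2) k) (hf : Irreducible f)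
    (hfab : MvPolynomial.aeval ![a, b] f = 0) : f.totalDegree = 1 := by
  set G : MvPolynomial (Fin 2) k :=
    MvPolynomial.X 0 - (MvPolynomial.C α + MvPolynomial.C β * MvPolynomial.X 1) with hG
  have hGe : MvPolynomial.finSuccEquiv k 1 G =
      Polynomial.X - Polynomial.C (MvPolynomial.C α + MvPolynomial.C β * MvPolynomial.X 0) := by
    rw [hG, map_sub, MvPolynomial.finSuccEquiv_X_zero, map_add, map_mul,
      show (MvPolynomial.X 1 : MvPolynomial (Fin 2) k) = MvPolynomial.X (Fin.succ 0) from rfl,
      MvPolynomial.finSuccEquiv_X_succ]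
    congr 1
    have h1 : ∀ r : k, MvPolynomial.finSuccEquiv k 1 (MvPolynomial.C r) =
        Polynomial.C (MvPolynomial.C r) := by
      intro r
      rw [MvPolynomial.finSuccEquiv_apply, MvPolynomial.eval₂Hom_C]
      rfl
    rw [h1, h1, map_add, map_mul]
  have hmonic : (MvPolynomial.finSuccEquiv k 1 G).Monic := by
    rw [hGe]; exact Polynomial.monic_X_sub_C _
  have hnat : (MvPolynomial.finSuccEquiv k 1 G).natDegree = 1 := by
    rw [hGe]; exact Polynomial.natDegree_X_sub_C _
  have hGev : MvPolynomial.aeval ![a, b] G = 0 := by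
    rw [hG, map_sub, map_add, map_mul, MvPolynomial.aeval_X, MvPolynomial.aeval_X,
      MvPolynomial.aeval_C, MvPolynomial.aeval_C, hab, Algebra.smul_def]
    simp
  have hli : LinearIndependent (IntermediateField.adjoin k ({b} : Set K))
      (fun j : Fin 1 => a ^ (j : ℕ)) := by
    rw [linearIndependent_unique_iff]
    simp
  have hker := ker_aeval_eq_span hb G hmonic hnat hGev hli
  have hmem : f ∈ Ideal.span {G} := by rw [← hker]; exact hfab
  obtain ⟨u, hu⟩ := Ideal.mem_span_singleton.1 hmem
  have hG0 : G ≠ 0 := by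
    intro h0
    rw [h0, map_zero] at hmonic
    exact Polynomial.not_monic_zero hmonic
  have hGnu : ¬ IsUnit G := by
    intro hunit
    have h2 := hunit.map (MvPolynomial.aeval ![a, b] : MvPolynomial (Fin 2) k →ₐ[k] K)
    rw [hGev] at h2
    exact not_isUnit_zero h2
  have huu : IsUnit u := (hf.isUnit_or_isUnit hu).resolve_left hGnu
  have hu0 : u ≠ 0 := huu.ne_zero
  rw [hu, MvPolynomial.totalDegree_mul_of_isDomain hG0 hu0, totalDegree_isUnit huu, add_zero]
  apply le_antisymm
  · rw [hG]
    refine (MvPolynomial.totalDegree_sub _ _).trans (max_le ?_ ?_)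
    · rw [MvPolynomial.totalDegree_X]
    · refine (MvPolynomial.totalDegree_add _ _).trans (max_le ?_ ?_)
      · rw [MvPolynomial.totalDegree_C]; exact Nat.zero_le _
      · refine (MvPolynomial.totalDegree_mul _ _).trans ?_
        rw [MvPolynomial.totalDegree_C, MvPolynomial.totalDegree_X]
  · rw [MvPolynomial.natDegree_finSuccEquiv] at hnat
    rw [← hnat]
    exact MvPolynomial.degreeOf_le_totalDegree G 0


include hK in
/-- If both coordinates are affine functions of one element `w`, the map has degree one. -/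
theorem deg_eq_one_of_affine [IsAlgClosed k] {x y : K}
    (hxy : IntermediateField.adjoin k ({x, y} : Set K) = ⊤) (w : K)
    (hx : x ∈ Submodule.span k ({1, w} : Set K)) (hy : y ∈ Submodule.span k ({1, w} : Set K)) :
    (mapDiv k ![(1 : K), x, y]).deg = 1 := by
  obtain ⟨t, z, htW, -, -, -, htnc, hpole⟩ := exists_generic_coords hK x y hxy
  have hWle : Submodule.span k (Set.range ![(1 : K), x, y]) ≤ Submodule.span k ({1, w} : Set K) := by
    rw [Submodule.span_le]
    rintro _ ⟨i, rfl⟩
    fin_cases i
    · exact Submodule.subset_span (Set.mem_insert _ _)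
    · exact hx
    · exact hy
  obtain ⟨a, b, hab⟩ := Submodule.mem_span_pair.1 (hWle htW)
  have hb : b ≠ 0 := by
    rintro rfl
    apply htnc
    refine ⟨a, ?_⟩
    rw [← hab, zero_smul, add_zero, Algebra.smul_def, mul_one]
  have hwmem : w ∈ IntermediateField.adjoin k ({t} : Set K) := by
    have hw : w = b⁻¹ • (t - a • (1 : K)) := by
      rw [← hab, add_sub_cancel_left, smul_smul, inv_mul_cancel₀ hb, one_smul]
    rw [hw]
    refine (IntermediateField.adjoin k ({t} : Set K)).smul_mem ?_
    refine sub_mem (IntermediateField.mem_adjoin_simple_self k t) ?_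
    exact (IntermediateField.adjoin k ({t} : Set K)).smul_mem (one_mem _)
  have hspanle : ∀ v ∈ Submodule.span k ({1, w} : Set K),
      v ∈ IntermediateField.adjoin k ({t} : Set K) := by
    intro v hv
    obtain ⟨a', b', rfl⟩ := Submodule.mem_span_pair.1 hv
    exact add_mem ((IntermediateField.adjoin k ({t} : Set K)).smul_mem (one_mem _))
      ((IntermediateField.adjoin k ({t} : Set K)).smul_mem hwmem)
  have htop : IntermediateField.adjoin k ({t} : Set K) = ⊤ := by
    rw [eq_top_iff, ← hxy, IntermediateField.adjoin_le_iff]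
    rintro v (rfl | rfl)
    · exact hspanle _ hx
    · exact hspanle _ hy
  rw [← hpole, deg_poleDiv hK htnc, IntermediateField.finrank_eq_one_iff_eq_top.2 htop]
  rfl

include hK in
/-- The degenerate case of the degree formula: `1, x, y` linearly dependent. -/
theorem deg_eq_totalDegree_of_not_linearIndependent [IsAlgClosed k] (x y : K)
    (hxy : IntermediateField.adjoin k ({x, y} : Set K) = ⊤)
    (hli : ¬ LinearIndependent k ![(1 : K), x, y])
    (f : MvPolynomial (Fin 2) k) (hf : Irreducible f)
    (hfxy : MvPolynomial.aeval ![x, y] f = 0) :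
    (mapDiv k ![(1 : K), x, y]).deg = f.totalDegree := by
  obtain ⟨c, hc, hc0⟩ := Fintype.not_linearIndependent_iff.1 hli
  rw [Fin.sum_univ_three] at hc
  simp only [Matrix.cons_val_zero, Matrix.cons_val_one, Matrix.cons_val_two, Matrix.tail_cons,
    Matrix.head_cons] at hc
  have hnc := not_both_const hK hxy
  by_cases h1 : c 1 = 0
  · -- `y` is constant
    have h2 : c 2 ≠ 0 := by
      intro h2
      obtain ⟨i, hi⟩ := hc0
      fin_cases i
      · apply hi
        rw [h1, h2, zero_smul, zero_smul, add_zero, add_zero, Algebra.smul_def, mul_one] at hc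
        exact (map_eq_zero (algebraMap k K)).1 hc
      · exact hi h1
      · exact hi h2
    have hy : y = algebraMap k K (-(c 0 / c 2)) + (0 : k) • x := by
      rw [h1, zero_smul, add_zero] at hc
      have : c 2 • y = -(c 0 • (1 : K)) := by
        rw [eq_neg_iff_add_eq_zero, add_comm]; exact hc
      rw [zero_smul, add_zero, map_neg, map_div₀]
      rw [Algebra.smul_def, Algebra.smul_def, mul_one] at this
      have h2' : algebraMap k K (c 2) ≠ 0 := (map_ne_zero (algebraMap k K)).2 h2
      field_simp
      rw [mul_comm]; exact this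
    have hxnc : x ∉ Set.range (algebraMap k K) := by
      intro hx
      apply hnc
      refine ⟨hx, ⟨-(c 0 / c 2), ?_⟩⟩
      rw [hy, zero_smul, add_zero]
    have hxtr : Transcendental k x := hK.transcendental_of_notMem hxnc
    have hdeg : (mapDiv k ![(1 : K), x, y]).deg = 1 := by
      refine deg_eq_one_of_affine hK hxy x ?_ ?_
      · exact Submodule.subset_span (by simp)
      · rw [hy, zero_smul, add_zero, Algebra.algebraMap_eq_smul_one]
        exact Submodule.smul_mem _ _ (Submodule.subset_span (by simp))
    set f' : MvPolynomial (Fin 2) k := MvPolynomial.rename (Equiv.swap (0 : Fin 2) 1) f with hf'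
    have hf'irr : Irreducible f' := by
      have := (MulEquiv.irreducible_iff
        (MvPolynomial.renameEquiv k (Equiv.swap (0 : Fin 2) 1)).toMulEquiv (x := f)).2 hf
      exact this
    have hf'ev : MvPolynomial.aeval ![y, x] f' = 0 := by
      rw [hf', MvPolynomial.aeval_rename]
      rw [← hfxy]
      congr 2
      funext i
      fin_cases i <;> simp
    have htd := totalDegree_eq_one_of_affine hxtr _ _ hy f' hf'irr hf'ev
    have htd' : f'.totalDegree = f.totalDegree :=
      MvPolynomial.totalDegree_renameEquiv (R := k) (Equiv.swap (0 : Fin 2) 1) f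
    rw [hdeg, ← htd', htd]
    rfl
  · -- `x` is an affine function of `y`
    have hx : x = algebraMap k K (-(c 0 / c 1)) + (-(c 2 / c 1)) • y := by
      have : c 1 • x = -(c 0 • (1 : K)) - c 2 • y := by
        rw [eq_sub_iff_add_eq, eq_neg_iff_add_eq_zero, ← hc]; ring
      rw [Algebra.smul_def, Algebra.smul_def, Algebra.smul_def, mul_one] at this
      rw [Algebra.smul_def, map_neg, map_neg, map_div₀, map_div₀]
      have h1' : algebraMap k K (c 1) ≠ 0 := (map_ne_zero (algebraMap k K)).2 h1
      field_simp
      rw [mul_comm, this]; ring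
    have hync : y ∉ Set.range (algebraMap k K) := by
      rintro ⟨b, hb⟩
      apply hnc
      refine ⟨⟨-(c 0 / c 1) + -(c 2 / c 1) * b, ?_⟩, ⟨b, hb⟩⟩
      rw [hx, ← hb, Algebra.smul_def, map_add, map_mul]
    have hytr : Transcendental k y := hK.transcendental_of_notMem hync
    have hdeg : (mapDiv k ![(1 : K), x, y]).deg = 1 := by
      refine deg_eq_one_of_affine hK hxy y ?_ ?_
      · rw [hx, Algebra.algebraMap_eq_smul_one]
        exact add_mem (Submodule.smul_mem _ _ (Submodule.subset_span (by simp)))
          (Submodule.smul_mem _ _ (Submodule.subset_span (by simp)))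
      · exact Submodule.subset_span (by simp)
    have htd := totalDegree_eq_one_of_affine hytr _ _ hx f hf hfxy
    rw [hdeg, htd]
    rfl

include hK in
/-- **S11070**: the degree of a plane model is the total degree of its irreducible relation. -/
theorem deg_mapDiv_eq_totalDegree [IsAlgClosed k] (x y : K)
    (hxy : IntermediateField.adjoin k ({x, y} : Set K) = ⊤)
    (f : MvPolynomial (Fin 2) k) (hf : Irreducible f)
    (hfxy : MvPolynomial.aeval ![x, y] f = 0) :
    (mapDiv k ![(1 : K), x, y]).deg = f.totalDegree := by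
  by_cases hli : LinearIndependent k ![(1 : K), x, y]
  · exact deg_eq_totalDegree_of_linearIndependent hK x y hxy hli f hf hfxy
  · exact deg_eq_totalDegree_of_not_linearIndependent hK x y hxy hli f hf hfxy

end degenerate

end FunFld
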