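import Groth.Agent.Lib.Helper5.FunFld.AffFinite
import Mathlib.RingTheory.Nakayama

/-! The local ring of a projective map is the whole valuation ring when it has a local parameter
and is dominated by a single place (helper5). -/

set_option autoImplicit false

namespace FunFld

open WithZero

variable {k K : Type*} [Field k] [Field K] [Algebra k K] {ι : Type*}

/-- The local ring of `φ` at `P` computed with the least-order entry `j`, as a subalgebra. -/
def locRing (φ : ι → K) (P : Place k K) (j : ι) : Subalgebra k K where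
  carrier := {z | ∃ u ∈ affRing k φ j, ∃ w ∈ affRing k φ j, P.1 w = 1 ∧ z * w = u}
  mul_mem' := by
    rintro z z' ⟨u, hu, w, hw, hw1, hzw⟩ ⟨u', hu', w', hw', hw1', hzw'⟩
    refine ⟨u * u', Subalgebra.mul_mem _ hu hu', w * w', Subalgebra.mul_mem _ hw hw', ?_, ?_⟩
    · rw [map_mul, hw1, hw1', one_mul]
    · rw [← hzw, ← hzw']; ring
  add_mem' := by
    rintro z z' ⟨u, hu, w, hw, hw1, hzw⟩ ⟨u', hu', w', hw', hw1', hzw'⟩
    refine ⟨u * w' + u' * w, Subalgebra.add_mem _ (Subalgebra.mul_mem _ hu hw')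
      (Subalgebra.mul_mem _ hu' hw), w * w', Subalgebra.mul_mem _ hw hw', ?_, ?_⟩
    · rw [map_mul, hw1, hw1', one_mul]
    · rw [← hzw, ← hzw']; ring
  algebraMap_mem' := fun c =>
    ⟨algebraMap k K c, Subalgebra.algebraMap_mem _ c, 1, Subalgebra.one_mem _, map_one _, mul_one _⟩

lemma mem_locRing_iff {φ : ι → K} {P : Place k K} {j : ι} (hj : IsLeast φ P j) {z : K} :
    z ∈ locRing φ P j ↔ InLocRing φ P z := by
  constructor
  · rintro ⟨u, hu, w, hw, hw1, hzw⟩
    exact (inLocRing_iff φ P z).2 ⟨j, hj, u, hu, w, hw, hw1, hzw⟩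
  · intro h
    exact h.exists_of_isLeast hj

lemma affRing_le_locRing (φ : ι → K) (P : Place k K) (j : ι) : affRing k φ j ≤ locRing φ P j :=
  fun a ha => ⟨a, ha, 1, Subalgebra.one_mem _, map_one _, mul_one a⟩

lemma locRing_v_le_one {φ : ι → K} {P : Place k K} {j : ι} (hj : IsLeast φ P j) {z : K}
    (hz : z ∈ locRing φ P j) : P.1 z ≤ 1 :=
  ((mem_locRing_iff hj).1 hz).v_le_one

/-- Units of the local ring: the elements of value one. -/
lemma inv_mem_locRing {φ : ι → K} {P : Place k K} {j : ι} (hj : IsLeast φ P j) {z : K}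
    (hz : z ∈ locRing φ P j) (hz1 : P.1 z = 1) : z⁻¹ ∈ locRing φ P j := by
  obtain ⟨u, hu, w, hw, hw1, hzw⟩ := hz
  have hz0 : z ≠ 0 := by
    rintro rfl
    rw [map_zero] at hz1
    exact zero_ne_one hz1
  refine ⟨w, hw, u, hu, ?_, ?_⟩
  · rw [← hzw, map_mul, hz1, hw1, one_mul]
  · rw [← hzw]; field_simp

/-- Quotients of elements of the affine ring by a unit at `P`. -/
lemma div_mem_locRing {φ : ι → K} {P : Place k K} {j : ι} {a w : K} (ha : a ∈ affRing k φ j)
    (hw : w ∈ affRing k φ j) (hw1 : P.1 w = 1) : a / w ∈ locRing φ P j := by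
  have hw0 : w ≠ 0 := by
    rintro rfl
    rw [map_zero] at hw1
    exact zero_ne_one hw1
  exact ⟨a, ha, w, hw, hw1, div_mul_cancel₀ a hw0⟩

section clearing

variable (hK : IsFunctionField k K) [Fintype ι] [Nonempty ι]

include hK in
/-- Places off the support of the divisor of the ratios have `j` as a least-order index. -/
lemma isLeast_of_mapDiv_eq_zero {φ : ι → K} {j : ι} (hj0 : φ j ≠ 0) (hφ : ∀ i, φ i ≠ 0)
    {Q : Place k K} (hQ : mapDiv k (fun i => φ i / φ j) Q = 0) : IsLeast φ Q j := by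
  refine ⟨hj0, fun i => ?_⟩
  rw [mapDiv_apply hK, neg_eq_zero] at hQ
  have h1 := minOrd_le (fun i => φ i / φ j) Q i
  rw [hQ] at h1
  have h2 : Q.1 (φ i / φ j) ≤ 1 := (Q.v_le_one_iff (div_ne_zero (hφ i) hj0)).2 h1
  rw [map_div₀] at h2
  have hpos : 0 < Q.1 (φ j) := pos_iff_ne_zero.2 (Q.v_ne_zero hj0)
  rwa [div_le_one₀ hpos] at h2

include hK in
lemma mapDiv_eq_zero_of_isLeast {φ : ι → K} {j : ι} {P : Place k K} (hj : IsLeast φ P j) :
    mapDiv k (fun i => φ i / φ j) P = 0 := by
  rw [mapDiv_apply hK, neg_eq_zero]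
  apply le_antisymm
  · have := minOrd_le (fun i => φ i / φ j) P j
    rwa [div_self hj.1, Place.ord_one] at this
  · rw [le_minOrd_iff]
    intro i
    by_cases hi : φ i = 0
    · simp only [hi, zero_div, Place.ord_zero, le_refl]
    · exact (P.v_le_one_iff (div_ne_zero hi hj.1)).1 (hj.v_ratio_le i)

include hK in
/-- Clearing the poles of an element integral at `P` with a unit of the local ring, when `P`
is the only place dominating the local ring. -/
theorem exists_mul_mem_regular {φ : ι → K} (hφ : ∀ i, φ i ≠ 0) {P : Place k K} {j : ι}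
    (hj : IsLeast φ P j)
    (hdom : ∀ Q : Place k K, (∀ z : K, InLocRing φ P z → Q.1 z ≤ 1) → Q = P) {z : K}
    (hz : P.1 z ≤ 1) :
    ∃ w ∈ affRing k φ j, P.1 w = 1 ∧
      ∀ Q : Place k K, mapDiv k (fun i => φ i / φ j) Q = 0 → Q.1 (z * w) ≤ 1 := by
  classical
  set E := mapDiv k (fun i => φ i / φ j) with hE
  have hA : ∀ Q : Place k K, E Q = 0 → ∀ a ∈ affRing k φ j, Q.1 a ≤ 1 := fun Q hQ a ha =>
    (isLeast_of_mapDiv_eq_zero hK hj.1 hφ hQ).v_le_one_of_mem ha
  have hw : ∀ Q : Place k K, ∃ w ∈ affRing k φ j, P.1 w = 1 ∧ (E Q = 0 → Q ≠ P → Q.1 w < 1) := by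
    intro Q
    by_cases hQ : E Q = 0 ∧ Q ≠ P
    · have : ¬ ∀ z : K, InLocRing φ P z → Q.1 z ≤ 1 := fun h => hQ.2 (hdom Q h)
      push Not at this
      obtain ⟨z', hz', hQz'⟩ := this
      obtain ⟨u, hu, w, hw, hw1, hzw⟩ := hz'.exists_of_isLeast hj
      refine ⟨w, hw, hw1, fun _ _ => ?_⟩
      by_contra hge
      rw [not_lt] at hge
      have hw1' : Q.1 w = 1 := le_antisymm (hA Q hQ.1 w hw) hge
      have : Q.1 z' = Q.1 u := by rw [← hzw, map_mul, hw1', mul_one]
      rw [this] at hQz'
      exact absurd (hA Q hQ.1 u hu) (not_le.2 hQz')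
    · refine ⟨1, Subalgebra.one_mem _, map_one _, fun h1 h2 => absurd ⟨h1, h2⟩ hQ⟩
  choose wQ hwA hwP hwQ using hw
  rcases eq_or_ne z 0 with rfl | hz0
  · exact ⟨1, Subalgebra.one_mem _, map_one _, fun Q _ => by simp⟩
  set S := (div k z).support with hS
  set w := ∏ Q ∈ S, wQ Q ^ (-(Q.ord z)).toNat with hw
  refine ⟨w, Subalgebra.prod_mem _ (fun Q _ => Subalgebra.pow_mem _ (hwA Q) _), ?_, ?_⟩
  · rw [hw, map_prod]
    refine Finset.prod_eq_one (fun Q _ => ?_)
    rw [map_pow, hwP, one_pow]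
  · intro Q' hQ'
    have hwle : ∀ T : Finset (Place k K), Q'.1 (∏ Q ∈ T, wQ Q ^ (-(Q.ord z)).toNat) ≤ 1 := by
      intro T
      rw [map_prod]
      refine Finset.prod_le_one' (fun Q _ => ?_)
      rw [map_pow]
      exact pow_le_one' (hA Q' hQ' _ (hwA Q)) _
    by_cases hQP : Q' = P
    · subst hQP
      rw [map_mul]
      calc Q'.1 z * Q'.1 w ≤ 1 * 1 := mul_le_mul' hz (hwle S)
        _ = 1 := one_mul 1
    by_cases hord : 0 ≤ Q'.ord z
    · rw [map_mul]
      calc Q'.1 z * Q'.1 w ≤ 1 * 1 := mul_le_mul' ((Q'.v_le_one_iff hz0).2 hord) (hwle S)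
        _ = 1 := one_mul 1
    · rw [not_le] at hord
      have hmem : Q' ∈ S := by
        rw [hS, Finsupp.mem_support_iff, div_apply hK]
        omega
      rw [hw, ← Finset.mul_prod_erase S _ hmem, map_mul, map_mul, map_pow]
      have h1 : Q'.1 (wQ Q') ≤ exp (-1) :=
        Q'.v_le_exp_neg_one_of_lt_one (hwQ Q' hQ' hQP)
      have h2 : Q'.1 z = exp ((-(Q'.ord z)).toNat : ℤ) := by
        rw [Q'.v_eq_exp_neg_ord hz0, Int.toNat_of_nonneg (by omega)]
      calc Q'.1 z * (Q'.1 (wQ Q') ^ (-(Q'.ord z)).toNat * Q'.1 (∏ Q ∈ S.erase Q', _))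
          ≤ exp ((-(Q'.ord z)).toNat : ℤ) * (exp (-1) ^ (-(Q'.ord z)).toNat * 1) := by
            rw [h2]
            exact mul_le_mul' le_rfl (mul_le_mul' (pow_le_pow_left' h1 _) (hwle _))
        _ = 1 := by
            rw [mul_one, ← exp_nsmul, ← exp_add]
            simp

end clearing

section main

variable [IsAlgClosed k] (hK : IsFunctionField k K) [Fintype ι] [Nonempty ι]

include hK in
/-- If the local ring of `φ` at `P` contains a local parameter at `P` and is dominated by no
other place, then it is the whole valuation ring. -/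
theorem isNonsingularAt_of_param {φ : ι → K} (hφ : ∀ i, φ i ≠ 0)
    (hnc : ∀ j, ∃ i, φ i / φ j ∉ Set.range (algebraMap k K)) {P : Place k K}
    (hdom : ∀ Q : Place k K, (∀ z : K, InLocRing φ P z → Q.1 z ≤ 1) → Q = P)
    (hpar : ∃ t : K, InLocRing φ P t ∧ P.1 t = exp (-1)) : IsNonsingularAt φ P := by
  classical
  obtain ⟨j, hj⟩ := exists_isLeast φ hφ P
  have hdP := Place.deg_eq_one_of_isAlgClosed hK P
  set ψ : ι → K := fun i => φ i / φ j with hψ
  have hψj : ψ j = 1 := div_self hj.1
  obtain ⟨m0, hm0⟩ := exists_fg_bound hK ψ hψj (hnc j)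
  set E := mapDiv k ψ with hE
  have hEP : E P = 0 := mapDiv_eq_zero_of_isLeast hK hj
  set G : Submodule k K := L (m0 • E) with hG
  have hfinG : FiniteDimensional k G := finiteDimensional_L hK _
  let b := Module.finBasis k G
  set R := locRing φ P j with hR
  let bv : Fin (Module.finrank k G) → K := fun l => (b l : K)
  set N' : Submodule R K := Submodule.span R (Set.range bv) with hN'
  have hAR : ∀ a ∈ affRing k φ j, a ∈ R := fun a ha => affRing_le_locRing φ P j ha
  have hGspan : Submodule.span k (Set.range bv) = G := by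
    have : Set.range bv = G.subtype '' Set.range b := by
      rw [← Set.range_comp]; rfl
    rw [this, ← Submodule.map_span, b.span_eq, Submodule.map_subtype_top]
  have hGN' : ∀ x ∈ G, x ∈ N' := by
    intro x hx
    rw [← hGspan] at hx
    exact Submodule.span_le_restrictScalars k R (Set.range bv) hx
  -- every integral element lies in N'
  have hstar : ∀ z : K, P.1 z ≤ 1 → z ∈ N' := by
    intro z hz
    obtain ⟨w, hwA, hw1, hzw⟩ := exists_mul_mem_regular hK hφ hj hdom hz
    have h1 := hm0 (z * w) hzw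
    have h2 : z * w ∈ N' := by
      refine Submodule.span_induction (p := fun x _ => x ∈ N') ?_ ?_ ?_ ?_ h1
      · intro x hx; exact hGN' x hx
      · exact N'.zero_mem
      · intro x y _ _ hx hy; exact N'.add_mem hx hy
      · intro a x _ hx
        have : a • x = (⟨a.1, hAR a.1 a.2⟩ : R) • x := rfl
        rw [this]
        exact N'.smul_mem _ hx
    have hw0 : w ≠ 0 := by
      rintro rfl
      rw [map_zero] at hw1
      exact zero_ne_one hw1
    have hwinv : w⁻¹ ∈ R := inv_mem_locRing hj (hAR w hwA) hw1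
    have : z = (⟨w⁻¹, hwinv⟩ : R) • (z * w) := by
      change z = w⁻¹ * (z * w)
      field_simp
    rw [this]
    exact N'.smul_mem _ h2
  -- Nakayama
  obtain ⟨t, htR, htv⟩ := hpar
  have htR' : t ∈ R := (mem_locRing_iff hj).2 htR
  set t' : R := ⟨t, htR'⟩ with ht'
  set I : Ideal R := Ideal.span {t'} with hI
  have hIJ : I ≤ Ideal.jacobson ⊥ := by
    rw [hI, Ideal.span_le, Set.singleton_subset_iff, SetLike.mem_coe, Ideal.mem_jacobson_bot]
    intro y
    have hv : P.1 ((t' * y + 1 : R) : K) = 1 := by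
      have h1 : P.1 (t * (y : K)) < 1 := by
        rw [map_mul, htv]
        calc exp (-1) * P.1 (y : K) ≤ exp (-1) * 1 :=
              mul_le_mul' le_rfl (locRing_v_le_one hj y.2)
          _ < 1 := by rw [mul_one, ← exp_zero, exp_lt_exp]; norm_num
      change P.1 (t * (y : K) + 1) = 1
      rw [Valuation.map_add_eq_of_lt_right]
      · exact map_one _
      · rw [map_one]; exact h1
    have hinv := inv_mem_locRing hj (t' * y + 1 : R).2 hv
    rw [isUnit_iff_exists_inv]
    refine ⟨⟨_, hinv⟩, ?_⟩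
    apply Subtype.ext
    change ((t' * y + 1 : R) : K) * ((t' * y + 1 : R) : K)⁻¹ = 1
    apply mul_inv_cancel₀
    intro h0
    rw [h0, map_zero] at hv
    exact zero_ne_one hv
  set N : Submodule R K := Submodule.span R {(1 : K)} with hN
  have hNN : N' ≤ N ⊔ I • N' := by
    rw [hN', Submodule.span_le]
    rintro _ ⟨l, rfl⟩
    have hbl : bv l ∈ G := (b l).2
    have hbP : P.1 (bv l) ≤ 1 := by
      have := hbl P
      rwa [nsmul_apply', hEP, mul_zero, exp_zero] at this
    obtain ⟨c, hc⟩ := P.exists_const_sub_lt hdP hbP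
    have hz' : P.1 ((bv l - algebraMap k K c) / t) ≤ 1 := by
      rw [map_div₀, htv]
      exact div_le_one_of_le₀ (P.v_le_exp_neg_one_of_lt_one hc) zero_le
    have hz'N := hstar _ hz'
    have ht0 : t ≠ 0 := by
      rintro rfl
      rw [map_zero] at htv
      exact exp_ne_zero htv.symm
    have e : bv l = c • (1 : K) + t' • ((bv l - algebraMap k K c) / t) := by
      change bv l = c • (1 : K) + t * ((bv l - algebraMap k K c) / t)
      rw [Algebra.smul_def, mul_one]
      field_simp
      ring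
    rw [SetLike.mem_coe, e]
    refine Submodule.add_mem_sup ?_ ?_
    · exact N.smul_of_tower_mem c (Submodule.subset_span rfl)
    · exact Submodule.smul_mem_smul (Ideal.mem_span_singleton_self t') hz'N
  have hfg : N'.FG := Submodule.fg_span (Set.finite_range bv)
  have hle := Submodule.le_of_le_smul_of_le_jacobson_bot hfg hIJ hNN
  intro z hz
  have hzN := hle (hstar z hz)
  rw [hN, Submodule.mem_span_singleton] at hzN
  obtain ⟨ρ, hρ⟩ := hzN
  have : z = (ρ : K) := by
    rw [← hρ]
    change (ρ : K) * 1 = ρ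
    exact mul_one _
  rw [this]
  exact (mem_locRing_iff hj).1 ρ.2

end main

end FunFld
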