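import Groth.Prelude.Def_W4bk4goldsch23Ext
import Groth.Agent.Lib.Helper5.FunFld.Weak.Degree
import Groth.Agent.Lib.Helper5.FunFld.Approx

/-! Places in finite extensions: restriction, ramification index (helper5). -/

set_option autoImplicit false
set_option linter.unusedSectionVars false

namespace FunFld

open WithZero

variable {k K K' : Type*} [Field k] [Field K] [Field K'] [Algebra k K] [Algebra K K'] [Algebra k K']
  [IsScalarTower k K K']

namespace IsFF1

lemma of_trdeg_essFiniteType (htr : Algebra.trdeg k K = 1) (hess : Algebra.EssFiniteType k K) :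
    IsFF1 k K := by
  have hpos : Algebra.trdeg k K ≠ 0 := by rw [htr]; exact one_ne_zero
  rw [Ne, trdeg_eq_zero_iff, ← Algebra.transcendental_iff_not_isAlgebraic] at hpos
  obtain ⟨y, hy⟩ := hpos
  refine ⟨y, hy, ?_⟩
  have hyb : IsTranscendenceBasis k (fun _ : PUnit => y) := by
    refine AlgebraicIndependent.isTranscendenceBasis_of_trdeg_le_of_finite
      (algebraicIndependent_unique_type_iff.2 hy) ?_
    rw [htr]; simp
  have h1 := hyb.isAlgebraic_field
  have hr : Set.range (fun _ : PUnit => y) = {y} := by ext; simp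
  rw [hr] at h1
  have : Algebra.EssFiniteType (IntermediateField.adjoin k ({y} : Set K)) K :=
    Algebra.EssFiniteType.of_comp k _ K
  exact Algebra.finite_of_essFiniteType_of_isAlgebraic

/-- A finite extension of a weak function field is a weak function field. -/
lemma of_finite (hK : IsFF1 k K) [FiniteDimensional K K'] : IsFF1 k K' := by
  refine of_trdeg_essFiniteType ?_ ?_
  · have h1 : Algebra.trdeg K K' = 0 := trdeg_eq_zero
    have h2 := lift_trdeg_add_eq k K K'
    rw [h1, hK.trdeg_eq_one] at h2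
    simp only [Cardinal.lift_one, Cardinal.lift_zero, add_zero] at h2
    have h3 : Cardinal.lift.{u_2} (Algebra.trdeg k K') = Cardinal.lift.{u_2} 1 := by
      rw [← h2]; simp
    exact Cardinal.lift_injective h3
  · have := hK.essFiniteType
    exact Algebra.EssFiniteType.comp k K K'

end IsFF1


section restrict

lemma isOverWith_ne_zero {Q : Place k K'} {P : Place k K} {e : ℕ} (h : IsOverWith Q P e) :
    e ≠ 0 := by
  rintro rfl
  have := h 0
  simp at this

lemma IsOverWith.ord_eq {Q : Place k K'} {P : Place k K} {e : ℕ} (h : IsOverWith Q P e) (x : K) :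
    Q.ord (algebraMap K K' x) = e * P.ord x := by
  rw [Place.ord, Place.ord, h x, log_pow]
  simp

lemma isOverWith_iff_ord {Q : Place k K'} {P : Place k K} {e : ℕ} (he : e ≠ 0) :
    IsOverWith Q P e ↔ ∀ x : K, x ≠ 0 → Q.ord (algebraMap K K' x) = e * P.ord x := by
  constructor
  · intro h x _
    exact h.ord_eq x
  · intro h x
    rcases eq_or_ne x 0 with rfl | hx
    · simp [he]
    · have hx' : algebraMap K K' x ≠ 0 := by
        rwa [Ne, map_eq_zero_iff _ (algebraMap K K').injective]
      rw [Q.v_eq_exp_neg_ord hx', P.v_eq_exp_neg_ord hx, h x hx, ← exp_nsmul]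
      congr 1
      simp

lemma IsOverWith.v_le_one_iff {Q : Place k K'} {P : Place k K} {e : ℕ} (h : IsOverWith Q P e)
    (x : K) : Q.1 (algebraMap K K' x) ≤ 1 ↔ P.1 x ≤ 1 := by
  rw [h x]
  exact pow_le_one_iff (isOverWith_ne_zero h)

lemma IsOverWith.v_lt_one_iff {Q : Place k K'} {P : Place k K} {e : ℕ} (h : IsOverWith Q P e)
    (x : K) : Q.1 (algebraMap K K' x) < 1 ↔ P.1 x < 1 := by
  rw [h x]
  exact pow_lt_one_iff (isOverWith_ne_zero h)

lemma IsOverWith.comap_O {Q : Place k K'} {P : Place k K} {e : ℕ} (h : IsOverWith Q P e) :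
    Q.O.comap (algebraMap K K') = P.O := by
  ext x
  rw [ValuationSubring.mem_comap, Q.mem_O_iff, P.mem_O_iff, h.v_le_one_iff]

/-- The place below is unique, as is the ramification index. -/
lemma IsOverWith.unique {Q : Place k K'} {P P' : Place k K} {e e' : ℕ} (h : IsOverWith Q P e)
    (h' : IsOverWith Q P' e') : P = P' ∧ e = e' := by
  have hP : P = P' := Place.eq_of_O_le (fun y hy => by
    rw [← h'.v_le_one_iff]; rwa [← h.v_le_one_iff] at hy)
  subst hP
  refine ⟨rfl, ?_⟩
  obtain ⟨t, ht⟩ := P.exists_uniformizer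
  have h1 := h t
  rw [h' t, ht, ← exp_nsmul, ← exp_nsmul, exp_inj] at h1
  simp only [nsmul_eq_mul, mul_neg, mul_one, neg_inj] at h1
  exact_mod_cast h1.symm

lemma IsOverWith.ramIdx_eq {Q : Place k K'} {P : Place k K} {e : ℕ} (h : IsOverWith Q P e) :
    ramIdx Q P = e := by
  classical
  have hex : IsOver Q P := ⟨e, h⟩
  rw [ramIdx, dif_pos hex]
  exact ((Nat.find_spec hex).unique h).2

lemma IsOver.isOverWith {Q : Place k K'} {P : Place k K} (h : IsOver Q P) :
    IsOverWith Q P (ramIdx Q P) := by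
  obtain ⟨e, he⟩ := h
  rwa [he.ramIdx_eq]

lemma IsOver.ramIdx_pos {Q : Place k K'} {P : Place k K} (h : IsOver Q P) : 0 < ramIdx Q P :=
  Nat.pos_of_ne_zero (isOverWith_ne_zero h.isOverWith)

lemma ramIdx_eq_zero_of_not_isOver {Q : Place k K'} {P : Place k K} (h : ¬ IsOver Q P) :
    ramIdx Q P = 0 := by
  classical
  rw [ramIdx, dif_neg h]

lemma IsOver.unique {Q : Place k K'} {P P' : Place k K} (h : IsOver Q P) (h' : IsOver Q P') :
    P = P' := by
  obtain ⟨e, he⟩ := h
  obtain ⟨e', he'⟩ := h'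
  exact (he.unique he').1

variable [Algebra.IsAlgebraic K K']

/-- Every place of `K'` lies over a (unique) place of `K`. -/
theorem exists_isOverWith (hK : IsFF1 k K) (Q : Place k K') :
    ∃ (P : Place k K) (e : ℕ), IsOverWith Q P e := by
  set O : ValuationSubring K := Q.O.comap (algebraMap K K') with hO
  have hk : ∀ c : k, algebraMap k K c ∈ O := by
    intro c
    rw [hO, ValuationSubring.mem_comap, ← IsScalarTower.algebraMap_apply]
    exact Q.algebraMap_mem_O c
  have hOtop : O ≠ ⊤ := by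
    intro htop
    have hv : ∀ c : K, Q.1 (algebraMap K K' c) ≤ 1 := by
      intro c
      have : c ∈ O := by rw [htop]; trivial
      rw [hO, ValuationSubring.mem_comap, Q.mem_O_iff] at this
      exact this
    obtain ⟨t', ht'⟩ := Q.exists_uniformizer
    have ht0 : t' ≠ 0 := by
      rintro rfl
      rw [map_zero] at ht'
      exact exp_ne_zero ht'.symm
    have h1 := v_eq_one_of_isAlgebraic (k := K) Q.1 hv ht0 (Algebra.IsAlgebraic.isAlgebraic t')
    rw [ht', ← exp_zero, exp_inj] at h1
    omega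
  obtain ⟨P, hP⟩ := W.exists_place_of_valuationSubring hK O hk hOtop
  have key : ∀ x : K, P.1 x ≤ 1 ↔ Q.1 (algebraMap K K' x) ≤ 1 := by
    intro x
    rw [← P.mem_O_iff, hP, hO, ValuationSubring.mem_comap, Q.mem_O_iff]
  have hne : ∀ x : K, x ≠ 0 → algebraMap K K' x ≠ 0 := fun x hx => by
    rwa [Ne, map_eq_zero_iff _ (algebraMap K K').injective]
  have key0 : ∀ x : K, x ≠ 0 → (0 ≤ P.ord x ↔ 0 ≤ Q.ord (algebraMap K K' x)) := by
    intro x hx
    rw [← P.v_le_one_iff hx, ← Q.v_le_one_iff (hne x hx), key]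
  have key1 : ∀ x : K, x ≠ 0 → P.ord x = 0 → Q.ord (algebraMap K K' x) = 0 := by
    intro x hx h0
    have h1 := (key0 x hx).1 h0.ge
    have h2 := (key0 x⁻¹ (inv_ne_zero hx)).1 (by rw [P.ord_inv, h0]; simp)
    rw [map_inv₀, Q.ord_inv] at h2
    omega
  obtain ⟨t, ht⟩ := P.exists_uniformizer
  have ht0 : t ≠ 0 := by
    rintro rfl
    rw [map_zero] at ht
    exact exp_ne_zero ht.symm
  have hordt : P.ord t = 1 := by rw [P.ord_eq_of_v_eq ht]; simp
  have hQt : 0 < Q.ord (algebraMap K K' t) := by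
    by_contra hle
    rw [not_lt] at hle
    have h2 := (key0 t⁻¹ (inv_ne_zero ht0)).2 (by rw [map_inv₀, Q.ord_inv]; omega)
    rw [P.ord_inv, hordt] at h2
    omega
  obtain ⟨e, he⟩ : ∃ e : ℕ, (e : ℤ) = Q.ord (algebraMap K K' t) :=
    ⟨(Q.ord (algebraMap K K' t)).toNat, Int.toNat_of_nonneg hQt.le⟩
  have he0 : e ≠ 0 := by
    rintro rfl
    rw [← he] at hQt
    simp at hQt
  refine ⟨P, e, (isOverWith_iff_ord he0).2 ?_⟩
  intro x hx
  set n := P.ord x with hn
  have hu0 : x * t ^ (-n) ≠ 0 := mul_ne_zero hx (zpow_ne_zero _ ht0)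
  have hu : P.ord (x * t ^ (-n)) = 0 := by
    rw [P.ord_mul hx (zpow_ne_zero _ ht0), P.ord_zpow, hordt]; ring
  have h1 := key1 _ hu0 hu
  rw [map_mul, map_zpow₀, Q.ord_mul (hne x hx) (zpow_ne_zero _ (hne t ht0)), Q.ord_zpow, ← he] at h1
  linarith

end restrict

end FunFld
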