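import Groth.Agent.Lib.Helper5.FunFld.LocRing
import Mathlib.GroupTheory.CosetCover

/-! Finite generation of the ring of functions regular off the poles of a projective map,
via Riemann–Roch (helper5). -/

set_option autoImplicit false

namespace FunFld

open WithZero

variable {k K : Type*} [Field k] [Field K] [Algebra k K]

section mult

variable (hK : IsFunctionField k K)

lemma nsmul_apply' (E : Divisor k K) (m : ℕ) (Q : Place k K) : (m • E) Q = m * E Q := by
  rw [Finsupp.smul_apply, nsmul_eq_mul]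

include hK in
/-- The multiplication map: if `s` has pole divisor exactly `E ≥ 0`, then
`L((m+1)E) = L(mE) + s L(mE)` once `(m-1) deg E ≥ 2g - 1`. -/
theorem L_succ_nsmul_eq_sup {E : Divisor k K} (hE : 0 ≤ E) {s : K}
    (hs : ∀ Q : Place k K, Q.1 s ≤ exp (E Q)) (hs' : ∀ Q : Place k K, 0 < E Q → Q.1 s = exp (E Q))
    (hs0 : s ≠ 0) (m : ℕ) (hm1 : 1 ≤ m) (hm : 2 * (genus k K : ℤ) - 1 ≤ ((m : ℤ) - 1) * E.deg) :
    L ((m + 1) • E) = L (m • E) ⊔ (L (m • E)).map (LinearMap.mulLeft k s) := by
  classical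
  have hdeg0 : 0 ≤ E.deg := Divisor.deg_nonneg hE
  set U : Submodule k K := L (m • E) with hU
  set sU : Submodule k K := U.map (LinearMap.mulLeft k s) with hsU
  have hfinU : FiniteDimensional k U := finiteDimensional_L hK _
  have hfinT : FiniteDimensional k (L ((m + 1) • E)) := finiteDimensional_L hK _
  have hmono : ∀ a b : ℕ, a ≤ b → L (a • E) ≤ L (b • E) := by
    intro a b hab
    refine L_mono (fun Q => ?_)
    rw [nsmul_apply', nsmul_apply']
    exact mul_le_mul_of_nonneg_right (by exact_mod_cast hab) (hE Q)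
  have hle : U ⊔ sU ≤ L ((m + 1) • E) := by
    refine sup_le (hmono _ _ (by omega)) ?_
    rintro _ ⟨b, hb, rfl⟩ Q
    rw [LinearMap.mulLeft_apply, map_mul, nsmul_apply']
    have := hb Q
    rw [nsmul_apply'] at this
    calc Q.1 s * Q.1 b ≤ exp (E Q) * exp ((m : ℤ) * E Q) := mul_le_mul' (hs Q) this
      _ = exp (((m + 1 : ℕ) : ℤ) * E Q) := by rw [← exp_add]; push_cast; ring_nf
  have hinj : Function.Injective (LinearMap.mulLeft k s) := by
    intro a b hab
    exact mul_left_cancel₀ hs0 hab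
  -- the intersection
  have hinter : U ⊓ sU = (L ((m - 1) • E)).map (LinearMap.mulLeft k s) := by
    ext x
    constructor
    · rintro ⟨hxU, b, hb, rfl⟩
      refine ⟨b, ?_, rfl⟩
      intro Q
      rw [nsmul_apply']
      by_cases hQ : 0 < E Q
      · have h1 := hxU Q
        rw [LinearMap.mulLeft_apply, map_mul, hs' Q hQ, nsmul_apply'] at h1
        have h2 : exp (E Q) * Q.1 b ≤ exp (E Q) * exp (((m - 1 : ℕ) : ℤ) * E Q) := by
          refine h1.trans (le_of_eq ?_)
          rw [← exp_add]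
          congr 1
          rw [Nat.cast_sub hm1]; push_cast; ring
        exact le_of_mul_le_mul_left h2 exp_pos
      · have hE0 : E Q = 0 := le_antisymm (not_lt.1 hQ) (hE Q)
        have h1 := hb Q
        rw [nsmul_apply', hE0, mul_zero] at h1
        rw [hE0, mul_zero]
        exact h1
    · rintro ⟨b, hb, rfl⟩
      have hbU : b ∈ U := hmono _ _ (by omega) hb
      refine ⟨?_, b, hbU, rfl⟩
      intro Q
      rw [LinearMap.mulLeft_apply, map_mul, nsmul_apply']
      have := hb Q
      rw [nsmul_apply'] at this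
      calc Q.1 s * Q.1 b ≤ exp (E Q) * exp (((m - 1 : ℕ) : ℤ) * E Q) := mul_le_mul' (hs Q) this
        _ = exp ((m : ℤ) * E Q) := by
          rw [← exp_add]; congr 1
          rw [Nat.cast_sub hm1]; push_cast; ring
  symm
  apply Submodule.eq_of_le_of_finrank_eq hle
  have h1 := Submodule.finrank_sup_add_finrank_inf_eq U sU
  have h2 : Module.finrank k sU = Module.finrank k U :=
    (LinearEquiv.finrank_eq (Submodule.equivMapOfInjective _ hinj U)).symm
  have h3 : Module.finrank k ↥(U ⊓ sU) = Module.finrank k (L ((m - 1) • E)) := by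
    rw [hinter]
    exact (LinearEquiv.finrank_eq (Submodule.equivMapOfInjective _ hinj _)).symm
  have e1 := ell_eq_of_large_deg hK (D := (m - 1) • E) (by
    rw [Divisor.deg_nsmul, Nat.cast_sub hm1]; push_cast; exact hm)
  have e2 := ell_eq_of_large_deg hK (D := m • E) (by
    rw [Divisor.deg_nsmul]
    have : ((m : ℤ) - 1) * E.deg ≤ (m : ℤ) * E.deg := by nlinarith
    linarith)
  have e3 := ell_eq_of_large_deg hK (D := (m + 1) • E) (by
    rw [Divisor.deg_nsmul]
    have : ((m : ℤ) - 1) * E.deg ≤ ((m + 1 : ℕ) : ℤ) * E.deg := by push_cast; nlinarith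
    linarith)
  rw [Divisor.deg_nsmul] at e1 e2 e3
  rw [Nat.cast_sub hm1] at e1
  push_cast at e1 e3
  unfold ell at e1 e2 e3
  rw [h2, h3] at h1
  have : (Module.finrank k ↥(U ⊔ sU) : ℤ) = Module.finrank k ↥(L ((m + 1) • E)) := by
    have h1' : (Module.finrank k ↥(U ⊔ sU) : ℤ) + Module.finrank k ↥(L ((m - 1) • E)) =
        Module.finrank k ↥U + Module.finrank k ↥U := by exact_mod_cast h1
    rw [e3]
    rw [hU] at h1'
    linarith
  exact_mod_cast this

end mult

section generic

variable (hK : IsFunctionField k K) {ι : Type*} [Fintype ι] [Nonempty ι]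

lemma Place.v_le_exp_pred_of_lt (P : Place k K) {x : K} {n : ℤ} (h : P.1 x < exp n) :
    P.1 x ≤ exp (n - 1) := by
  rcases eq_or_ne x 0 with rfl | hx
  · simp
  · rw [P.v_lt_exp_iff hx] at h
    rw [P.v_le_exp_iff hx]
    omega

include hK in
lemma span_le_L_mapDiv (ψ : ι → K) : Submodule.span k (Set.range ψ) ≤ L (mapDiv k ψ) := by
  rw [Submodule.span_le]
  rintro _ ⟨i, rfl⟩ Q
  rw [mapDiv_apply hK]
  rcases eq_or_ne (ψ i) 0 with h0 | h0
  · rw [h0, map_zero]; exact zero_le
  · rw [Q.v_le_exp_iff h0, neg_neg]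
    exact minOrd_le ψ Q i

include hK in
/-- A generic element of the span has the least order at every place of the support of the
divisor of the map. -/
theorem exists_generic_section [Infinite k] (ψ : ι → K) :
    ∃ s ∈ Submodule.span k (Set.range ψ), ∀ Q : Place k K, mapDiv k ψ Q ≠ 0 →
      Q.1 s = exp (mapDiv k ψ Q) := by
  classical
  set E := mapDiv k ψ with hE
  set W := Submodule.span k (Set.range ψ) with hW
  by_contra hno
  push Not at hno
  -- the bad subspaces
  let N : Place k K → Submodule k K := fun Q =>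
    { carrier := {x | Q.1 x ≤ exp (E Q - 1)}
      add_mem' := fun {x y} hx hy => (Q.1.map_add x y).trans (max_le hx hy)
      zero_mem' := by simp
      smul_mem' := fun c x hx => by
        rw [Set.mem_ofPred_eq, Algebra.smul_def, map_mul]
        calc Q.1 (algebraMap k K c) * Q.1 x ≤ 1 * exp (E Q - 1) :=
              mul_le_mul' (Q.v_algebraMap_le c) hx
          _ = _ := one_mul _ }
  let p : E.support → Subspace k W := fun Q => (N Q.1).comap W.subtype
  have hcov : ⋃ Q, (p Q : Set W) = Set.univ := by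
    rw [Set.eq_univ_iff_forall]
    intro f
    obtain ⟨Q, hQ0, hQ⟩ := hno f.1 f.2
    have hle := span_le_L_mapDiv hK ψ f.2 Q
    have hlt : Q.1 (f : K) < exp (E Q) := lt_of_le_of_ne hle hQ
    rw [Set.mem_iUnion]
    exact ⟨⟨Q, Finsupp.mem_support_iff.2 hQ0⟩, Q.v_le_exp_pred_of_lt hlt⟩
  obtain ⟨Q, hQ⟩ := Subspace.exists_eq_top_of_iUnion_eq_univ hcov
  have hQ0 : E Q.1 ≠ 0 := Finsupp.mem_support_iff.1 Q.2
  obtain ⟨i, hi⟩ := exists_minOrd_eq ψ Q.1
  have hEQ : E Q.1 = -(Q.1.ord (ψ i)) := by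
    have := mapDiv_apply hK ψ Q.1
    rw [hi] at this
    exact this
  have hi0 : ψ i ≠ 0 := by
    intro h0
    rw [h0, Place.ord_zero, neg_zero] at hEQ
    exact hQ0 hEQ
  have hmem : (⟨ψ i, Submodule.subset_span ⟨i, rfl⟩⟩ : W) ∈ p Q := by
    rw [hQ]; trivial
  have h1 : Q.1.1 (ψ i) ≤ exp (E Q.1 - 1) := hmem
  rw [Q.1.v_le_exp_iff hi0, hEQ] at h1
  omega

end generic

section fg

variable (hK : IsFunctionField k K) {ι : Type*} [Fintype ι] [Nonempty ι]

include hK in
lemma mapDiv_nonneg_of_one (ψ : ι → K) {j0 : ι} (hj0 : ψ j0 = 1) : 0 ≤ mapDiv k ψ := by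
  intro Q
  rw [mapDiv_apply hK]
  have := minOrd_le ψ Q j0
  rw [hj0, Place.ord_one] at this
  simp only [Finsupp.coe_zero, Pi.zero_apply]
  omega

include hK in
/-- **Finiteness.** The functions regular off the poles of the `ψ i` form a finitely generated
module over `k[ψ]`: they lie in the `k[ψ]`-span of `L(m₀ E)`, `E` the divisor of `(ψ i)`. -/
theorem exists_fg_bound [Infinite k] (ψ : ι → K) {j0 : ι} (hj0 : ψ j0 = 1)
    (hnc : ∃ i, ψ i ∉ Set.range (algebraMap k K)) :
    ∃ m0 : ℕ, ∀ z : K, (∀ Q : Place k K, mapDiv k ψ Q = 0 → Q.1 z ≤ 1) →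
      z ∈ Submodule.span (Algebra.adjoin k (Set.range ψ)) (L (m0 • mapDiv k ψ) : Set K) := by
  classical
  set E := mapDiv k ψ with hE
  set A := Algebra.adjoin k (Set.range ψ) with hA
  have hE0 : 0 ≤ E := mapDiv_nonneg_of_one hK ψ hj0
  -- E is nonzero
  obtain ⟨i1, hi1⟩ := hnc
  obtain ⟨Q1, hQ1⟩ := exists_place_ord_neg hK hi1
  have hEQ1 : 0 < E Q1 := by
    have h1 := mapDiv_apply hK ψ Q1
    have h2 := minOrd_le ψ Q1 i1
    rw [← hE] at h1
    omega
  have hdeg : 0 < E.deg := by
    refine lt_of_le_of_ne (Divisor.deg_nonneg hE0) ?_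
    intro h0
    have := Divisor.eq_zero_of_nonneg_of_deg_eq_zero hK hE0 h0.symm
    rw [this] at hEQ1
    exact lt_irrefl _ hEQ1
  obtain ⟨s, hsW, hsgen⟩ := exists_generic_section hK ψ
  have hsL : ∀ Q : Place k K, Q.1 s ≤ exp (E Q) := fun Q => span_le_L_mapDiv hK ψ hsW Q
  have hsE : ∀ Q : Place k K, 0 < E Q → Q.1 s = exp (E Q) := fun Q hQ => hsgen Q hQ.ne'
  have hs0 : s ≠ 0 := by
    rintro rfl
    have := hsE Q1 hEQ1
    rw [map_zero] at this
    exact exp_ne_zero this.symm
  have hsA : s ∈ A := by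
    have hle : Submodule.span k (Set.range ψ) ≤ Subalgebra.toSubmodule A := by
      rw [Submodule.span_le]
      exact Algebra.subset_adjoin
    exact hle hsW
  set m0 : ℕ := 2 * genus k K + 1 with hm0
  refine ⟨m0, fun z hz => ?_⟩
  set M := Submodule.span A (L (m0 • E) : Set K) with hM
  have hstep : ∀ m : ℕ, m0 ≤ m → (L (m • E) : Set K) ⊆ M := by
    intro m hm
    induction m, hm using Nat.le_induction with
    | base => exact Submodule.subset_span
    | succ m hm ih =>
      have hmul := L_succ_nsmul_eq_sup hK hE0 hsL hsE hs0 m (by omega) (by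
        have h1 : (2 * (genus k K : ℤ)) ≤ (m : ℤ) - 1 := by
          have : ((m0 : ℕ) : ℤ) ≤ m := by exact_mod_cast hm
          rw [hm0] at this; push_cast at this; omega
        have h2 : (1 : ℤ) ≤ E.deg := hdeg
        nlinarith)
      intro x hx
      rw [SetLike.mem_coe, hmul, Submodule.mem_sup] at hx
      obtain ⟨u, hu, v, ⟨b, hb, rfl⟩, rfl⟩ := hx
      refine M.add_mem (ih hu) ?_
      have : LinearMap.mulLeft k s b = (⟨s, hsA⟩ : A) • b := rfl
      rw [this]
      exact M.smul_mem _ (ih hb)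
  rcases eq_or_ne z 0 with rfl | hz0
  · exact M.zero_mem
  -- a bound on the pole orders of z
  set mz : ℕ := (div k z).support.sup (fun Q => (-(Q.ord z)).toNat) with hmz
  have hbound : ∀ Q : Place k K, -(Q.ord z) ≤ mz := by
    intro Q
    by_cases hQ : Q ∈ (div k z).support
    · have := Finset.le_sup (f := fun Q : Place k K => (-(Q.ord z)).toNat) hQ
      have h2 := Int.self_le_toNat (-(Q.ord z))
      have h3 : ((-(Q.ord z)).toNat : ℤ) ≤ mz := by exact_mod_cast this
      linarith
    · rw [Finsupp.notMem_support_iff, div_apply hK] at hQ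
      rw [hQ]; simp
  apply hstep (m0 + mz) (by omega)
  intro Q
  rw [nsmul_apply']
  by_cases hQ : 0 < E Q
  · rw [Q.v_le_exp_iff hz0]
    have h1 := hbound Q
    have h2 : (mz : ℤ) * 1 ≤ ((m0 + mz : ℕ) : ℤ) * E Q := by
      have : (1 : ℤ) ≤ E Q := hQ
      push_cast
      nlinarith [Int.natCast_nonneg m0, Int.natCast_nonneg mz]
    linarith
  · have hEQ : E Q = 0 := le_antisymm (not_lt.1 hQ) (hE0 Q)
    rw [hEQ, mul_zero, exp_zero]
    exact hz Q hEQ

end fg

end FunFld
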