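import Groth.Agent.Lib.Helper5.FunFld.LinSeries2
import Groth.Agent.Lib.Helper5.PolyPlucker

/-! Function fields of genus zero over an algebraically closed field: coordinates and
the Plücker inequality (helper5). -/

set_option autoImplicit false

namespace FunFld

open WithZero Polynomial

variable {k K : Type*} [Field k] [Field K] [Algebra k K]

/-- At a place of degree one every integral element is congruent to a constant. -/
theorem Place.exists_const_sub_lt (P : Place k K) (hP : P.deg = 1) {y : K} (hy : P.1 y ≤ 1) :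
    ∃ c : k, P.1 (y - algebraMap k K c) < 1 := by
  have h1 : IsLocalRing.residue P.O (1 : P.O) ≠ 0 := by
    rw [map_one]; exact one_ne_zero
  obtain ⟨c, hc⟩ := (finrank_eq_one_iff_of_nonzero' (IsLocalRing.residue P.O (1 : P.O)) h1).1 hP
    (IsLocalRing.residue P.O ⟨y, P.mem_O_iff.2 hy⟩)
  refine ⟨c, ?_⟩
  have hc' : IsLocalRing.residue P.O (c • (1 : P.O)) =
      IsLocalRing.residue P.O ⟨y, P.mem_O_iff.2 hy⟩ := (P.residue_smul c 1).trans hc
  have h2 : IsLocalRing.residue P.O (⟨y, P.mem_O_iff.2 hy⟩ - c • (1 : P.O)) = 0 := by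
    rw [map_sub, hc', sub_self]
  rw [P.residue_eq_zero_iff] at h2
  have h3 : ((⟨y, P.mem_O_iff.2 hy⟩ - c • (1 : P.O) : P.O) : K) = y - algebraMap k K c := by
    have : ((⟨y, P.mem_O_iff.2 hy⟩ - c • (1 : P.O) : P.O) : K) =
        y - ((c • (1 : P.O) : P.O) : K) := rfl
    rw [this, P.coe_smul_O, Algebra.smul_def]
    simp
  rwa [h3] at h2

section coord

variable [IsAlgClosed k] (hK : IsFunctionField k K)

include hK in
/-- Any finite set of places misses some place. -/
theorem exists_place_notMem (S : Finset (Place k K)) : ∃ P : Place k K, P ∉ S := by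
  classical
  obtain ⟨⟨x, hxtr, -⟩, -⟩ := id hK
  have hxr : ∀ c : k, x - algebraMap k K c ∉ Set.range (algebraMap k K) := by
    rintro c ⟨e, he⟩
    apply hxtr
    have : x = algebraMap k K (e + c) := by rw [map_add, he]; ring
    rw [this]
    exact isAlgebraic_algebraMap _
  choose Pc hPc using fun c : k => exists_place_v_lt_one hK (hxr c)
  have hinj : Function.Injective Pc := by
    intro c c' h
    by_contra hne
    have h1 := hPc c
    have h2 := hPc c'
    rw [← h] at h2
    have h3 : (Pc c).1 ((x - algebraMap k K c') - (x - algebraMap k K c)) < 1 :=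
      lt_of_le_of_lt (Valuation.map_sub _ _ _) (max_lt h2 h1)
    have h4 : (x - algebraMap k K c') - (x - algebraMap k K c) = algebraMap k K (c - c') := by
      rw [map_sub]; ring
    rw [h4, (Pc c).v_algebraMap (sub_ne_zero.2 hne)] at h3
    exact lt_irrefl _ h3
  by_contra hall
  push Not at hall
  have : Set.Finite (Set.range Pc) := S.finite_toSet.subset (by rintro _ ⟨c, rfl⟩; exact hall _)
  exact (Set.infinite_range_of_injective hinj) this

include hK in
/-- In genus zero, every place is the unique simple pole of a generator. -/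
theorem exists_coordinate (hg : genus k K = 0) (Pinf : Place k K) :
    ∃ x : K, x ∉ Set.range (algebraMap k K) ∧ Pinf.1 x = exp 1 ∧
      (∀ Q : Place k K, Q ≠ Pinf → Q.1 x ≤ 1) ∧
      Module.finrank (IntermediateField.adjoin k ({x} : Set K)) K = 1 := by
  have hdP := Place.deg_eq_one_of_isAlgClosed hK Pinf
  have hell := ell_eq_of_large_deg hK (D := (Finsupp.single Pinf 1 : Divisor k K)) (by
    rw [hg, Divisor.deg_single, hdP]; norm_num)
  rw [hg, Divisor.deg_single, hdP] at hell
  have hlt : ell (0 : Divisor k K) < ell (Finsupp.single Pinf 1 : Divisor k K) := by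
    rw [ell_zero hK]
    have : (ell (Finsupp.single Pinf 1 : Divisor k K) : ℤ) = 2 := by rw [hell]; norm_num
    omega
  obtain ⟨x, hxL, hx0⟩ := exists_mem_L_notMem hK hlt
  have hxr : x ∉ Set.range (algebraMap k K) := by
    rintro ⟨c, rfl⟩
    apply hx0
    intro Q
    rw [Finsupp.zero_apply, exp_zero]
    exact Q.v_algebraMap_le c
  have hv : Pinf.1 x = exp 1 := by
    refine v_eq_of_mem_L_single hxL ?_
    simpa using hx0
  refine ⟨x, hxr, hv, fun Q hQ => v_le_one_of_mem_L_single hQ hxL, ?_⟩
  have h1 := deg_poleDiv hK hxr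
  rw [poleDiv_eq_single hK (by norm_num) hxL hv, Divisor.deg_single, hdP] at h1
  have : ((Module.finrank (IntermediateField.adjoin k ({x} : Set K)) K : ℕ) : ℤ) = 1 := by
    rw [← h1]; norm_num
  exact_mod_cast this

end coord

section aevalv

/-- A polynomial in an integral element is integral. -/
lemma Place.v_aeval_le_one (Q : Place k K) {x : K} (hx : Q.1 x ≤ 1) (f : k[X]) :
    Q.1 (aeval x f) ≤ 1 := by
  induction f using Polynomial.induction_on' with
  | add p q hp hq =>
    rw [map_add]
    exact (Q.1.map_add _ _).trans (max_le hp hq)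
  | monomial n c =>
    rw [aeval_monomial, map_mul, map_pow]
    calc _ ≤ (1 : WithZero (Multiplicative ℤ)) * 1 ^ n :=
          mul_le_mul' (Q.v_algebraMap_le c) (pow_le_pow_left' hx n)
      _ = 1 := by simp

/-- A polynomial of degree `≤ d` in an element with a pole of order one has a pole of order
at most `d`. -/
lemma Place.v_aeval_le_exp (Q : Place k K) {x : K} (hx : Q.1 x = exp 1) {d : ℕ} {f : k[X]}
    (hf : f ∈ degreeLT k (d + 1)) : Q.1 (aeval x f) ≤ exp (d : ℤ) := by
  rw [mem_degreeLT] at hf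
  rw [aeval_eq_sum_range' (n := d + 1) (by
    rcases eq_or_ne f 0 with rfl | hf0
    · simp
    · rw [Polynomial.natDegree_lt_iff_degree_lt hf0]; exact_mod_cast hf)]
  refine Valuation.map_sum_le _ (fun i hi => ?_)
  rw [Finset.mem_range] at hi
  rw [Algebra.smul_def, map_mul, map_pow, hx]
  calc _ ≤ (1 : WithZero (Multiplicative ℤ)) * exp (1 : ℤ) ^ i :=
        mul_le_mul' (Q.v_algebraMap_le _) le_rfl
    _ = exp (i : ℤ) := by rw [one_mul, ← exp_nsmul]; simp
    _ ≤ exp (d : ℤ) := by rw [exp_le_exp]; exact_mod_cast Nat.lt_succ_iff.1 hi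

/-- At a place where `x - a` is a uniformizer, the order of `f(x)` is the multiplicity of `a`
as a root of `f`. -/
lemma Place.v_aeval_le_exp_neg_iff (P : Place k K) {x : K} {a : k}
    (hxa : P.1 (x - algebraMap k K a) = exp (-1)) (f : k[X]) (n : ℕ) :
    P.1 (aeval x f) ≤ exp (-(n : ℤ)) ↔ (X - C a) ^ n ∣ f := by
  have hx1 : P.1 x ≤ 1 := by
    have : x = (x - algebraMap k K a) + algebraMap k K a := by ring
    rw [this]
    refine (P.1.map_add _ _).trans (max_le ?_ (P.v_algebraMap_le a))
    rw [hxa, ← exp_zero, exp_le_exp]; norm_num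
  have hpow : ∀ m : ℕ, P.1 (aeval x ((X - C a) ^ m : k[X])) = exp (-(m : ℤ)) := by
    intro m
    rw [map_pow, map_sub, aeval_X, aeval_C, map_pow, hxa, ← exp_nsmul]; simp
  constructor
  · intro h
    rcases eq_or_ne f 0 with rfl | hf0
    · exact dvd_zero _
    obtain ⟨g, hfg, hg⟩ := Polynomial.exists_eq_pow_rootMultiplicity_mul_and_not_dvd f hf0 a
    set m := f.rootMultiplicity a with hm
    -- `g(x)` is a unit at `P`
    have hga : g.eval a ≠ 0 := by
      intro h0
      exact hg ((Polynomial.dvd_iff_isRoot).2 h0)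
    have hgdecomp : g = (X - C a) * (g /ₘ (X - C a)) + C (g.eval a) := by
      have := Polynomial.modByMonic_add_div g (X - C a)
      rw [Polynomial.modByMonic_X_sub_C_eq_C_eval] at this
      rw [add_comm]; exact this.symm
    have hg1 : P.1 (aeval x g) = 1 := by
      rw [hgdecomp, map_add, map_mul, map_sub, aeval_X, aeval_C, aeval_C]
      have h1 : P.1 ((x - algebraMap k K a) * aeval x (g /ₘ (X - C a))) < 1 := by
        rw [map_mul, hxa]
        calc _ ≤ exp (-1 : ℤ) * 1 := mul_le_mul' le_rfl (P.v_aeval_le_one hx1 _)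
          _ < 1 := by rw [mul_one, ← exp_zero, exp_lt_exp]; norm_num
      have h2 : P.1 (algebraMap k K (g.eval a)) = 1 := P.v_algebraMap hga
      rw [Valuation.map_add_eq_of_lt_right _ (by rw [h2]; exact h1), h2]
    have hfv : P.1 (aeval x f) = exp (-(m : ℤ)) := by
      rw [hfg, map_mul, map_mul, hpow, hg1, mul_one]
    rw [hfv, exp_le_exp] at h
    have hnm : n ≤ m := by omega
    rw [hfg]
    exact (pow_dvd_pow _ hnm).trans (dvd_mul_right _ _)
  · rintro ⟨g, rfl⟩
    rw [map_mul, map_mul, hpow]
    calc _ ≤ exp (-(n : ℤ)) * 1 := mul_le_mul' le_rfl (P.v_aeval_le_one hx1 _)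
      _ = _ := mul_one _

end aevalv

section coord2

variable [IsAlgClosed k] (hK : IsFunctionField k K)

/-- `x` is a coordinate with its only (simple) pole at `Pinf`, and `K = k(x)`. -/
structure IsCoord (Pinf : Place k K) (x : K) : Prop where
  notMem : x ∉ Set.range (algebraMap k K)
  v_inf : Pinf.1 x = exp 1
  v_le : ∀ Q : Place k K, Q ≠ Pinf → Q.1 x ≤ 1
  finrank_eq : Module.finrank (IntermediateField.adjoin k ({x} : Set K)) K = 1

include hK in
theorem exists_isCoord (hg : genus k K = 0) (Pinf : Place k K) : ∃ x : K, IsCoord Pinf x := by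
  obtain ⟨x, h1, h2, h3, h4⟩ := exists_coordinate hK hg Pinf
  exact ⟨x, h1, h2, h3, h4⟩

omit [IsAlgClosed k] in
lemma adjoin_sub_algebraMap (x : K) (a : k) :
    IntermediateField.adjoin k ({x - algebraMap k K a} : Set K) =
      IntermediateField.adjoin k ({x} : Set K) := by
  apply le_antisymm
  · rw [IntermediateField.adjoin_simple_le_iff]
    exact sub_mem (IntermediateField.mem_adjoin_simple_self k x) (algebraMap_mem _ a)
  · rw [IntermediateField.adjoin_simple_le_iff]
    have := add_mem (IntermediateField.mem_adjoin_simple_self k (x - algebraMap k K a))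
      (algebraMap_mem (IntermediateField.adjoin k ({x - algebraMap k K a} : Set K)) a)
    rwa [sub_add_cancel] at this

variable {Pinf : Place k K} {x : K}

omit [IsAlgClosed k] in
lemma IsCoord.sub_notMem (hx : IsCoord Pinf x) (a : k) :
    x - algebraMap k K a ∉ Set.range (algebraMap k K) := by
  rintro ⟨e, he⟩
  apply hx.notMem
  exact ⟨e + a, by rw [map_add, he]; ring⟩

include hK in
/-- Each finite place has a parameter `a` with `x - a` a uniformizer there. -/
lemma IsCoord.exists_param (hx : IsCoord Pinf x) {P : Place k K} (hP : P ≠ Pinf) :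
    ∃ a : k, P.1 (x - algebraMap k K a) = exp (-1) := by
  classical
  obtain ⟨a, ha⟩ := P.exists_const_sub_lt (Place.deg_eq_one_of_isAlgClosed hK P) (hx.v_le P hP)
  refine ⟨a, ?_⟩
  have hne := hx.sub_notMem a
  have hy0 : x - algebraMap k K a ≠ 0 := by
    intro h0; exact hne ⟨0, by rw [map_zero, h0]⟩
  have h1 := sum_deg_mul_ord_le_finrank hK hne {P} (by
    intro Q hQ; rw [Finset.mem_singleton] at hQ; subst hQ; exact ha)
  rw [Finset.sum_singleton, Place.deg_eq_one_of_isAlgClosed hK P, one_mul, adjoin_sub_algebraMap,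
    hx.finrank_eq] at h1
  have h2 := (P.v_lt_one_iff hy0).1 ha
  have h3 : P.ord (x - algebraMap k K a) = 1 := by omega
  rw [P.v_eq_exp_neg_ord hy0, h3]

include hK in
/-- The parameter determines the place. -/
lemma IsCoord.eq_of_param (hx : IsCoord Pinf x) {P Q : Place k K} {a : k}
    (hP : P.1 (x - algebraMap k K a) < 1) (hQ : Q.1 (x - algebraMap k K a) < 1) : P = Q := by
  classical
  by_contra hne'
  have hne := hx.sub_notMem a
  have hy0 : x - algebraMap k K a ≠ 0 := by
    intro h0; exact hne ⟨0, by rw [map_zero, h0]⟩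
  have h1 := sum_deg_mul_ord_le_finrank hK hne {P, Q} (by
    intro R hR
    rw [Finset.mem_insert, Finset.mem_singleton] at hR
    rcases hR with rfl | rfl
    · exact hP
    · exact hQ)
  rw [Finset.sum_pair hne', Place.deg_eq_one_of_isAlgClosed hK P,
    Place.deg_eq_one_of_isAlgClosed hK Q, one_mul, one_mul, adjoin_sub_algebraMap,
    hx.finrank_eq] at h1
  have h2 := (P.v_lt_one_iff hy0).1 hP
  have h3 := (Q.v_lt_one_iff hy0).1 hQ
  omega

omit [IsAlgClosed k] in
include hK in
lemma IsCoord.aeval_injective (hx : IsCoord Pinf x) :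
    Function.Injective (aeval (R := k) x) := by
  have htr := hK.transcendental_of_notMem hx.notMem
  exact transcendental_iff_injective.1 htr

include hK in
/-- `L(d · Pinf)` is the space of polynomials of degree `≤ d` in the coordinate. -/
theorem IsCoord.L_eq_map (hx : IsCoord Pinf x) (hg : genus k K = 0) (d : ℕ) :
    L (Finsupp.single Pinf (d : ℤ) : Divisor k K) =
      (degreeLT k (d + 1)).map (aeval (R := k) x).toLinearMap := by
  classical
  symm
  have hfin := finiteDimensional_L hK (Finsupp.single Pinf (d : ℤ) : Divisor k K)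
  apply Submodule.eq_of_le_of_finrank_eq
  · rintro _ ⟨f, hf, rfl⟩
    intro Q
    rw [AlgHom.toLinearMap_apply]
    by_cases hQ : Q = Pinf
    · subst hQ
      rw [Finsupp.single_eq_same]
      exact Q.v_aeval_le_exp hx.v_inf hf
    · rw [Finsupp.single_eq_of_ne hQ, exp_zero]
      exact Q.v_aeval_le_one (hx.v_le Q hQ) f
  · have h1 : Module.finrank k ↥((degreeLT k (d + 1)).map (aeval (R := k) x).toLinearMap) =
        d + 1 := by
      rw [LinearEquiv.finrank_eq (Submodule.equivMapOfInjective _ (hx.aeval_injective hK) _).symm,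
        LinearEquiv.finrank_eq (degreeLTEquiv k (d + 1))]
      simp
    rw [h1]
    have h2 := ell_eq_of_large_deg hK (D := (Finsupp.single Pinf (d : ℤ) : Divisor k K)) (by
      rw [hg, Divisor.deg_single, Place.deg_eq_one_of_isAlgClosed hK Pinf]; push_cast; omega)
    rw [hg, Divisor.deg_single, Place.deg_eq_one_of_isAlgClosed hK Pinf] at h2
    have : (ell (Finsupp.single Pinf (d : ℤ) : Divisor k K) : ℤ) = d + 1 := by
      rw [h2]; push_cast; ring
    have h3 : ell (Finsupp.single Pinf (d : ℤ) : Divisor k K) = d + 1 := by exact_mod_cast this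
    exact h3.symm

omit [IsAlgClosed k] in
include hK in
/-- In genus zero every divisor of degree zero is principal. -/
theorem exists_div_eq_of_deg_eq_zero (hg : genus k K = 0) {E : Divisor k K} (hE : E.deg = 0) :
    ∃ h : K, h ≠ 0 ∧ div k h = E := by
  have h2 := ell_eq_of_large_deg hK (D := -E) (by
    rw [hg, Divisor.deg_neg, hE]; norm_num)
  rw [hg, Divisor.deg_neg, hE] at h2
  have hpos : 0 < ell (-E) := by
    have : (ell (-E) : ℤ) = 1 := by rw [h2]; norm_num
    omega
  obtain ⟨h, hh0, hh⟩ := (ell_pos_iff hK (-E)).1 hpos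
  refine ⟨h, hh0, ?_⟩
  have h0 := Divisor.eq_zero_of_nonneg_of_deg_eq_zero hK hh (by
    rw [Divisor.deg_add, Divisor.deg_neg, hE, deg_div hK]; norm_num)
  have : div k h = E + (-E + div k h) := by abel
  rw [this, h0, add_zero]

include hK in
/-- **Plücker inequality** on a curve of genus zero (characteristic zero, algebraically closed
constants): the weights of a `g^r_d` at finitely many places sum to at most `(r+1)(d-r)`. -/
theorem plucker_genus_zero [CharZero k] (hg : genus k K = 0) {V : Submodule k K}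
    {D : Divisor k K} {d r : ℕ} (hD : D.deg = d) (hV : V ≤ L D)
    (hVr : Module.finrank k ↥V = r + 1) (S : Finset (Place k K)) :
    ∑ P ∈ S, (Wsum V D P d - r * (r + 1) / 2) + r * (r + 1) ≤ (r + 1) * d := by
  classical
  obtain ⟨Pinf, hPinf⟩ := exists_place_notMem hK S
  obtain ⟨x, hx⟩ := exists_isCoord hK hg Pinf
  have hdinf := Place.deg_eq_one_of_isAlgClosed hK Pinf
  obtain ⟨h, hh0, hdiv⟩ := exists_div_eq_of_deg_eq_zero hK hg
    (E := D - Finsupp.single Pinf (d : ℤ)) (by
      rw [Divisor.deg_sub, hD, Divisor.deg_single, hdinf]; ring)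
  let ψ : k[X] →ₗ[k] K := (LinearMap.mulLeft k h⁻¹).comp (aeval (R := k) x).toLinearMap
  have hψ : ∀ f, ψ f = h⁻¹ * aeval x f := fun f => rfl
  have hψinj : Function.Injective ψ := by
    intro f g hfg
    rw [hψ, hψ] at hfg
    exact hx.aeval_injective hK (mul_left_cancel₀ (inv_ne_zero hh0) hfg)
  have hhψ : ∀ f, h * ψ f = aeval x f := by
    intro f; rw [hψ, ← mul_assoc, mul_inv_cancel₀ hh0, one_mul]
  -- membership transfer
  have hiff : ∀ (f : k[X]) (E : Divisor k K),
      ψ f ∈ L (D - E) ↔ aeval x f ∈ L (Finsupp.single Pinf (d : ℤ) - E) := by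
    intro f E
    rw [← hhψ f, mul_mem_L_iff hK _ _ hh0, hdiv]
    have : Finsupp.single Pinf (d : ℤ) - E + (D - Finsupp.single Pinf (d : ℤ)) = D - E := by abel
    rw [this]
  have hkey : ∀ y ∈ L D, ∃ f ∈ degreeLT k (d + 1), ψ f = y := by
    intro y hy
    have h1 : h * y ∈ L (Finsupp.single Pinf (d : ℤ) : Divisor k K) := by
      rw [mul_mem_L_iff hK _ y hh0, hdiv]
      have : Finsupp.single Pinf (d : ℤ) + (D - Finsupp.single Pinf (d : ℤ)) = D := by abel
      rwa [this]
    rw [hx.L_eq_map hK hg d] at h1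
    obtain ⟨f, hf, hfy⟩ := h1
    refine ⟨f, hf, ?_⟩
    rw [AlgHom.toLinearMap_apply] at hfy
    rw [hψ, hfy, ← mul_assoc, inv_mul_cancel₀ hh0, one_mul]
  set U : Submodule k k[X] := V.comap ψ with hU
  have hUd : U ≤ degreeLT k (d + 1) := by
    intro f hf
    obtain ⟨g, hg', hgf⟩ := hkey (ψ f) (hV hf)
    rwa [← hψinj hgf]
  have hmapU : U.map ψ = V := by
    apply le_antisymm
    · exact Submodule.map_comap_le _ _
    · intro y hy
      obtain ⟨f, -, hfy⟩ := hkey y (hV hy)
      exact ⟨f, show ψ f ∈ V by rw [hfy]; exact hy, hfy⟩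
  have hUr : Module.finrank k ↥U = r + 1 := by
    rw [← hVr]
    have := LinearEquiv.finrank_eq (Submodule.equivMapOfInjective ψ hψinj U)
    rw [this, hmapU]
  have hfinU : FiniteDimensional k U := Module.finite_of_finrank_pos (by omega)
  have hSne : ∀ P ∈ S, P ≠ Pinf := fun P hP h => hPinf (h ▸ hP)
  have hex : ∀ P : Place k K, ∃ a : k, P ≠ Pinf → P.1 (x - algebraMap k K a) = exp (-1) := by
    intro P
    by_cases hP : P = Pinf
    · exact ⟨0, fun h => absurd hP h⟩
    · obtain ⟨a, ha⟩ := hx.exists_param hK hP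
      exact ⟨a, fun _ => ha⟩
  choose a ha using hex
  have hainj : Set.InjOn a (S : Set (Place k K)) := by
    intro P hP Q hQ hPQ
    have h1 := ha P (hSne P hP)
    have h2 := ha Q (hSne Q hQ)
    rw [hPQ] at h1
    have hlt : exp (-1 : ℤ) < (1 : WithZero (Multiplicative ℤ)) := by
      rw [← exp_zero, exp_lt_exp]; norm_num
    exact hx.eq_of_param hK (h1 ▸ hlt) (h2 ▸ hlt)
  -- matching of the vanishing filtrations
  have hmatch : ∀ P ∈ S, ∀ n : ℕ,
      Module.finrank k ↥(V ⊓ L (D - Finsupp.single P (n : ℤ))) =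
        Module.finrank k ↥(U ⊓ H5W.Fa (a P) n) := by
    intro P hP n
    have hPne := hSne P hP
    have hmap : (U ⊓ H5W.Fa (a P) n).map ψ = V ⊓ L (D - Finsupp.single P (n : ℤ)) := by
      apply le_antisymm
      · rintro _ ⟨f, ⟨hfU, hfa⟩, rfl⟩
        refine ⟨hfU, (hiff f _).2 ?_⟩
        replace hfa : (X - C (a P)) ^ n ∣ f := H5W.mem_Fa.1 hfa
        intro Q
        rw [Finsupp.sub_apply]
        by_cases hQ : Q = Pinf
        · subst hQ
          rw [Finsupp.single_eq_same, Finsupp.single_eq_of_ne hPne.symm, sub_zero]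
          exact Q.v_aeval_le_exp hx.v_inf (hUd hfU)
        · rw [Finsupp.single_eq_of_ne hQ, zero_sub]
          by_cases hQP : Q = P
          · subst hQP
            rw [Finsupp.single_eq_same]
            exact (Q.v_aeval_le_exp_neg_iff (ha Q hPne) f n).2 hfa
          · rw [Finsupp.single_eq_of_ne hQP, neg_zero, exp_zero]
            exact Q.v_aeval_le_one (hx.v_le Q hQ) f
      · rintro y ⟨hyV, hyL⟩
        obtain ⟨f, -, hfy⟩ := hkey y (hV hyV)
        refine ⟨f, ⟨show ψ f ∈ V by rw [hfy]; exact hyV, ?_⟩, hfy⟩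
        have hyL' : ψ f ∈ L (D - Finsupp.single P (n : ℤ)) := by rw [hfy]; exact hyL
        have h1 := (hiff f _).1 hyL' P
        rw [Finsupp.sub_apply, Finsupp.single_eq_same, Finsupp.single_eq_of_ne hPne, zero_sub] at h1
        exact H5W.mem_Fa.2 ((P.v_aeval_le_exp_neg_iff (ha P hPne) f n).1 h1)
    rw [← hmap]
    exact (LinearEquiv.finrank_eq (Submodule.equivMapOfInjective ψ hψinj _)).symm
  have hW : ∀ P ∈ S, Wsum V D P d =
      ∑ n ∈ Finset.range d, Module.finrank k ↥(U ⊓ H5W.Fa (a P) (n + 1)) := by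
    intro P hP
    rw [Wsum_def]
    refine Finset.sum_congr rfl (fun n _ => ?_)
    rw [← hmatch P hP (n + 1)]
    push_cast
    rfl
  have := H5W.poly_plucker hUd hUr (S.image a)
  rw [Finset.sum_image hainj] at this
  calc _ = ∑ P ∈ S, ((∑ n ∈ Finset.range d, Module.finrank k ↥(U ⊓ H5W.Fa (a P) (n + 1))) -
        r * (r + 1) / 2) + r * (r + 1) := by
        congr 1
        exact Finset.sum_congr rfl (fun P hP => by rw [hW P hP])
    _ ≤ _ := this

end coord2

end FunFld
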