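import Mathlib.LinearAlgebra.Isomorphisms
import Mathlib.LinearAlgebra.FiniteDimensional.Lemmas
import Mathlib.RingTheory.Finiteness.Finsupp
import Mathlib.LinearAlgebra.Dimension.Finite

/-! Relative quotients `W / (U ∩ W)` of subspaces: chain additivity (helper5). -/

set_option autoImplicit false

namespace FunFld

variable {k M : Type*} [Field k] [AddCommGroup M] [Module k M]

/-- The relative quotient `W / (U ∩ W)`, in the shape used by the statements. -/
abbrev RelQ (U W : Submodule k M) := ↥W ⧸ Submodule.comap W.subtype U

section chain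

variable {U V W : Submodule k M} (hUV : U ≤ V) (hVW : V ≤ W)

/-- `V / U → W / U`. -/
def relQIncl (hVW : V ≤ W) : RelQ U V →ₗ[k] RelQ U W :=
  Submodule.mapQ _ _ (Submodule.inclusion hVW) (fun _ hx => hx)

/-- `W / U → W / V`. -/
def relQProj (hUV : U ≤ V) : RelQ U W →ₗ[k] RelQ V W :=
  Submodule.mapQ _ _ LinearMap.id (fun _ hx => hUV hx)

lemma relQIncl_injective : Function.Injective (relQIncl (U := U) hVW) := by
  rw [← LinearMap.ker_eq_bot, Submodule.eq_bot_iff]
  intro q hq
  induction q using Submodule.Quotient.induction_on with
  | H v =>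
    rw [LinearMap.mem_ker, relQIncl, Submodule.mapQ_apply, Submodule.Quotient.mk_eq_zero] at hq
    rw [Submodule.Quotient.mk_eq_zero]
    exact hq

lemma relQProj_surjective : Function.Surjective (relQProj (U := U) (W := W) hUV) := by
  intro q
  induction q using Submodule.Quotient.induction_on with
  | H w => exact ⟨Submodule.Quotient.mk w, rfl⟩

lemma ker_relQProj_eq_range_relQIncl :
    LinearMap.ker (relQProj (U := U) (W := W) hUV) = LinearMap.range (relQIncl (U := U) hVW) := by
  ext q
  induction q using Submodule.Quotient.induction_on with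
  | H w =>
    rw [LinearMap.mem_ker, relQProj, Submodule.mapQ_apply, Submodule.Quotient.mk_eq_zero]
    constructor
    · intro hw
      exact ⟨Submodule.Quotient.mk ⟨w.1, hw⟩, rfl⟩
    · rintro ⟨q', hq'⟩
      induction q' using Submodule.Quotient.induction_on with
      | H v =>
        rw [relQIncl, Submodule.mapQ_apply, Submodule.Quotient.eq] at hq'
        have h1 : ((Submodule.inclusion hVW v - w : W) : M) ∈ U := hq'
        have h2 : (w : M) = v - ((Submodule.inclusion hVW v - w : W) : M) := by
          simp
        show (w : M) ∈ V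
        rw [h2]
        exact V.sub_mem v.2 (hUV h1)

include hUV hVW in
/-- Additivity of the dimensions of relative quotients along a chain `U ≤ V ≤ W`. -/
theorem relQ_chain [FiniteDimensional k (RelQ U V)] [FiniteDimensional k (RelQ V W)] :
    FiniteDimensional k (RelQ U W) ∧
      Module.finrank k (RelQ U W) = Module.finrank k (RelQ U V) + Module.finrank k (RelQ V W) := by
  have hker := ker_relQProj_eq_range_relQIncl (U := U) hUV hVW
  have h1 : FiniteDimensional k (LinearMap.ker (relQProj (U := U) (W := W) hUV)) := by
    rw [hker]; infer_instance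
  have h2 : FiniteDimensional k (RelQ U W ⧸ LinearMap.ker (relQProj (U := U) (W := W) hUV)) :=
    Module.Finite.equiv
      ((relQProj (U := U) (W := W) hUV).quotKerEquivOfSurjective (relQProj_surjective hUV)).symm
  have h3 : FiniteDimensional k (RelQ U W) :=
    Module.Finite.of_submodule_quotient (LinearMap.ker (relQProj (U := U) (W := W) hUV))
  refine ⟨h3, ?_⟩
  have h4 := LinearMap.finrank_range_add_finrank_ker (relQProj (U := U) (W := W) hUV)
  rw [LinearMap.range_eq_top.2 (relQProj_surjective hUV), finrank_top, hker,
    LinearMap.finrank_range_of_inj (relQIncl_injective hVW)] at h4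
  omega

end chain

section misc

variable {U W : Submodule k M}

/-- A surjection from `W` with kernel `U ∩ W` identifies the relative quotient. -/
noncomputable def relQEquivOfSurjective {N : Type*} [AddCommGroup N] [Module k N]
    (φ : ↥W →ₗ[k] N) (hφ : Function.Surjective φ)
    (hker : ∀ w : W, φ w = 0 ↔ (w : M) ∈ U) : RelQ U W ≃ₗ[k] N :=
  (Submodule.quotEquivOfEq _ _ (by
    ext w
    rw [LinearMap.mem_ker, hker]; rfl)).trans (φ.quotKerEquivOfSurjective hφ)

lemma relQ_self_subsingleton (h : W ≤ U) : Subsingleton (RelQ U W) := by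
  have : Submodule.comap W.subtype U = ⊤ := by
    rw [eq_top_iff]
    intro w _
    exact h w.2
  rw [Submodule.Quotient.subsingleton_iff]
  exact this

lemma le_of_finrank_relQ_eq_zero [FiniteDimensional k (RelQ U W)]
    (h : Module.finrank k (RelQ U W) = 0) : W ≤ U := by
  have : Subsingleton (RelQ U W) := Module.finrank_zero_iff.1 h
  rw [Submodule.Quotient.subsingleton_iff] at this
  intro w hw
  have : (⟨w, hw⟩ : W) ∈ Submodule.comap W.subtype U := by rw [this]; trivial
  exact this

lemma relQ_congr {W' : Submodule k M} (h : W = W') :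
    (FiniteDimensional k (RelQ U W) ↔ FiniteDimensional k (RelQ U W')) ∧
      Module.finrank k (RelQ U W) = Module.finrank k (RelQ U W') := by
  subst h
  exact ⟨Iff.rfl, rfl⟩

lemma relQ_congr_left {U' : Submodule k M} (h : U = U') :
    (FiniteDimensional k (RelQ U W) ↔ FiniteDimensional k (RelQ U' W)) ∧
      Module.finrank k (RelQ U W) = Module.finrank k (RelQ U' W) := by
  subst h
  exact ⟨Iff.rfl, rfl⟩

end misc

end FunFld
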