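import Groth.Agent.Lib.Helper5.FunFld.Ext2

/-! Conorm of divisors (helper5). -/

set_option autoImplicit false
set_option linter.unusedSectionVars false

namespace FunFld

open WithZero

variable {k K K' : Type*} [Field k] [Field K] [Field K'] [Algebra k K] [Algebra K K'] [Algebra k K']
  [IsScalarTower k K K']

/-- Degree as an additive homomorphism. -/
noncomputable def Divisor.degHom : Divisor k K →+ ℤ where
  toFun := Divisor.deg
  map_zero' := Divisor.deg_zero
  map_add' := Divisor.deg_add

@[simp] lemma Divisor.degHom_apply (D : Divisor k K) : Divisor.degHom D = D.deg := rfl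

lemma Divisor.deg_zsmul (n : ℤ) (D : Divisor k K) : (n • D).deg = n * D.deg := by
  have := map_zsmul (Divisor.degHom (k := k) (K := K)) n D
  simpa using this

variable (K') in
open scoped Classical in
/-- The conorm of a single place. -/
noncomputable def conormP (P : Place k K) : Divisor k K' :=
  if h : {Q : Place k K' | IsOver Q P}.Finite then
    h.toFinset.sum (fun Q => (ramIdx Q P : ℤ) • Finsupp.single Q 1) else 0

lemma conorm_eq_sum (D : Divisor k K) : conorm K' D = D.sum fun P n => n • conormP K' P := rfl

section main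

variable [FiniteDimensional K K'] (hK : IsFF1 k K)

include hK in
lemma conormP_eq (P : Place k K) :
    conormP K' P = (finite_isOver hK P).toFinset.sum
      (fun Q : Place k K' => (ramIdx Q P : ℤ) • Finsupp.single Q 1) := by
  rw [conormP, dif_pos (finite_isOver hK P)]

include hK in
lemma conormP_apply (P : Place k K) (Q : Place k K') : conormP K' P Q = ramIdx Q P := by
  classical
  rw [conormP_eq hK, Finsupp.finsetSum_apply]
  simp only [Finsupp.smul_apply, Finsupp.single_apply, smul_eq_mul, mul_ite, mul_one, mul_zero]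
  rw [Finset.sum_ite_eq']
  split_ifs with h
  · rfl
  · rw [Set.Finite.mem_toFinset, Set.mem_ofPred_eq] at h
    rw [ramIdx_eq_zero_of_not_isOver h]; simp

lemma deg_conormP (hK : IsFunctionField k K) (P : Place k K) :
    (conormP K' P).deg = Module.finrank K K' * (P.deg : ℤ) := by
  classical
  have h := sum_ramIdx_mul_deg hK P (finite_isOver (K' := K') hK.isFF1 P).toFinset (fun Q => by
    rw [Set.Finite.mem_toFinset, Set.mem_ofPred_eq])
  rw [conormP_eq hK.isFF1, ← Divisor.degHom_apply, map_sum]
  simp only [Divisor.degHom_apply, Divisor.deg_zsmul, Divisor.deg_single, one_mul]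
  exact_mod_cast h

theorem deg_conorm (hK : IsFunctionField k K) (D : Divisor k K) :
    (conorm K' D).deg = Module.finrank K K' * D.deg := by
  rw [conorm_eq_sum, ← Divisor.degHom_apply, Finsupp.sum, map_sum, Divisor.deg_eq_sum,
    Finset.mul_sum]
  refine Finset.sum_congr rfl (fun P _ => ?_)
  rw [Divisor.degHom_apply, Divisor.deg_zsmul, deg_conormP hK]
  ring

include hK in
theorem conorm_apply (D : Divisor k K) {Q : Place k K'} {P₀ : Place k K} {e : ℕ}
    (h : IsOverWith Q P₀ e) : conorm K' D Q = e * D P₀ := by
  classical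
  rw [conorm_eq_sum, Finsupp.sum, Finsupp.finsetSum_apply]
  simp only [Finsupp.smul_apply, conormP_apply hK, smul_eq_mul]
  have hz : ∀ P ∈ D.support, P ≠ P₀ → D P * (ramIdx Q P : ℤ) = 0 := by
    intro P _ hP
    have : ¬ IsOver Q P := fun hQP => hP (hQP.unique ⟨e, h⟩)
    rw [ramIdx_eq_zero_of_not_isOver this]; simp
  by_cases hP₀ : P₀ ∈ D.support
  · rw [Finset.sum_eq_single_of_mem P₀ hP₀ hz, h.ramIdx_eq]; ring
  · rw [Finsupp.notMem_support_iff.1 hP₀, mul_zero]
    refine Finset.sum_eq_zero (fun P hP => hz P hP ?_)
    rintro rfl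
    exact hP₀ hP

include hK in
theorem div_algebraMap_eq_conorm (x : K) :
    div k (algebraMap K K' x) = conorm K' (div k x) := by
  have hK' : IsFF1 k K' := hK.of_finite
  ext Q
  obtain ⟨P₀, e, he⟩ := exists_isOverWith hK Q
  rw [W.div_apply hK', conorm_apply hK _ he, W.div_apply hK, he.ord_eq]

end main

section tower

variable {K'' : Type*} [Field K''] [Algebra k K''] [Algebra K' K''] [Algebra K K'']
  [IsScalarTower k K' K''] [IsScalarTower k K K''] [IsScalarTower K K' K'']

lemma IsOverWith.trans {Q'' : Place k K''} {Q' : Place k K'} {P : Place k K} {e' e'' : ℕ}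
    (h'' : IsOverWith Q'' Q' e'') (h' : IsOverWith Q' P e') : IsOverWith Q'' P (e' * e'') := by
  intro x
  rw [IsScalarTower.algebraMap_apply K K' K'', h'' _, h' x, pow_mul]

theorem conorm_conorm [FiniteDimensional K K'] [FiniteDimensional K' K''] (hK : IsFF1 k K)
    (D : Divisor k K) : conorm K'' (conorm K' D) = conorm K'' D := by
  have hK' : IsFF1 k K' := hK.of_finite
  have : FiniteDimensional K K'' := Module.Finite.trans K' K''
  ext Q''
  obtain ⟨Q', e'', he''⟩ := exists_isOverWith hK' Q''
  obtain ⟨P, e', he'⟩ := exists_isOverWith hK Q'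
  rw [conorm_apply hK' _ he'', conorm_apply hK _ he', conorm_apply hK _ (he''.trans he')]
  push_cast
  ring

end tower

end FunFld
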