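import Groth.Agent.Lib.Helper5.FunFld.Ext
import Groth.Agent.Lib.Helper5.FunFld.Weierstrass

/-! The fundamental identity `∑ e f = n` (helper5). -/

set_option autoImplicit false
set_option linter.unusedSectionVars false

namespace FunFld

open WithZero

variable {k K K' : Type*} [Field k] [Field K] [Field K'] [Algebra k K] [Algebra K K'] [Algebra k K']
  [IsScalarTower k K K']

/-- Degree of `K'` over `k(x)` for `x ∈ K`. -/
lemma finrank_adjoin_algebraMap (x : K) :
    Module.finrank (IntermediateField.adjoin k ({algebraMap K K' x} : Set K')) K' =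
      Module.finrank (IntermediateField.adjoin k ({x} : Set K)) K * Module.finrank K K' := by
  set F := IntermediateField.adjoin k ({x} : Set K) with hF
  rw [Module.finrank_mul_finrank F K K']
  let f : K →ₐ[k] K' := IsScalarTower.toAlgHom k K K'
  have hmap : F.map f = IntermediateField.adjoin k ({algebraMap K K' x} : Set K') := by
    rw [hF, IntermediateField.adjoin_map]
    simp [f]
  let i : F ≃+* IntermediateField.adjoin k ({algebraMap K K' x} : Set K') :=
    ((IntermediateField.equivMap F f).trans (IntermediateField.equivOfEq hmap)).toRingEquiv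
  symm
  refine Algebra.finrank_eq_of_equiv_equiv i (RingEquiv.refl K') ?_
  ext a
  rfl

/-- In a function field, every place is the only zero of some function. -/
theorem exists_zero_only (hK : IsFunctionField k K) (P : Place k K) :
    ∃ x : K, Transcendental k x ∧ P.1 x < 1 ∧ ∀ Q : Place k K, Q.1 x < 1 → Q = P := by
  classical
  obtain ⟨N, hN⟩ := exists_forall_deg_add_one_sub_ell_eq_genus hK
  have hdP := P.deg_pos hK
  obtain ⟨n, hn⟩ : ∃ n : ℕ, N ≤ n * (P.deg : ℤ) ∧ (genus k K : ℤ) + 1 ≤ n * (P.deg : ℤ) := by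
    refine ⟨(max N (genus k K + 1)).toNat, ?_, ?_⟩
    · have h1 : N ≤ max N ((genus k K : ℤ) + 1) := le_max_left _ _
      have h2 : max N ((genus k K : ℤ) + 1) ≤ ((max N ((genus k K : ℤ) + 1)).toNat : ℤ) :=
        Int.self_le_toNat _
      have h3 : (1 : ℤ) ≤ P.deg := by exact_mod_cast hdP
      have h4 : (0 : ℤ) ≤ ((max N ((genus k K : ℤ) + 1)).toNat : ℤ) := Int.natCast_nonneg _
      nlinarith
    · have h1 : (genus k K : ℤ) + 1 ≤ max N ((genus k K : ℤ) + 1) := le_max_right _ _
      have h2 : max N ((genus k K : ℤ) + 1) ≤ ((max N ((genus k K : ℤ) + 1)).toNat : ℤ) :=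
        Int.self_le_toNat _
      have h3 : (1 : ℤ) ≤ P.deg := by exact_mod_cast hdP
      have h4 : (0 : ℤ) ≤ ((max N ((genus k K : ℤ) + 1)).toNat : ℤ) := Int.natCast_nonneg _
      nlinarith
  have hdeg : Divisor.deg (Finsupp.single P (n : ℤ) : Divisor k K) = n * (P.deg : ℤ) :=
    Divisor.deg_single P n
  have hell := hN (Finsupp.single P (n : ℤ)) (by rw [hdeg]; exact hn.1)
  rw [hdeg] at hell
  have hlt : ell (0 : Divisor k K) < ell (Finsupp.single P (n : ℤ) : Divisor k K) := by
    rw [ell_zero hK]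
    have : (2 : ℤ) ≤ ell (Finsupp.single P (n : ℤ) : Divisor k K) := by linarith [hn.2]
    omega
  obtain ⟨y, hyL, hy0⟩ := exists_mem_L_notMem hK hlt
  have hyr : y ∉ Set.range (algebraMap k K) := by
    rintro ⟨c, rfl⟩
    apply hy0
    intro Q
    rw [Finsupp.zero_apply, exp_zero]
    exact Q.v_algebraMap_le c
  have hytr := hK.transcendental_of_notMem hyr
  have hyne : y ≠ 0 := by rintro rfl; exact hyr ⟨0, map_zero _⟩
  have hQ : ∀ Q : Place k K, Q ≠ P → Q.1 y ≤ 1 := by
    intro Q hQP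
    have := hyL Q
    rwa [Finsupp.single_eq_of_ne hQP, exp_zero] at this
  have hP : 1 < P.1 y := by
    by_contra hle
    rw [not_lt] at hle
    apply hy0
    intro Q
    rw [Finsupp.zero_apply, exp_zero]
    by_cases hQP : Q = P
    · subst hQP; exact hle
    · exact hQ Q hQP
  refine ⟨y⁻¹, W.transcendental_inv hytr, ?_, ?_⟩
  · rw [map_inv₀, inv_lt_one₀ (lt_trans zero_lt_one hP)]
    exact hP
  · intro Q hQ1
    by_contra hQP
    have h1 := hQ Q hQP
    rw [map_inv₀] at hQ1
    have hpos : 0 < Q.1 y := by rw [pos_iff_ne_zero]; exact Q.v_ne_zero hyne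
    rw [inv_lt_one₀ hpos] at hQ1
    exact absurd (lt_of_lt_of_le hQ1 h1) (lt_irrefl _)


/-- The zero divisor summed over any finite set containing all zeros. -/
lemma W.sum_ord_mul_deg_zeros (hK : IsFF1 k K) {x : K} (hx : Transcendental k x)
    (S : Finset (Place k K)) (hS : ∀ Q : Place k K, Q ∈ S ↔ Q.1 x < 1) :
    ∑ Q ∈ S, Q.ord x * (Q.deg : ℤ) =
      (Module.finrank (IntermediateField.adjoin k ({x} : Set K)) K : ℤ) := by
  classical
  have hx0 : x ≠ 0 := by rintro rfl; exact hx isAlgebraic_zero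
  rw [← W.deg_zeroDiv hK hx, Divisor.deg_eq_sum_of_support_subset (zeroDiv x) S]
  · refine Finset.sum_congr rfl (fun Q hQ => ?_)
    rw [W.zeroDiv_apply hK, max_eq_left]
    exact ((Q.v_lt_one_iff hx0).1 ((hS Q).1 hQ)).le
  · intro Q hQ
    rw [Finsupp.mem_support_iff, W.zeroDiv_apply hK] at hQ
    rw [hS, Q.v_lt_one_iff hx0]
    by_contra h
    exact hQ (max_eq_right (not_lt.1 h))

section main

variable [FiniteDimensional K K']

lemma transcendental_algebraMap {x : K} (hx : Transcendental k x) :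
    Transcendental k (algebraMap K K' x) := by
  intro h
  exact hx ((isAlgebraic_algebraMap_iff (algebraMap K K').injective).1 h)

theorem isOver_iff_of_zero_only (hK : IsFF1 k K) {P : Place k K} {x : K}
    (hxP : P.1 x < 1) (honly : ∀ Q : Place k K, Q.1 x < 1 → Q = P) (Q : Place k K') :
    IsOver Q P ↔ Q.1 (algebraMap K K' x) < 1 := by
  constructor
  · rintro ⟨e, he⟩
    exact (he.v_lt_one_iff x).2 hxP
  · intro h
    obtain ⟨P', e, he⟩ := exists_isOverWith hK Q
    have := honly P' ((he.v_lt_one_iff x).1 h)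
    subst this
    exact ⟨e, he⟩

theorem finite_isOver (hK : IsFF1 k K) (P : Place k K) :
    {Q : Place k K' | IsOver Q P}.Finite := by
  obtain ⟨t, ht⟩ := P.exists_uniformizer
  have ht0 : t ≠ 0 := by
    rintro rfl
    rw [map_zero] at ht
    exact exp_ne_zero ht.symm
  have ht1 : P.1 t < 1 := by rw [ht, ← exp_zero, exp_lt_exp]; norm_num
  have httr : Transcendental k t := transcendental_of_v_lt_one _ P.v_algebraMap_le ht0 ht1
  have hK' : IsFF1 k K' := hK.of_finite
  refine (W.finite_zeros hK' (transcendental_algebraMap (K' := K') httr)).subset ?_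
  rintro Q ⟨e, he⟩
  exact (he.v_lt_one_iff t).2 ht1

/-- **Fundamental identity** `∑_{Q | P} e(Q|P) deg Q = [K' : K] deg P`. -/
theorem sum_ramIdx_mul_deg (hK : IsFunctionField k K) (P : Place k K)
    (Qs : Finset (Place k K')) (hQs : ∀ Q, Q ∈ Qs ↔ IsOver Q P) :
    ∑ Q ∈ Qs, ramIdx Q P * Q.deg = Module.finrank K K' * P.deg := by
  classical
  obtain ⟨x, hxtr, hxP, honly⟩ := exists_zero_only hK P
  have hK' : IsFF1 k K' := hK.isFF1.of_finite
  have hx0 : x ≠ 0 := by rintro rfl; exact hxtr isAlgebraic_zero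
  have hx'tr := transcendental_algebraMap (K' := K') hxtr
  have hS' : ∀ Q : Place k K', Q ∈ Qs ↔ Q.1 (algebraMap K K' x) < 1 := fun Q => by
    rw [hQs, isOver_iff_of_zero_only hK.isFF1 hxP honly]
  have h1 := W.sum_ord_mul_deg_zeros hK' hx'tr Qs hS'
  have hS : ∀ Q : Place k K, Q ∈ ({P} : Finset (Place k K)) ↔ Q.1 x < 1 := by
    intro Q
    rw [Finset.mem_singleton]
    constructor
    · rintro rfl; exact hxP
    · exact honly Q
  have h2 := W.sum_ord_mul_deg_zeros hK.isFF1 hxtr {P} hS
  rw [Finset.sum_singleton] at h2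
  rw [finrank_adjoin_algebraMap, Nat.cast_mul, ← h2] at h1
  have hr : 0 < P.ord x := (P.v_lt_one_iff hx0).1 hxP
  have h3 : ∑ Q ∈ Qs, Q.ord (algebraMap K K' x) * (Q.deg : ℤ) =
      P.ord x * ((∑ Q ∈ Qs, ramIdx Q P * Q.deg : ℕ) : ℤ) := by
    push_cast
    rw [Finset.mul_sum]
    refine Finset.sum_congr rfl (fun Q hQ => ?_)
    rw [((hQs Q).1 hQ).isOverWith.ord_eq]
    ring
  rw [h3] at h1
  have h4 : ((∑ Q ∈ Qs, ramIdx Q P * Q.deg : ℕ) : ℤ) = ((Module.finrank K K' * P.deg : ℕ) : ℤ) := by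
    have : P.ord x * ((∑ Q ∈ Qs, ramIdx Q P * Q.deg : ℕ) : ℤ) =
        P.ord x * ((Module.finrank K K' * P.deg : ℕ) : ℤ) := by
      rw [h1]; push_cast; ring
    exact mul_left_cancel₀ hr.ne' this
  exact_mod_cast h4

end main

end FunFld
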