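import Groth.Agent.Lib.Helper5.FunFld.Riemann
import Groth.Agent.Lib.Helper5.FunFld.RelQuot

/-! Repartitions (adeles with components in `K`) (helper5). -/

set_option autoImplicit false

namespace FunFld

open WithZero

variable {k K : Type*} [Field k] [Field K] [Algebra k K]

lemma mem_AD {D : Divisor k K} {a : Place k K → K} :
    a ∈ AD D ↔ ∀ P : Place k K, P.1 (a P) ≤ exp (D P) := Iff.rfl

lemma AD_mono {D₁ D₂ : Divisor k K} (h : D₁ ≤ D₂) : AD D₁ ≤ AD D₂ := fun _ ha P =>
  (ha P).trans (exp_le_exp.2 (h P))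

/-- `A(D₁ ⊔ D₂) = A(D₁) + A(D₂)`. -/
theorem AD_sup (D₁ D₂ : Divisor k K) : AD (D₁ ⊔ D₂) = AD D₁ ⊔ AD D₂ := by
  classical
  apply le_antisymm
  · intro a ha
    rw [Submodule.mem_sup]
    refine ⟨fun P => if D₂ P ≤ D₁ P then a P else 0, ?_,
      fun P => if D₂ P ≤ D₁ P then 0 else a P, ?_, ?_⟩
    · intro P
      by_cases h : D₂ P ≤ D₁ P
      · simp only [if_pos h]
        have := ha P
        rwa [Finsupp.sup_apply, sup_eq_left.2 h] at this
      · simp only [if_neg h, map_zero]; exact zero_le
    · intro P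
      by_cases h : D₂ P ≤ D₁ P
      · simp only [if_pos h, map_zero]; exact zero_le
      · simp only [if_neg h]
        have := ha P
        rwa [Finsupp.sup_apply, sup_eq_right.2 (not_le.1 h).le] at this
    · funext P
      by_cases h : D₂ P ≤ D₁ P
      · simp [h]
      · simp [h]
  · exact sup_le (AD_mono le_sup_left) (AD_mono le_sup_right)

lemma AD_le_adele (D : Divisor k K) : AD D ≤ adele k K := by
  intro a ha
  change ∀ᶠ P : Place k K in Filter.cofinite, P.1 (a P) ≤ 1
  rw [Filter.eventually_cofinite]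
  refine D.support.finite_toSet.subset (fun P hP => ?_)
  rw [Finset.mem_coe, Finsupp.mem_support_iff]
  intro h0
  apply hP
  have := ha P
  rwa [h0, exp_zero] at this

lemma diag_apply (x : K) (P : Place k K) : diag k K x P = x := rfl

lemma range_diag_le_adele (hK : IsFunctionField k K) :
    LinearMap.range (diag k K) ≤ adele k K := by
  rintro _ ⟨x, rfl⟩
  change ∀ᶠ P : Place k K in Filter.cofinite, P.1 (diag k K x P) ≤ 1
  rw [Filter.eventually_cofinite]
  refine (finite_support_ord hK x).subset (fun P hP => ?_)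
  rw [Function.mem_support]
  intro h0
  apply hP
  rw [diag_apply]
  rcases eq_or_ne x 0 with rfl | hx
  · simp
  · rw [P.v_le_one_iff hx, h0]

lemma diag_mem_AD_iff {D : Divisor k K} {x : K} : diag k K x ∈ AD D ↔ x ∈ L D := Iff.rfl

lemma diag_injective (hK : IsFunctionField k K) : Function.Injective (diag k K) := by
  obtain ⟨P⟩ := nonempty_place hK
  intro x y h
  exact congrFun h P

/-- Every repartition is bounded by some divisor above a given one. -/
lemma exists_ge_mem_AD (D : Divisor k K) {a : Place k K → K} (ha : a ∈ adele k K) :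
    ∃ D' : Divisor k K, D ≤ D' ∧ a ∈ AD D' := by
  classical
  have hfin : {P : Place k K | ¬ P.1 (a P) ≤ 1}.Finite := Filter.eventually_cofinite.1 ha
  let f : Place k K → ℤ := fun P => max 0 (-P.ord (a P))
  have hf : ∀ P, f P ≠ 0 → P ∈ hfin.toFinset := by
    intro P hP
    rw [Set.Finite.mem_toFinset]
    intro hle
    apply hP
    rcases eq_or_ne (a P) 0 with h0 | h0
    · simp [f, h0]
    · have := (P.v_le_one_iff h0).1 hle
      simp only [f]
      rw [max_eq_left (by omega)]
  let Da : Divisor k K := Finsupp.onFinset hfin.toFinset f hf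
  refine ⟨D ⊔ Da, le_sup_left, AD_mono (le_sup_right : Da ≤ D ⊔ Da) ?_⟩
  intro P
  rcases eq_or_ne (a P) 0 with h0 | h0
  · rw [h0, map_zero]; exact zero_le
  · rw [P.v_le_exp_iff h0]
    change -(f P) ≤ _
    have := le_max_right 0 (-P.ord (a P))
    simp only [f]
    omega

section step

variable (D : Divisor k K) (P : Place k K)

/-- `A(D + P) / A(D) ≅ F_P`. -/
theorem nonempty_relQ_AD_step_equiv :
    Nonempty (RelQ (AD D) (AD (D + Finsupp.single P 1)) ≃ₗ[k] IsLocalRing.ResidueField P.O) := by
  classical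
  obtain ⟨t, ht⟩ := P.exists_v_eq (-(D P + 1))
  have ht0 : t ≠ 0 := by
    rintro rfl
    rw [map_zero] at ht
    exact exp_ne_zero ht.symm
  have hmem : ∀ a : AD (D + Finsupp.single P 1), t * (a : Place k K → K) P ∈ P.O := by
    intro a
    rw [P.mem_O_iff, map_mul, ht]
    have := a.2 P
    rw [Finsupp.add_apply, Finsupp.single_eq_same] at this
    calc exp (-(D P + 1)) * P.1 ((a : Place k K → K) P) ≤ exp (-(D P + 1)) * exp (D P + 1) :=
          mul_le_mul_right this _
      _ = 1 := by rw [← exp_add]; simp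
  let ψ : AD (D + Finsupp.single P 1) →ₗ[k] P.O :=
    { toFun := fun a => ⟨t * (a : Place k K → K) P, hmem a⟩
      map_add' := fun a b => by
        apply Subtype.ext
        simp [mul_add]
      map_smul' := fun c a => by
        apply Subtype.ext
        rw [RingHom.id_apply, P.coe_smul_O]
        simp }
  refine ⟨relQEquivOfSurjective (P.resₗ.comp ψ) ?_ ?_⟩
  · intro r
    obtain ⟨s, rfl⟩ := P.resₗ_surjective r
    have hmemA : (Pi.single P (t⁻¹ * (s : K)) : Place k K → K) ∈ AD (D + Finsupp.single P 1) := by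
      intro Q
      by_cases hQ : Q = P
      · subst hQ
        rw [Pi.single_eq_same, map_mul, map_inv₀, ht, Finsupp.add_apply, Finsupp.single_eq_same,
          ← exp_neg, neg_neg]
        exact (mul_le_mul_right (Q.mem_O_iff.1 s.2) _).trans_eq (mul_one _)
      · rw [Pi.single_eq_of_ne hQ, map_zero]; exact zero_le
    refine ⟨⟨_, hmemA⟩, ?_⟩
    rw [LinearMap.comp_apply]
    congr 1
    apply Subtype.ext
    change t * (Pi.single P (t⁻¹ * (s : K)) : Place k K → K) P = s
    rw [Pi.single_eq_same, mul_inv_cancel_left₀ ht0]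
  · intro a
    rw [LinearMap.comp_apply, Place.resₗ_apply, P.residue_eq_zero_iff]
    change P.1 (t * (a : Place k K → K) P) < 1 ↔ _
    rw [map_mul, ht]
    have ha := a.2
    constructor
    · intro h Q
      by_cases hQ : Q = P
      · subst hQ
        have h1 : Q.1 ((a : Place k K → K) Q) < exp (D Q) * exp 1 := by
          have := mul_lt_mul_of_pos_left h (a := exp (D Q + 1)) exp_pos
          rw [← mul_assoc, ← exp_add, mul_one] at this
          simpa [exp_add] using this
        exact (lt_mul_exp_iff_le exp_ne_zero).1 h1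
      · have := ha Q
        rwa [Finsupp.add_apply, Finsupp.single_eq_of_ne hQ, add_zero] at this
    · intro h
      have h1 : P.1 ((a : Place k K → K) P) < exp (D P) * exp 1 :=
        (lt_mul_exp_iff_le exp_ne_zero).2 (h P)
      calc exp (-(D P + 1)) * P.1 ((a : Place k K → K) P)
          < exp (-(D P + 1)) * (exp (D P) * exp 1) := mul_lt_mul_of_pos_left h1 exp_pos
        _ = 1 := by rw [← exp_add, ← exp_add]; simp

end step

section dims

variable (hK : IsFunctionField k K)

include hK in
theorem relQ_AD_add_of_nonneg (D : Divisor k K) :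
    ∀ E : Divisor k K, 0 ≤ E → (FiniteDimensional k (RelQ (AD D) (AD (D + E))) ∧
      (Module.finrank k (RelQ (AD D) (AD (D + E))) : ℤ) = E.deg) := by
  refine Divisor.induction_nonneg ?_ ?_
  · have : Subsingleton (RelQ (AD D) (AD (D + 0))) :=
      relQ_self_subsingleton (by rw [add_zero])
    refine ⟨inferInstance, ?_⟩
    rw [Module.finrank_zero_of_subsingleton, Divisor.deg_zero]; rfl
  · intro E P hE ⟨h1, h2⟩
    obtain ⟨e⟩ := nonempty_relQ_AD_step_equiv (D + E) P
    have hfinP := P.finiteDimensional_residueField hK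
    have h3 : FiniteDimensional k (RelQ (AD (D + E)) (AD (D + E + Finsupp.single P 1))) :=
      Module.Finite.equiv e.symm
    have hle1 : AD D ≤ AD (D + E) := AD_mono (le_add_of_nonneg_right hE)
    have hle2 : AD (D + E) ≤ AD (D + E + Finsupp.single P 1) :=
      AD_mono (le_add_of_nonneg_right (by
        intro Q
        by_cases hQ : Q = P
        · subst hQ; simp
        · simp [Finsupp.single_eq_of_ne hQ]))
    have := relQ_chain hle1 hle2
    rw [← add_assoc]
    refine ⟨this.1, ?_⟩
    rw [this.2, Divisor.deg_add, Divisor.deg_single, one_mul]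
    push_cast
    rw [h2, LinearEquiv.finrank_eq e]
    rfl

include hK in
/-- `dim A(D₂)/A(D₁) = deg D₂ - deg D₁`. -/
theorem relQ_AD (D₁ D₂ : Divisor k K) (h : D₁ ≤ D₂) :
    FiniteDimensional k (RelQ (AD D₁) (AD D₂)) ∧
      (Module.finrank k (RelQ (AD D₁) (AD D₂)) : ℤ) = D₂.deg - D₁.deg := by
  have := relQ_AD_add_of_nonneg hK D₁ (D₂ - D₁) (sub_nonneg.2 h)
  rwa [add_sub_cancel, Divisor.deg_sub] at this

end dims

end FunFld
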