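import Groth.Agent.Lib.Helper5.FunFld.Adele
import Mathlib.LinearAlgebra.Dual.Lemmas

/-! `dim (A(D₂)+K)/(A(D₁)+K)` and the index of speciality (helper5). -/

set_option autoImplicit false

namespace FunFld

open WithZero

variable {k K : Type*} [Field k] [Field K] [Algebra k K]

section

variable (hK : IsFunctionField k K)

/-- `A(D) + K`. -/
abbrev ADX (D : Divisor k K) : Submodule k (Place k K → K) := AD D ⊔ LinearMap.range (diag k K)

lemma ADX_mono {D₁ D₂ : Divisor k K} (h : D₁ ≤ D₂) : ADX D₁ ≤ ADX D₂ :=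
  sup_le_sup_right (AD_mono h) _

include hK in
/-- `dim (A(D₂)+K)/(A(D₁)+K) = (deg D₂ - ℓ(D₂)) - (deg D₁ - ℓ(D₁))`. -/
theorem relQ_ADX (D₁ D₂ : Divisor k K) (h : D₁ ≤ D₂) :
    FiniteDimensional k (RelQ (ADX D₁) (ADX D₂)) ∧
      (Module.finrank k (RelQ (ADX D₁) (ADX D₂)) : ℤ) =
        (D₂.deg - ell D₂) - (D₁.deg - ell D₁) := by
  obtain ⟨hfin, hrank⟩ := relQ_AD hK D₁ D₂ h
  -- the projection `A(D₂)/A(D₁) → (A(D₂)+K)/(A(D₁)+K)`
  let π : RelQ (AD D₁) (AD D₂) →ₗ[k] RelQ (ADX D₁) (ADX D₂) :=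
    Submodule.mapQ _ _ (Submodule.inclusion (le_sup_left : AD D₂ ≤ ADX D₂))
      (fun a ha => (le_sup_left : AD D₁ ≤ ADX D₁) ha)
  have hπ : Function.Surjective π := by
    intro q
    induction q using Submodule.Quotient.induction_on with
    | H w =>
      obtain ⟨a, ha, b, hb, hab⟩ := Submodule.mem_sup.1 w.2
      refine ⟨Submodule.Quotient.mk ⟨a, ha⟩, ?_⟩
      change Submodule.Quotient.mk _ = Submodule.Quotient.mk w
      rw [Submodule.Quotient.eq]
      change (a - (w : Place k K → K)) ∈ ADX D₁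
      have : a - (w : Place k K → K) = -b := by rw [← hab]; abel
      rw [this]
      exact Submodule.neg_mem _ ((le_sup_right : _ ≤ ADX D₁) hb)
  -- the map `L(D₂) → A(D₂)/A(D₁)`
  let ι₀ : L D₂ →ₗ[k] AD D₂ :=
    LinearMap.codRestrict (AD D₂) ((diag k K).comp (L D₂).subtype) (fun y => y.2)
  let ι : L D₂ →ₗ[k] RelQ (AD D₁) (AD D₂) := (Submodule.mkQ _).comp ι₀
  have hkerι : LinearMap.ker ι = Submodule.comap (L D₂).subtype (L D₁) := by
    ext y
    rw [LinearMap.mem_ker, LinearMap.comp_apply, Submodule.mkQ_apply,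
      Submodule.Quotient.mk_eq_zero]
    rfl
  have hexact : LinearMap.ker π = LinearMap.range ι := by
    ext q
    induction q using Submodule.Quotient.induction_on with
    | H a =>
      rw [LinearMap.mem_ker]
      change Submodule.Quotient.mk _ = 0 ↔ _
      rw [Submodule.Quotient.mk_eq_zero]
      constructor
      · intro ha
        have ha' : (a : Place k K → K) ∈ ADX D₁ := ha
        obtain ⟨a₁, ha₁, b, ⟨x, rfl⟩, hab⟩ := Submodule.mem_sup.1 ha'
        have hx : x ∈ L D₂ := by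
          rw [← diag_mem_AD_iff]
          have : diag k K x = (a : Place k K → K) - a₁ := by rw [← hab]; abel
          rw [this]
          exact Submodule.sub_mem _ a.2 (AD_mono h ha₁)
        refine ⟨⟨x, hx⟩, ?_⟩
        change Submodule.Quotient.mk _ = Submodule.Quotient.mk a
        rw [Submodule.Quotient.eq]
        change (diag k K x - (a : Place k K → K)) ∈ AD D₁
        have : diag k K x - (a : Place k K → K) = -a₁ := by rw [← hab]; abel
        rw [this]
        exact Submodule.neg_mem _ ha₁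
      · rintro ⟨y, hy⟩
        have hy' : Submodule.Quotient.mk (ι₀ y) = Submodule.Quotient.mk a := hy
        rw [Submodule.Quotient.eq] at hy'
        have h1 : (diag k K (y : K) - (a : Place k K → K)) ∈ AD D₁ := hy'
        change (a : Place k K → K) ∈ ADX D₁
        have : (a : Place k K → K) = -(diag k K (y : K) - (a : Place k K → K)) + diag k K y := by
          abel
        rw [this]
        exact Submodule.add_mem _ ((le_sup_left : AD D₁ ≤ ADX D₁) (Submodule.neg_mem _ h1))
          ((le_sup_right : _ ≤ ADX D₁) ⟨_, rfl⟩)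
  have hfinT : FiniteDimensional k (RelQ (ADX D₁) (ADX D₂)) := Module.Finite.of_surjective π hπ
  refine ⟨hfinT, ?_⟩
  have hL2 := finiteDimensional_L hK D₂
  have h1 := LinearMap.finrank_range_add_finrank_ker π
  rw [LinearMap.range_eq_top.2 hπ, finrank_top, hexact] at h1
  have h2 := LinearMap.finrank_range_add_finrank_ker ι
  have h3 : Module.finrank k (LinearMap.ker ι) = ell D₁ := by
    rw [hkerι]
    exact LinearEquiv.finrank_eq (Submodule.comapSubtypeEquivOfLe (L_mono h))
  have h4 : Module.finrank k (L D₂) = ell D₂ := rfl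
  have h5 : ((Module.finrank k (RelQ (ADX D₁) (ADX D₂)) : ℤ)) +
      (Module.finrank k (LinearMap.range ι) : ℤ) = D₂.deg - D₁.deg := by
    rw [← hrank]; exact_mod_cast h1
  have h6 : ((Module.finrank k (LinearMap.range ι) : ℤ)) + ell D₁ = ell D₂ := by
    rw [← h3, ← h4]; exact_mod_cast h2
  linarith

include hK in
/-- For `D₁` of large degree, `A = A(D₁) + K`. -/
theorem adele_eq_ADX_of_large {D₁ : Divisor k K}
    (hD₁ : ∀ D₂ : Divisor k K, D₁ ≤ D₂ → D₂.deg + 1 - (ell D₂ : ℤ) = genus k K) :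
    adele k K = ADX D₁ := by
  apply le_antisymm
  · intro a ha
    obtain ⟨D₂, h12, haD₂⟩ := exists_ge_mem_AD D₁ ha
    obtain ⟨hfin, hrank⟩ := relQ_ADX hK D₁ D₂ h12
    have h0 : Module.finrank k (RelQ (ADX D₁) (ADX D₂)) = 0 := by
      have e1 := hD₁ D₂ h12
      have e2 := hD₁ D₁ le_rfl
      have : (Module.finrank k (RelQ (ADX D₁) (ADX D₂)) : ℤ) = 0 := by
        rw [hrank]; linarith
      exact_mod_cast this
    exact le_of_finrank_relQ_eq_zero h0 ((le_sup_left : AD D₂ ≤ ADX D₂) haD₂)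
  · exact sup_le (AD_le_adele D₁) (range_diag_le_adele hK)

include hK in
/-- Divisors of large degree above a given one. -/
theorem exists_ge_large (D : Divisor k K) :
    ∃ D₁ : Divisor k K, D ≤ D₁ ∧
      ∀ D₂ : Divisor k K, D₁ ≤ D₂ → D₂.deg + 1 - (ell D₂ : ℤ) = genus k K := by
  obtain ⟨N, hN⟩ := exists_forall_deg_add_one_sub_ell_eq_genus hK
  obtain ⟨P₀⟩ := nonempty_place hK
  have hP₀ := P₀.deg_pos hK
  set m : ℕ := (N - D.deg).toNat with hm
  have hE : (0 : Divisor k K) ≤ m • Finsupp.single P₀ 1 := by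
    apply nsmul_nonneg
    intro Q
    by_cases hQ : Q = P₀
    · subst hQ; simp
    · simp [Finsupp.single_eq_of_ne hQ]
  refine ⟨D + m • Finsupp.single P₀ 1, le_add_of_nonneg_right hE, fun D₂ h2 => hN D₂ ?_⟩
  have h3 := Divisor.deg_mono h2
  rw [Divisor.deg_add, Divisor.deg_nsmul, Divisor.deg_single, one_mul] at h3
  have h4 : N - D.deg ≤ (m : ℤ) := Int.self_le_toNat _
  have h5 : (1 : ℤ) ≤ P₀.deg := by exact_mod_cast hP₀
  have h6 : (0 : ℤ) ≤ m := Int.natCast_nonneg _
  nlinarith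

include hK in
/-- `dim A/(A(D)+K) = g - δ(D)`. -/
theorem relQ_adele (D : Divisor k K) :
    FiniteDimensional k (↥(adele k K) ⧸ ADK D) ∧
      (Module.finrank k (↥(adele k K) ⧸ ADK D) : ℤ) =
        (genus k K : ℤ) - (D.deg + 1 - ell D) := by
  obtain ⟨D₁, hDD₁, hD₁⟩ := exists_ge_large hK D
  have hA := adele_eq_ADX_of_large hK hD₁
  obtain ⟨hfin, hrank⟩ := relQ_ADX hK D D₁ hDD₁
  have hc := relQ_congr (U := ADX D) hA
  have e1 := hD₁ D₁ le_rfl
  refine ⟨hc.1.2 hfin, ?_⟩
  have : Module.finrank k (↥(adele k K) ⧸ ADK D) = Module.finrank k (RelQ (ADX D) (ADX D₁)) :=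
    hc.2
  rw [this, hrank]
  linarith

include hK in
/-- `dim W(D) = g - δ(D)`. -/
theorem finrank_WD (D : Divisor k K) :
    FiniteDimensional k (WD D) ∧
      (Module.finrank k (WD D) : ℤ) = (genus k K : ℤ) - (D.deg + 1 - ell D) := by
  obtain ⟨hfin, hrank⟩ := relQ_adele hK D
  let e : Module.Dual k (↥(adele k K) ⧸ ADK D) ≃ₗ[k] WD D :=
    (ADK D).dualQuotEquivDualAnnihilator
  have h1 : FiniteDimensional k (Module.Dual k (↥(adele k K) ⧸ ADK D)) := inferInstance
  refine ⟨Module.Finite.equiv e, ?_⟩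
  rw [← LinearEquiv.finrank_eq e, Subspace.dual_finrank_eq, hrank]

end

end FunFld
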