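import Groth.Agent.Lib.Helper5.FunFld.Galois2
import Groth.Agent.Lib.Helper5.FunFld.Genus0

/-! Automorphisms of function fields and fixed places (helper5). -/

set_option autoImplicit false

namespace FunFld

open WithZero

variable {k K : Type*} [Field k] [Field K] [Algebra k K]

/-- A place whose maximal ideal is mapped into itself is fixed. -/
lemma Place.conj_eq_of_forall_lt (P : Place k K) (σ : K ≃ₐ[k] K)
    (h : ∀ x : K, P.1 x < 1 → P.1 (σ x) < 1) : P.conj σ = P := by
  apply Place.eq_of_O_le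
  intro y hy
  rw [Place.conj_apply] at hy
  by_contra hlt
  rw [not_le] at hlt
  have hy0 : y ≠ 0 := by
    rintro rfl
    rw [map_zero] at hlt
    exact absurd hlt (by simp)
  have h1 : P.1 y⁻¹ < 1 := by
    rw [map_inv₀]
    exact inv_lt_one_of_one_lt₀ hlt
  have h2 := h _ h1
  rw [map_inv₀, map_inv₀] at h2
  have h3 : 1 < P.1 (σ y) := by
    have hpos : 0 < P.1 (σ y) := pos_iff_ne_zero.2 (P.v_ne_zero (by simpa using hy0))
    exact (inv_lt_one₀ hpos).1 h2
  exact absurd hy (not_le.2 h3)

section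

variable (hK : IsFunctionField k K)

include hK in
/-- An automorphism fixing every place is the identity. -/
theorem aut_eq_one_of_forall_conj_eq (σ : K ≃ₐ[k] K) (h : ∀ P : Place k K, P.conj σ = P) :
    σ = 1 := by
  have hord : ∀ (x : K) (P : Place k K), P.ord (σ x) = P.ord x := by
    intro x P
    rw [← Place.ord_conj, h P]
  ext x
  change σ x = x
  by_cases hx : x ∈ Set.range (algebraMap k K)
  · obtain ⟨c, rfl⟩ := hx
    exact σ.commutes c
  have hx0 : x ≠ 0 := by rintro rfl; exact hx ⟨0, map_zero _⟩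
  have hx1 : x + 1 ≠ 0 := by
    intro h0
    apply hx
    exact ⟨-1, by rw [map_neg, map_one]; linear_combination -h0⟩
  obtain ⟨c, hc⟩ := exists_smul_eq_of_ord_eq hK (x := σ x) (y := x) (by simpa using hx0) hx0
    (hord x)
  obtain ⟨c', hc'⟩ := exists_smul_eq_of_ord_eq hK (x := σ (x + 1)) (y := x + 1)
    ((EmbeddingLike.map_ne_zero_iff (f := σ)).2 hx1) hx1 (hord (x + 1))
  rw [map_add, map_one, hc] at hc'
  rw [Algebra.smul_def, Algebra.smul_def] at hc'
  have hcc : c = c' := by
    by_contra hne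
    apply hx
    refine ⟨(c' - 1) / (c - c'), ?_⟩
    have hne' : algebraMap k K (c - c') ≠ 0 := (map_ne_zero _).2 (sub_ne_zero.2 hne)
    rw [map_div₀, div_eq_iff hne', map_sub, map_sub, map_one]
    linear_combination -hc'
  subst hcc
  have hc1 : algebraMap k K c = 1 := by linear_combination -hc'
  rw [hc, Algebra.smul_def, hc1, one_mul]

end

section

variable [IsAlgClosed k] (hK : IsFunctionField k K)

include hK in
/-- An automorphism fixing more than `2g + 2` places is the identity. -/
theorem aut_eq_one_of_many_fixed (σ : K ≃ₐ[k] K)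
    (h : ((2 * genus k K + 2 : ℕ) : ℕ∞) <
      Set.encard {P : Place k K | ∀ x : K, P.1 x < 1 → P.1 (σ x) < 1}) :
    σ = 1 := by
  classical
  by_contra hσ
  set F : Set (Place k K) := {P : Place k K | ∀ x : K, P.1 x < 1 → P.1 (σ x) < 1} with hF
  set g := genus k K with hg
  -- a non-fixed place
  obtain ⟨P0, hP0⟩ : ∃ P0 : Place k K, P0.conj σ ≠ P0 := by
    by_contra hall
    push Not at hall
    exact hσ (aut_eq_one_of_forall_conj_eq hK σ hall)
  have hdP0 := Place.deg_eq_one_of_isAlgClosed hK P0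
  set P2 : Place k K := P0.conj σ⁻¹ with hP2
  have hP2σ : P2.conj σ = P0 := by
    rw [hP2, ← Place.conj_mul, inv_mul_cancel, Place.conj_one]
  have hP20 : P2 ≠ P0 := by
    intro heq
    rw [heq] at hP2σ
    exact hP0 hP2σ
  have hdP2 := Place.deg_eq_one_of_isAlgClosed hK P2
  -- a nonconstant function with poles only at P0
  set D0 : Divisor k K := Finsupp.single P0 ((g : ℤ) + 1) with hD0
  have hell : 1 < ell D0 := by
    have := deg_add_one_sub_ell_le_genus hK D0
    rw [hD0, Divisor.deg_single, hdP0] at this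
    push_cast at this
    have : (1 : ℤ) < ell D0 := by rw [hD0]; omega
    exact_mod_cast this
  rw [← ell_zero hK] at hell
  obtain ⟨x, hxL, hx0⟩ := exists_mem_L_notMem hK hell
  have hxr : x ∉ Set.range (algebraMap k K) := by
    rintro ⟨c, rfl⟩
    apply hx0
    intro Q
    rw [Finsupp.zero_apply, exp_zero]
    exact Q.v_algebraMap_le c
  -- x has a pole at P0
  have hxP0 : 1 < P0.1 x := by
    by_contra hle
    rw [not_lt] at hle
    apply hx0
    intro Q
    rw [Finsupp.zero_apply, exp_zero]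
    by_cases hQ : Q = P0
    · subst hQ; exact hle
    · exact v_le_one_of_mem_L_single hQ hxL
  have hσxL : σ x ∈ L (Finsupp.single P2 ((g : ℤ) + 1) : Divisor k K) := by
    intro Q
    have h1 := hxL (Q.conj σ)
    rw [Place.conj_apply] at h1
    by_cases hQ : Q = P2
    · subst hQ
      rw [hP2σ, hD0, Finsupp.single_eq_same] at h1
      rwa [Finsupp.single_eq_same]
    · have hne : Q.conj σ ≠ P0 := by
        intro heq
        apply hQ
        rw [hP2, ← heq, ← Place.conj_mul, mul_inv_cancel, Place.conj_one]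
      rw [hD0, Finsupp.single_eq_of_ne hne] at h1
      rwa [Finsupp.single_eq_of_ne hQ]
  set y : K := x - σ x with hy
  have hσxP0 : P0.1 (σ x) ≤ 1 := v_le_one_of_mem_L_single (Ne.symm hP20) hσxL
  have hyP0 : 1 < P0.1 y := by
    rw [hy, Valuation.map_sub_eq_of_lt_left _ (lt_of_le_of_lt hσxP0 hxP0)]
    exact hxP0
  have hyr : y ∉ Set.range (algebraMap k K) := by
    rintro ⟨c, hc⟩
    rw [← hc] at hyP0
    exact absurd (P0.v_algebraMap_le c) (not_le.2 hyP0)
  have hy0 : y ≠ 0 := by rintro h0; exact hyr ⟨0, by rw [map_zero, h0]⟩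
  set E : Divisor k K := D0 + Finsupp.single P2 ((g : ℤ) + 1) with hE
  have hE0 : 0 ≤ E := add_nonneg (single_nonneg P0 (by omega)) (single_nonneg P2 (by omega))
  have hyL : y ∈ L E := by
    refine Submodule.sub_mem _ (L_mono ?_ hxL) (L_mono ?_ hσxL)
    · rw [hE]; exact le_add_of_nonneg_right (single_nonneg P2 (by omega))
    · rw [hE]; exact le_add_of_nonneg_left (single_nonneg P0 (by omega))
  have hdegE : E.deg = 2 * (g : ℤ) + 2 := by
    rw [hE, hD0, Divisor.deg_add, Divisor.deg_single, Divisor.deg_single, hdP0, hdP2]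
    push_cast; ring
  have hfin_le : (Module.finrank (IntermediateField.adjoin k ({y} : Set K)) K : ℤ) ≤
      2 * (g : ℤ) + 2 := by
    rw [← deg_poleDiv hK hyr, ← hdegE]
    exact Divisor.deg_mono (poleDiv_le_of_mem_L hK hE0 hyL)
  -- every place of F is a zero of y
  have hzero : ∀ Q ∈ F, Q.1 y < 1 := by
    intro Q hQ
    have hQfix : Q.conj σ = Q := Q.conj_eq_of_forall_lt σ hQ
    have hQP0 : Q ≠ P0 := by
      rintro rfl
      exact hP0 hQfix
    have hQx : Q.1 x ≤ 1 := v_le_one_of_mem_L_single hQP0 hxL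
    obtain ⟨c, hc⟩ := Q.exists_const_sub_lt (Place.deg_eq_one_of_isAlgClosed hK Q) hQx
    have h2 := hQ _ hc
    rw [map_sub, σ.commutes] at h2
    have : y = (x - algebraMap k K c) - (σ x - algebraMap k K c) := by rw [hy]; ring
    rw [this]
    exact lt_of_le_of_lt (Valuation.map_sub _ _ _) (max_lt hc h2)
  -- counting
  obtain ⟨T, hTF, hTcard⟩ := Set.exists_subset_encard_eq (s := F)
    (k := ((2 * g + 3 : ℕ) : ℕ∞)) (by
      refine le_trans ?_ (Order.add_one_le_of_lt h)
      exact_mod_cast le_rfl)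
  have hTfin : T.Finite := Set.finite_of_encard_eq_coe hTcard
  set S := hTfin.toFinset with hS
  have hScard : S.card = 2 * g + 3 := by
    have := hTfin.encard_eq_coe_toFinset_card
    rw [hTcard] at this
    exact_mod_cast this.symm
  have hSz : ∀ Q ∈ S, Q.1 y < 1 := by
    intro Q hQ
    rw [hS, Set.Finite.mem_toFinset] at hQ
    exact hzero Q (hTF hQ)
  have hsum := sum_deg_mul_ord_le_finrank hK hyr S hSz
  have hge : S.card ≤ ∑ Q ∈ S, Q.deg * (Q.ord y).toNat := by
    rw [Finset.card_eq_sum_ones]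
    refine Finset.sum_le_sum (fun Q hQ => ?_)
    have h1 := (Q.v_lt_one_iff hy0).1 (hSz Q hQ)
    rw [Place.deg_eq_one_of_isAlgClosed hK Q, one_mul]
    omega
  have : ((2 * g + 3 : ℕ) : ℤ) ≤ 2 * (g : ℤ) + 2 := by
    rw [← hScard]
    refine le_trans ?_ hfin_le
    exact_mod_cast hge.trans hsum
  push_cast at this
  omega

end

end FunFld
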