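import Groth.Agent.Lib.Helper5.FunFld.Genus0

/-! Limit linear series on chains of rational curves with cusps (helper5). -/

set_option autoImplicit false

namespace FunFld

open WithZero

variable {k K : Type*} [Field k] [Field K] [Algebra k K]

/-- Pure arithmetic: a filtration with steps `≤ 1`, ending at `0` after `d + 1` steps and having
`f 2 ≥ r`, has `∑_{n=1}^{d} f n ≥ r + r(r+1)/2`. -/
lemma sum_ge_of_cusp (f : ℕ → ℕ) (d r : ℕ) (hstep : ∀ n, f n ≤ f (n + 1) + 1)
    (hend : f (d + 1) = 0) (h2 : r ≤ f 2) (h12 : f 2 ≤ f 1) :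
    r + r * (r + 1) / 2 ≤ ∑ j ∈ Finset.range d, f (j + 1) := by
  have hlow : ∀ m, r ≤ f (2 + m) + m := by
    intro m
    induction m with
    | zero => simpa using h2
    | succ m ih =>
      have := hstep (2 + m)
      have e : 2 + (m + 1) = 2 + m + 1 := by ring
      rw [e]
      omega
  rcases Nat.eq_zero_or_pos r with hr | hr
  · subst hr; simp
  have hd : r + 1 ≤ d := by
    rcases Nat.eq_zero_or_pos d with hd0 | hd0
    · subst hd0
      simp only [zero_add] at hend
      omega
    · have := hlow (d - 1)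
      have e : 2 + (d - 1) = d + 1 := by omega
      rw [e, hend] at this
      omega
  calc r + r * (r + 1) / 2
      = ∑ j ∈ Finset.range (r + 1), ((r - j) + if j = 0 then 0 else 1) := by
        rw [Finset.sum_add_distrib]
        have h1 : ∑ j ∈ Finset.range (r + 1), (r - j) = r * (r + 1) / 2 := by
          have := Finset.sum_range_reflect (fun j => j) (r + 1)
          simp only [Nat.add_sub_cancel] at this
          rw [this, Finset.sum_range_id, Nat.add_sub_cancel, mul_comm]
        have h2 : ∑ j ∈ Finset.range (r + 1), (if j = 0 then 0 else 1) = r := by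
          rw [Finset.sum_range_succ']
          simp
        rw [h1, h2, add_comm]
    _ ≤ ∑ j ∈ Finset.range (r + 1), f (j + 1) := by
        refine Finset.sum_le_sum (fun j hj => ?_)
        rw [Finset.mem_range] at hj
        rcases Nat.eq_zero_or_pos j with hj0 | hj0
        · subst hj0
          simp only [if_true, zero_add]
          omega
        · have := hlow (j - 1)
          have e : 2 + (j - 1) = j + 1 := by omega
          rw [e] at this
          rw [if_neg (by omega)]
          omega
    _ ≤ ∑ j ∈ Finset.range d, f (j + 1) :=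
        Finset.sum_le_sum_of_subset (Finset.range_mono hd)

section step

variable (hK : IsFunctionField k K)

include hK in
/-- One step of the vanishing filtration of a finite-dimensional space costs at most `deg P`. -/
theorem finrank_inf_L_add_single_le (V : Submodule k K) [FiniteDimensional k V]
    (E : Divisor k K) (P : Place k K) :
    Module.finrank k ↥(V ⊓ L (E + Finsupp.single P 1)) ≤
      Module.finrank k ↥(V ⊓ L E) + P.deg := by
  obtain ⟨φ, hφ⟩ := exists_linearMap_L_step E P
  have hfinW : FiniteDimensional k ↥(V ⊓ L (E + Finsupp.single P 1)) :=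
    Submodule.finiteDimensional_of_le inf_le_left
  have hfinW' : FiniteDimensional k ↥(V ⊓ L E) :=
    Submodule.finiteDimensional_of_le inf_le_left
  let ψ : ↥(V ⊓ L (E + Finsupp.single P 1)) →ₗ[k] IsLocalRing.ResidueField P.O :=
    φ.comp (Submodule.inclusion inf_le_right)
  have := P.finiteDimensional_residueField hK
  have h4 := LinearMap.finrank_range_add_finrank_ker ψ
  have h6 : Module.finrank k (LinearMap.range ψ) ≤ P.deg := Submodule.finrank_le _
  let ι : LinearMap.ker ψ →ₗ[k] ↥(V ⊓ L E) :=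
    { toFun := fun y => ⟨y.1.1, y.1.2.1, (hφ ⟨y.1.1, y.1.2.2⟩).1 y.2⟩
      map_add' := fun a b => rfl
      map_smul' := fun c a => rfl }
  have hι : Function.Injective ι := by
    intro a b hab
    apply Subtype.ext
    apply Subtype.ext
    exact congrArg (fun z : ↥(V ⊓ L E) => (z : K)) hab
  have h7 := LinearMap.finrank_le_finrank_of_injective hι
  omega

end step

section cusp

variable [IsAlgClosed k] (hK : IsFunctionField k K)

include hK in
/-- A cusp contributes weight at least `r`. -/
theorem Wsum_ge_of_cusp {V : Submodule k K} {D : Divisor k K} {d r : ℕ} (hD : D.deg = d)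
    (hVr : Module.finrank k ↥V = r + 1) (Q : Place k K)
    (hcusp : r ≤ Module.finrank k ↥(V ⊓ L (D - Finsupp.single Q (2 : ℤ)))) :
    r + r * (r + 1) / 2 ≤ Wsum V D Q d := by
  have hfinV : FiniteDimensional k V := Module.finite_of_finrank_pos (by omega)
  have hdQ := Place.deg_eq_one_of_isAlgClosed hK Q
  rw [Wsum_def]
  have key := sum_ge_of_cusp
    (fun n => Module.finrank k ↥(V ⊓ L (D - Finsupp.single Q (n : ℤ)))) d r ?_ ?_ ?_ ?_
  · refine key.trans (le_of_eq ?_)
    refine Finset.sum_congr rfl (fun j _ => ?_)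
    push_cast
    rfl
  · intro n
    have := finrank_inf_L_add_single_le hK V (D - Finsupp.single Q ((n + 1 : ℕ) : ℤ)) Q
    rw [hdQ] at this
    have e : D - Finsupp.single Q ((n + 1 : ℕ) : ℤ) + Finsupp.single Q 1 =
        D - Finsupp.single Q (n : ℤ) := by
      rw [sub_add, ← Finsupp.single_sub]
      congr 2
      push_cast; ring
    rw [e] at this
    exact this
  · have := Vn_eq_bot hK V (D := D) Q (n := ((d + 1 : ℕ) : ℤ)) (by
      rw [hD, hdQ]; push_cast; linarith)
    rw [Vn_def] at this
    rw [this, finrank_bot]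
  · exact_mod_cast hcusp
  · have := Vn_anti V D Q (m := ((1 : ℕ) : ℤ)) (n := ((2 : ℕ) : ℤ)) (by norm_num)
    have hfin1 : FiniteDimensional k ↥(Vn V D Q ((1 : ℕ) : ℤ)) :=
      Submodule.finiteDimensional_of_le (Vn_le _ _ _ _)
    exact Submodule.finrank_mono this

end cusp

section fourpt

variable [IsAlgClosed k] [CharZero k] (hK : IsFunctionField k K)

include hK in
/-- Plücker for an injective family of places. -/
theorem plucker_genus_zero_indexed (hg : genus k K = 0) {V : Submodule k K}
    {D : Divisor k K} {d r : ℕ} (hD : D.deg = d) (hV : V ≤ L D)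
    (hVr : Module.finrank k ↥V = r + 1) {ι : Type*} (I : Finset ι) (p : ι → Place k K)
    (hp : Set.InjOn p (I : Set ι)) :
    ∑ i ∈ I, (Wsum V D (p i) d - r * (r + 1) / 2) + r * (r + 1) ≤ (r + 1) * d := by
  classical
  have := plucker_genus_zero hK hg hD hV hVr (I.image p)
  rwa [Finset.sum_image hp] at this

include hK in
/-- Plücker at up to four places, three of them optional. -/
theorem plucker_four (hg : genus k K = 0) {V : Submodule k K}
    {D : Divisor k K} {d r : ℕ} (hD : D.deg = d) (hV : V ≤ L D)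
    (hVr : Module.finrank k ↥V = r + 1) (A B Q Q' : Place k K) (cA cB cQ : Prop)
    [Decidable cA] [Decidable cB] [Decidable cQ]
    (hAB : cA → cB → A ≠ B) (hQA : cQ → cA → Q ≠ A) (hQB : cQ → cB → Q ≠ B)
    (hQ'A : cA → Q' ≠ A) (hQ'B : cB → Q' ≠ B) (hQ'Q : cQ → Q' ≠ Q) :
    (if cA then Wsum V D A d - r * (r + 1) / 2 else 0) +
      (if cB then Wsum V D B d - r * (r + 1) / 2 else 0) +
      (if cQ then Wsum V D Q d - r * (r + 1) / 2 else 0) +
      (Wsum V D Q' d - r * (r + 1) / 2) + r * (r + 1) ≤ (r + 1) * d := by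
  classical
  let p : Fin 4 → Place k K := ![A, B, Q, Q']
  let c : Fin 4 → Prop := ![cA, cB, cQ, True]
  have hinj : Set.InjOn p ((Finset.univ.filter c : Finset (Fin 4)) : Set (Fin 4)) := by
    intro i hi j hj hij
    simp only [Finset.coe_filter, Finset.mem_univ, true_and, Set.mem_ofPred_eq] at hi hj
    by_contra hne
    fin_cases i <;> fin_cases j <;> simp [p, c] at hi hj hij hne
    · exact hAB hi hj hij
    · exact hQA hj hi hij.symm
    · exact hQ'A hi hij.symm
    · exact hAB hj hi hij.symm
    · exact hQB hj hi hij.symm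
    · exact hQ'B hi hij.symm
    · exact hQA hi hj hij
    · exact hQB hi hj hij
    · exact hQ'Q hi hij.symm
    · exact hQ'A hj hij
    · exact hQ'B hj hij
    · exact hQ'Q hj hij
  have := plucker_genus_zero_indexed hK hg hD hV hVr (Finset.univ.filter c) p hinj
  rw [Finset.sum_filter, Fin.sum_univ_four] at this
  simpa [p, c, add_assoc] using this

include hK in
/-- Plücker at up to three optional places. -/
theorem plucker_three (hg : genus k K = 0) {V : Submodule k K}
    {D : Divisor k K} {d r : ℕ} (hD : D.deg = d) (hV : V ≤ L D)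
    (hVr : Module.finrank k ↥V = r + 1) (A B Q : Place k K) (cA cB cQ : Prop)
    [Decidable cA] [Decidable cB] [Decidable cQ]
    (hAB : cA → cB → A ≠ B) (hQA : cQ → cA → Q ≠ A) (hQB : cQ → cB → Q ≠ B) :
    (if cA then Wsum V D A d - r * (r + 1) / 2 else 0) +
      (if cB then Wsum V D B d - r * (r + 1) / 2 else 0) +
      (if cQ then Wsum V D Q d - r * (r + 1) / 2 else 0) + r * (r + 1) ≤ (r + 1) * d := by
  classical
  obtain ⟨Q', hQ'⟩ := exists_place_notMem hK ({A, B, Q} : Finset (Place k K))
  simp only [Finset.mem_insert, Finset.mem_singleton, not_or] at hQ'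
  have := plucker_four hK hg hD hV hVr A B Q Q' cA cB cQ hAB hQA hQB
    (fun _ => hQ'.1) (fun _ => hQ'.2.1) (fun _ => hQ'.2.2)
  omega

end fourpt

section cards

variable {N : ℕ} (T : Finset (Fin (N + 1)))

lemma card_filter_lt_succ (l : Fin N) :
    (T.filter (· < l.succ)).card =
      (T.filter (· < l.castSucc)).card + (if l.castSucc ∈ T then 1 else 0) := by
  classical
  have h1 : T.filter (· < l.succ) = T.filter (· < l.castSucc) ∪ T.filter (· = l.castSucc) := by
    ext x
    simp only [Finset.mem_filter, Finset.mem_union]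
    rw [← Fin.le_castSucc_iff, le_iff_lt_or_eq]
    tauto
  rw [h1, Finset.card_union_of_disjoint (by
    rw [Finset.disjoint_filter]
    intro x _ h1 h2
    exact absurd h2 h1.ne), Finset.filter_eq']
  split_ifs <;> simp

lemma card_filter_gt_castSucc (l : Fin N) :
    (T.filter (l.castSucc < ·)).card =
      (T.filter (l.succ < ·)).card + (if l.succ ∈ T then 1 else 0) := by
  classical
  have h1 : T.filter (l.castSucc < ·) = T.filter (l.succ < ·) ∪ T.filter (· = l.succ) := by
    ext x
    simp only [Finset.mem_filter, Finset.mem_union]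
    rw [Fin.castSucc_lt_iff_succ_le, le_iff_lt_or_eq]
    constructor
    · rintro ⟨h, h' | h'⟩
      · exact Or.inl ⟨h, h'⟩
      · exact Or.inr ⟨h, h'.symm⟩
    · rintro (⟨h, h'⟩ | ⟨h, h'⟩)
      · exact ⟨h, Or.inl h'⟩
      · exact ⟨h, Or.inr h'.symm⟩
  rw [h1, Finset.card_union_of_disjoint (by
    rw [Finset.disjoint_filter]
    intro x _ h1 h2
    exact absurd h2.symm h1.ne), Finset.filter_eq']
  split_ifs <;> simp

lemma card_eq_lt_add_gt (i : Fin (N + 1)) :
    T.card = (T.filter (· < i)).card + (T.filter (i < ·)).card + (if i ∈ T then 1 else 0) := by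
  classical
  have h1 : T = (T.filter (· < i) ∪ T.filter (i < ·)) ∪ T.filter (· = i) := by
    ext x
    simp only [Finset.mem_filter, Finset.mem_union]
    rcases lt_trichotomy x i with h | h | h <;> tauto
  conv_lhs => rw [h1]
  rw [Finset.card_union_of_disjoint, Finset.card_union_of_disjoint, Finset.filter_eq']
  · split_ifs <;> simp
  · rw [Finset.disjoint_filter]
    intro x _ h1 h2
    exact absurd h2 (not_lt.2 h1.le)
  · rw [Finset.disjoint_union_left]
    constructor
    · rw [Finset.disjoint_filter]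
      intro x _ h1 h2
      exact absurd h2 h1.ne
    · rw [Finset.disjoint_filter]
      intro x _ h1 h2
      exact absurd h2.symm h1.ne

lemma card_erase_eq_lt_add_gt (i : Fin (N + 1)) :
    (T.erase i).card = (T.filter (· < i)).card + (T.filter (i < ·)).card := by
  classical
  have := card_eq_lt_add_gt T i
  by_cases hi : i ∈ T
  · rw [Finset.card_erase_of_mem hi]
    rw [if_pos hi] at this
    omega
  · rw [Finset.erase_eq_of_notMem hi]
    rw [if_neg hi] at this
    omega

lemma card_filter_lt_eq_zero {i : Fin (N + 1)} (hi : ¬ 0 < (i : ℕ)) :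
    (T.filter (· < i)).card = 0 := by
  rw [Finset.card_eq_zero, Finset.filter_eq_empty_iff]
  intro x _ hx
  exact hi (lt_of_le_of_lt (Nat.zero_le _) (Fin.lt_def.1 hx))

lemma card_filter_gt_eq_zero {i : Fin (N + 1)} (hi : ¬ (i : ℕ) < N) :
    (T.filter (i < ·)).card = 0 := by
  rw [Finset.card_eq_zero, Finset.filter_eq_empty_iff]
  intro x _ hx
  have := Fin.lt_def.1 hx
  have := x.2
  omega

end cards

section chain

variable [IsAlgClosed k] [CharZero k]
  {N : ℕ} {Z : Fin (N + 1) → Type*} [∀ i, Field (Z i)] [∀ i, Algebra k (Z i)]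
  (hZ : ∀ i, IsFunctionField k (Z i)) (hrat : ∀ i, genus k (Z i) = 0)
  {d r : ℕ} {D : ∀ i, Divisor k (Z i)} (hD : ∀ i, (D i).deg = d)
  {V : ∀ i, Submodule k (Z i)} (hV : ∀ i, V i ≤ L (D i))
  (hVr : ∀ i, Module.finrank k ↥(V i) = r + 1)
  {A B : ∀ i, Place k (Z i)}
  (hAB : ∀ i : Fin (N + 1), 0 < (i : ℕ) → (i : ℕ) < N → A i ≠ B i)
  (hcomp : ∀ (l : Fin N) (m : ℕ), m ≤ d + 1 →
    Module.finrank k ↥((V l.castSucc) ⊓ L ((D l.castSucc) - Finsupp.single (B l.castSucc) ((m : ℤ)))) +
      Module.finrank k ↥((V l.succ) ⊓ L ((D l.succ) - Finsupp.single (A l.succ) ((d : ℤ) + 1 - m))) = r + 1)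
  {T : Finset (Fin (N + 1))} {Q : ∀ i, Place k (Z i)}
  (hQA : ∀ i ∈ T, 0 < (i : ℕ) → Q i ≠ A i) (hQB : ∀ i ∈ T, (i : ℕ) < N → Q i ≠ B i)
  (hcusp : ∀ i ∈ T, r ≤ Module.finrank k ↥((V i) ⊓ L ((D i) - Finsupp.single (Q i) ((2 : ℤ)))))

include hZ hrat hD hV hVr hAB hcomp hQA hQB hcusp in
/-- Weight at the incoming node of a backbone component: at least `r` for every earlier tail. -/
theorem flag_claimA (i : Fin (N + 1)) (hi : 0 < (i : ℕ)) :
    r * (T.filter (· < i)).card + r * (r + 1) / 2 ≤ Wsum (V i) (D i) (A i) d := by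
  classical
  have h2 := two_mul_half_mul_succ r
  induction i using Fin.induction with
  | zero => exact absurd hi (lt_irrefl _)
  | succ l ih =>
    have hlN : ((l.castSucc : Fin (N + 1)) : ℕ) < N := by simp
    have hpl := plucker_three (hZ l.castSucc) (hrat _) (hD _) (hV _) (hVr _)
      (A l.castSucc) (B l.castSucc) (Q l.castSucc)
      (0 < ((l.castSucc : Fin (N + 1)) : ℕ)) True (l.castSucc ∈ T)
      (fun h _ => hAB _ h hlN) (fun h h' => hQA _ h h') (fun h _ => hQB _ h hlN)
    have hc := Wsum_add_Wsum_eq_of_compat (hcomp l)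
    have hcard := card_filter_lt_succ T l
    rw [if_pos trivial] at hpl
    have hA : r * (T.filter (· < l.castSucc)).card ≤
        (if 0 < ((l.castSucc : Fin (N + 1)) : ℕ) then
          Wsum (V l.castSucc) (D l.castSucc) (A l.castSucc) d - r * (r + 1) / 2 else 0) := by
      split_ifs with h0
      · have := ih h0
        omega
      · rw [card_filter_lt_eq_zero T h0]; simp
    have hQ : r * (if l.castSucc ∈ T then 1 else 0) ≤
        (if l.castSucc ∈ T then
          Wsum (V l.castSucc) (D l.castSucc) (Q l.castSucc) d - r * (r + 1) / 2 else 0) := by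
      split_ifs with hT
      · have := Wsum_ge_of_cusp (hZ _) (hD _) (hVr _) (Q l.castSucc) (hcusp _ hT)
        omega
      · simp
    rw [hcard, mul_add]
    omega

include hZ hrat hD hV hVr hAB hcomp hQA hQB hcusp in
/-- Weight at the outgoing node of a backbone component: at least `r` for every later tail. -/
theorem flag_claimB (i : Fin (N + 1)) (hi : (i : ℕ) < N) :
    r * (T.filter (i < ·)).card + r * (r + 1) / 2 ≤ Wsum (V i) (D i) (B i) d := by
  classical
  have h2 := two_mul_half_mul_succ r
  induction i using Fin.reverseInduction with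
  | last => exact absurd hi (by simp)
  | cast l ih =>
    have hl0 : 0 < ((l.succ : Fin (N + 1)) : ℕ) := by simp
    have hpl := plucker_three (hZ l.succ) (hrat _) (hD _) (hV _) (hVr _)
      (A l.succ) (B l.succ) (Q l.succ)
      True (((l.succ : Fin (N + 1)) : ℕ) < N) (l.succ ∈ T)
      (fun _ h => hAB _ hl0 h) (fun h _ => hQA _ h hl0) (fun h h' => hQB _ h h')
    have hc := Wsum_add_Wsum_eq_of_compat (hcomp l)
    have hcard := card_filter_gt_castSucc T l
    rw [if_pos trivial] at hpl
    have hB : r * (T.filter (l.succ < ·)).card ≤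
        (if ((l.succ : Fin (N + 1)) : ℕ) < N then
          Wsum (V l.succ) (D l.succ) (B l.succ) d - r * (r + 1) / 2 else 0) := by
      split_ifs with h0
      · have := ih h0
        omega
      · rw [card_filter_gt_eq_zero T h0]; simp
    have hQ : r * (if l.succ ∈ T then 1 else 0) ≤
        (if l.succ ∈ T then
          Wsum (V l.succ) (D l.succ) (Q l.succ) d - r * (r + 1) / 2 else 0) := by
      split_ifs with hT
      · have := Wsum_ge_of_cusp (hZ _) (hD _) (hVr _) (Q l.succ) (hcusp _ hT)
        omega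
      · simp
    rw [hcard, mul_add]
    omega

include hZ hrat hD hV hVr hAB hcomp hQA hQB hcusp in
/-- Weight bound at a point off the nodes and tails. -/
theorem flag_weight_le_off_nodes (i : Fin (N + 1)) (Q' : Place k (Z i))
    (hQ'A : 0 < (i : ℕ) → Q' ≠ A i) (hQ'B : (i : ℕ) < N → Q' ≠ B i) (hQ'Q : i ∈ T → Q' ≠ Q i) :
    Wsum (V i) (D i) Q' d + r * T.card + r * (r + 1) ≤ (r + 1) * d + r * (r + 1) / 2 := by
  classical
  have h2 := two_mul_half_mul_succ r
  have hpl := plucker_four (hZ i) (hrat _) (hD _) (hV _) (hVr _)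
    (A i) (B i) (Q i) Q' (0 < (i : ℕ)) ((i : ℕ) < N) (i ∈ T)
    (fun h h' => hAB _ h h') (fun h h' => hQA _ h h') (fun h h' => hQB _ h h') hQ'A hQ'B hQ'Q
  have hA : r * (T.filter (· < i)).card ≤
      (if 0 < (i : ℕ) then Wsum (V i) (D i) (A i) d - r * (r + 1) / 2 else 0) := by
    split_ifs with h0
    · have := flag_claimA hZ hrat hD hV hVr hAB hcomp hQA hQB hcusp i h0
      omega
    · rw [card_filter_lt_eq_zero T h0]; simp
  have hB : r * (T.filter (i < ·)).card ≤
      (if (i : ℕ) < N then Wsum (V i) (D i) (B i) d - r * (r + 1) / 2 else 0) := by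
    split_ifs with h0
    · have := flag_claimB hZ hrat hD hV hVr hAB hcomp hQA hQB hcusp i h0
      omega
    · rw [card_filter_gt_eq_zero T h0]; simp
  have hQ : r * (if i ∈ T then 1 else 0) ≤
      (if i ∈ T then Wsum (V i) (D i) (Q i) d - r * (r + 1) / 2 else 0) := by
    split_ifs with hT
    · have := Wsum_ge_of_cusp (hZ _) (hD _) (hVr _) (Q i) (hcusp _ hT)
      omega
    · simp
  rw [card_eq_lt_add_gt T i, mul_add, mul_add]
  omega

include hZ hrat hD hV hVr hAB hcomp hQA hQB hcusp in
/-- Weight bound at the tail point of an inner component. -/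
theorem flag_weight_at_tail_le (i : Fin (N + 1)) (hiT : i ∈ T) (hi0 : 0 < (i : ℕ))
    (hiN : (i : ℕ) < N) :
    Wsum (V i) (D i) (Q i) d + r * (T.erase i).card + r * (r + 1) / 2 ≤ (r + 1) * d := by
  classical
  have h2 := two_mul_half_mul_succ r
  have hpl := plucker_three (hZ i) (hrat _) (hD _) (hV _) (hVr _)
    (A i) (B i) (Q i) True True True
    (fun _ _ => hAB _ hi0 hiN) (fun _ _ => hQA _ hiT hi0) (fun _ _ => hQB _ hiT hiN)
  rw [if_pos trivial, if_pos trivial, if_pos trivial] at hpl
  have hA := flag_claimA hZ hrat hD hV hVr hAB hcomp hQA hQB hcusp i hi0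
  have hB := flag_claimB hZ hrat hD hV hVr hAB hcomp hQA hQB hcusp i hiN
  rw [card_erase_eq_lt_add_gt T i, mul_add]
  omega

include hZ hrat hD hV hVr hAB hcomp hQA hQB hcusp in
/-- The two node weights of an inner component. -/
theorem flag_node_weights_ge (i : Fin (N + 1)) (hi0 : 0 < (i : ℕ)) (hiN : (i : ℕ) < N) :
    r * (T.erase i).card + r * (r + 1) ≤
      Wsum (V i) (D i) (A i) d + Wsum (V i) (D i) (B i) d := by
  classical
  have h2 := two_mul_half_mul_succ r
  have hA := flag_claimA hZ hrat hD hV hVr hAB hcomp hQA hQB hcusp i hi0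
  have hB := flag_claimB hZ hrat hD hV hVr hAB hcomp hQA hQB hcusp i hiN
  rw [card_erase_eq_lt_add_gt T i, mul_add]
  omega

include hZ hrat hD hV hVr hAB hcomp hQA hQB hcusp in
/-- The numerical constraint forced by the cusps. -/
theorem flag_card_le : r * T.card + r * (r + 1) ≤ (r + 1) * d := by
  classical
  have h2 := two_mul_half_mul_succ r
  have hpl := plucker_three (hZ 0) (hrat _) (hD _) (hV _) (hVr _)
    (A 0) (B 0) (Q 0) False (((0 : Fin (N + 1)) : ℕ) < N) ((0 : Fin (N + 1)) ∈ T)
    (fun h _ => h.elim) (fun _ h => h.elim) (fun h h' => hQB _ h h')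
  rw [if_neg not_false] at hpl
  have hB : r * (T.filter ((0 : Fin (N + 1)) < ·)).card ≤
      (if ((0 : Fin (N + 1)) : ℕ) < N then
        Wsum (V 0) (D 0) (B 0) d - r * (r + 1) / 2 else 0) := by
    split_ifs with h0
    · have := flag_claimB hZ hrat hD hV hVr hAB hcomp hQA hQB hcusp 0 h0
      omega
    · rw [card_filter_gt_eq_zero T h0]; simp
  have hQ : r * (if (0 : Fin (N + 1)) ∈ T then 1 else 0) ≤
      (if (0 : Fin (N + 1)) ∈ T then Wsum (V 0) (D 0) (Q 0) d - r * (r + 1) / 2 else 0) := by
    split_ifs with hT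
    · have := Wsum_ge_of_cusp (hZ _) (hD _) (hVr _) (Q 0) (hcusp _ hT)
      omega
    · simp
  rw [card_eq_lt_add_gt T 0, card_filter_lt_eq_zero T (i := 0) (by simp), mul_add, mul_add]
  omega

end chain

section tailchain

variable [IsAlgClosed k]
  {n : ℕ} {U : Fin (n + 1) → Type*} [∀ l, Field (U l)] [∀ l, Algebra k (U l)]
  (hU : ∀ l, IsFunctionField k (U l))
  {d r : ℕ} {D : ∀ l, Divisor k (U l)} (hD : ∀ l, (D l).deg = d)
  {V : ∀ l, Submodule k (U l)} (hV : ∀ l, V l ≤ L (D l))
  (hVr : ∀ l, Module.finrank k ↥(V l) = r + 1)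
  {A B : ∀ l, Place k (U l)}
  (hAB : ∀ l : Fin (n + 1), 0 < (l : ℕ) → (l : ℕ) < n → A l ≠ B l)
  (hcomp : ∀ (l : Fin n) (m : ℕ), m ≤ d + 1 →
    Module.finrank k ↥((V l.castSucc) ⊓ L ((D l.castSucc) - Finsupp.single (B l.castSucc) ((m : ℤ)))) +
      Module.finrank k ↥((V l.succ) ⊓ L ((D l.succ) - Finsupp.single (A l.succ) ((d : ℤ) + 1 - m))) = r + 1)
  (hpos : 0 < genus k (U (Fin.last n)))

include hU hD hVr hAB hcomp hpos in
/-- Towards the end of positive genus, the aspects have at most one section vanishing to order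
`d - 1` at the incoming node. -/
theorem tailchain_finrank_le_one (hd : 1 ≤ d) (l : Fin (n + 1)) (hl : 0 < (l : ℕ)) :
    Module.finrank k ↥((V l) ⊓ L ((D l) - Finsupp.single (A l) ((d : ℤ) + 1 - (2 : ℕ)))) ≤ 1 := by
  induction l using Fin.reverseInduction with
  | last =>
    refine (finrank_inf_L_le_ell (hU _) _ _).trans ?_
    apply ell_le_one_of_deg_eq_one (hU _) hpos
    rw [Divisor.deg_sub, Divisor.deg_single, hD, Place.deg_eq_one_of_isAlgClosed (hU _)]
    push_cast
    ring
  | cast i ih =>
    have hiN : ((i.castSucc : Fin (n + 1)) : ℕ) < n := by simp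
    have h1 := hcomp i 2 (by omega)
    have h3 := ih (by simp)
    have hfinV : FiniteDimensional k (V i.castSucc) :=
      Module.finite_of_finrank_pos (by rw [hVr]; omega)
    have hne := hAB i.castSucc hl hiN
    have hdA := Place.deg_eq_one_of_isAlgClosed (hU i.castSucc) (A i.castSucc)
    have hdB := Place.deg_eq_one_of_isAlgClosed (hU i.castSucc) (B i.castSucc)
    have h2 := finrank_Vn_add_le (hU i.castSucc) (V i.castSucc) hne (D := D i.castSucc)
      (m := (d : ℤ) + 1 - (2 : ℕ)) (n := ((2 : ℕ) : ℤ)) (by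
        rw [hD, hdA, hdB]; push_cast; linarith)
    rw [hVr] at h2
    change Module.finrank k ↥((V i.castSucc) ⊓ L ((D i.castSucc) -
      Finsupp.single (A i.castSucc) ((d : ℤ) + 1 - (2 : ℕ)))) +
      Module.finrank k ↥((V i.castSucc) ⊓ L ((D i.castSucc) -
      Finsupp.single (B i.castSucc) ((2 : ℕ) : ℤ))) ≤ r + 1 at h2
    omega

include hU hD hV hVr hAB hcomp hpos in
/-- Inner components of a chain ending in positive genus have a cusp at the outgoing node. -/
theorem tailchain_cusp (l : Fin (n + 1)) (hl0 : 0 < (l : ℕ)) (hln : (l : ℕ) < n) :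
    r ≤ Module.finrank k ↥((V l) ⊓ L ((D l) - Finsupp.single (B l) ((2 : ℤ)))) := by
  rcases Nat.eq_zero_or_pos r with hr0 | hrpos
  · rw [hr0]; exact Nat.zero_le _
  have hd : 1 ≤ d := by
    have hfin := finiteDimensional_L (hU l) (D l)
    have h1 : r + 1 ≤ ell (D l) := by
      rw [← hVr l]; exact Submodule.finrank_mono (hV l)
    have h2 := ell_le_deg_add_one' (hU l) (D := D l) (by omega)
    rw [hD] at h2
    have : ((r + 1 : ℕ) : ℤ) ≤ (ell (D l) : ℤ) := by exact_mod_cast h1
    push_cast at this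
    omega
  obtain ⟨i, rfl⟩ : ∃ i : Fin n, i.castSucc = l := ⟨⟨l, hln⟩, rfl⟩
  have h1 := hcomp i 2 (by omega)
  have h3 := tailchain_finrank_le_one hU hD hVr hAB hcomp hpos hd i.succ (by simp)
  change Module.finrank k ↥((V i.castSucc) ⊓ L ((D i.castSucc) -
      Finsupp.single (B i.castSucc) ((2 : ℕ) : ℤ))) + _ = r + 1 at h1
  change r ≤ Module.finrank k ↥((V i.castSucc) ⊓ L ((D i.castSucc) -
      Finsupp.single (B i.castSucc) ((2 : ℕ) : ℤ)))
  omega

end tailchain

end FunFld
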