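import Groth.Agent.Lib.Helper5.FunFld.LocRingFinite
import Groth.Agent.Lib.Helper5.FunFld.FlagChain

/-! Criteria for a projective map to be nonsingular at a place (helper5). -/

set_option autoImplicit false

namespace FunFld

open WithZero

variable {k K : Type*} [Field k] [Field K] [Algebra k K] {ι : Type*}

section basics

variable (hK : IsFunctionField k K) [Fintype ι] [Nonempty ι]

include hK in
lemma IsLeast.v_eq_exp_mapDiv {φ : ι → K} (hφ : ∀ i, φ i ≠ 0) {P : Place k K} {j : ι}
    (hj : IsLeast φ P j) : P.1 (φ j) = exp (mapDiv k φ P) := by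
  rw [mapDiv_apply hK, P.v_eq_exp_neg_ord hj.1]
  congr 2
  apply le_antisymm
  · rw [le_minOrd_iff]
    intro i
    have := hj.2 i
    rw [P.v_eq_exp_neg_ord (hφ i), P.v_eq_exp_neg_ord hj.1, exp_le_exp] at this
    omega
  · exact minOrd_le φ P j

lemma mem_L_sub_single_iff {D : Divisor k K} {f : K} (hf : f ∈ L D) (P : Place k K) :
    f ∈ L (D - Finsupp.single P 1) ↔ P.1 f ≤ exp (D P - 1) := by
  classical
  constructor
  · intro h
    have := h P
    rwa [Finsupp.sub_apply, Finsupp.single_eq_same] at this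
  · intro h Q
    rw [Finsupp.sub_apply]
    by_cases hQ : Q = P
    · subst hQ; rwa [Finsupp.single_eq_same]
    · rw [Finsupp.single_eq_of_ne hQ, sub_zero]; exact hf Q

end basics

section param

variable [IsAlgClosed k] (hK : IsFunctionField k K) [Fintype ι] [Nonempty ι]

include hK in
/-- The local ring has a local parameter iff the span has an element of order one more than
the least order. -/
theorem exists_param_iff {φ : ι → K} (hφ : ∀ i, φ i ≠ 0) (P : Place k K) :
    (∃ t : K, InLocRing φ P t ∧ P.1 t = exp (-1)) ↔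
      ∃ f ∈ Submodule.span k (Set.range φ), P.1 f = exp (mapDiv k φ P - 1) := by
  have hdP := Place.deg_eq_one_of_isAlgClosed hK P
  constructor
  · rintro ⟨t, ht, htv⟩
    obtain ⟨j, hj, u, hu, w, hw, hw1, hzw⟩ := (inLocRing_iff φ P t).1 ht
    obtain ⟨l, hl, hlv⟩ := exists_span_approx hdP hj hu
    have huv : P.1 u = exp (-1) := by rw [← hzw, map_mul, hw1, mul_one, htv]
    have hlv' : P.1 l = exp (-1) := by
      have : l = u - (u - l) := by ring
      rw [this, Valuation.map_sub_eq_of_lt_left, huv]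
      rw [huv]
      exact lt_of_le_of_lt hlv (by rw [exp_lt_exp]; norm_num)
    refine ⟨l * φ j, mul_mem_span_of_mem_span_ratio φ hj.1 hl, ?_⟩
    rw [map_mul, hlv', hj.v_eq_exp_mapDiv hK hφ, ← exp_add]
    congr 1; ring
  · rintro ⟨f, hf, hfv⟩
    obtain ⟨j, hj⟩ := exists_isLeast φ hφ P
    refine ⟨f / φ j, inLocRing_of_mem_affRing hj
      (span_ratio_le_affRing φ j (div_mem_span_ratio φ j hf)), ?_⟩
    rw [map_div₀, hfv, hj.v_eq_exp_mapDiv hK hφ, ← exp_sub]
    congr 1; ring

include hK in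
/-- A place `Q` not separated from `P` by the span has the same image as `P`. -/
theorem sameImage_of_not_sep {φ : ι → K} (hφ : ∀ i, φ i ≠ 0) (P Q : Place k K)
    (hno : ¬ ∃ f ∈ Submodule.span k (Set.range φ),
        P.1 f < exp (mapDiv k φ P) ∧ Q.1 f = exp (mapDiv k φ Q)) : SameImage φ P Q := by
  have hdP := Place.deg_eq_one_of_isAlgClosed hK P
  obtain ⟨j, hj⟩ := exists_isLeast φ hφ P
  have hPj := hj.v_eq_exp_mapDiv hK hφ
  have hres : ∀ i, ∃ c : k, P.1 (φ i / φ j - algebraMap k K c) < 1 := fun i =>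
    P.exists_const_sub_lt hdP (hj.v_ratio_le i)
  choose c hc using hres
  have hfP : ∀ i, P.1 (φ i - c i • φ j) < exp (mapDiv k φ P) := by
    intro i
    have : φ i - c i • φ j = (φ i / φ j - algebraMap k K (c i)) * φ j := by
      rw [Algebra.smul_def, sub_mul, div_mul_cancel₀ _ hj.1]
    rw [this, map_mul, hPj]
    calc _ < 1 * exp (mapDiv k φ P) := mul_lt_mul_of_pos_right (hc i) exp_pos
      _ = _ := one_mul _
  have hfW : ∀ i, φ i - c i • φ j ∈ Submodule.span k (Set.range φ) := fun i =>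
    Submodule.sub_mem _ (Submodule.subset_span ⟨i, rfl⟩)
      (Submodule.smul_mem _ _ (Submodule.subset_span ⟨j, rfl⟩))
  by_cases hjQ : IsLeast φ Q j
  · push Not at hno
    have hQj := hjQ.v_eq_exp_mapDiv hK hφ
    have hcQ : ∀ i, Q.1 (φ i / φ j - algebraMap k K (c i)) < 1 := by
      intro i
      have h1 := hno _ (hfW i) (hfP i)
      have h2 : Q.1 (φ i - c i • φ j) ≤ Q.1 (φ j) := by
        refine (Valuation.map_sub _ _ _).trans (max_le (hjQ.2 i) ?_)
        rw [Algebra.smul_def, map_mul]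
        calc _ ≤ 1 * Q.1 (φ j) := mul_le_mul' (Q.v_algebraMap_le _) le_rfl
          _ = _ := one_mul _
      rw [← hQj] at h1
      have h3 : Q.1 (φ i - c i • φ j) < Q.1 (φ j) := lt_of_le_of_ne h2 h1
      have : φ i / φ j - algebraMap k K (c i) = (φ i - c i • φ j) / φ j := by
        rw [Algebra.smul_def, sub_div, mul_div_assoc, div_self hj.1, mul_one]
      rw [this, map_div₀]
      exact (div_lt_one₀ (pos_iff_ne_zero.2 (Q.v_ne_zero hj.1))).2 h3
    exact ⟨j, hj.1, hj.2, hjQ.2, fun i => ⟨c i, hc i, hcQ i⟩⟩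
  · exfalso
    apply hno
    obtain ⟨i0, hi0⟩ := exists_isLeast φ hφ Q
    have hlt : Q.1 (φ j) < Q.1 (φ i0) := by
      by_contra hge
      rw [not_lt] at hge
      exact hjQ ⟨hj.1, fun i => (hi0.2 i).trans hge⟩
    refine ⟨φ i0 - c i0 • φ j, hfW i0, hfP i0, ?_⟩
    rw [Valuation.map_sub_eq_of_lt_left, hi0.v_eq_exp_mapDiv hK hφ]
    rw [Algebra.smul_def, map_mul]
    calc _ ≤ 1 * Q.1 (φ j) := mul_le_mul' (Q.v_algebraMap_le _) le_rfl
      _ = Q.1 (φ j) := one_mul _
      _ < _ := hlt

include hK in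
/-- Every place has the same image as itself. -/
theorem sameImage_self {φ : ι → K} (hφ : ∀ i, φ i ≠ 0) (P : Place k K) : SameImage φ P P := by
  have hdP := Place.deg_eq_one_of_isAlgClosed hK P
  obtain ⟨j, hj⟩ := exists_isLeast φ hφ P
  refine ⟨j, hj.1, hj.2, hj.2, fun i => ?_⟩
  obtain ⟨c, hc⟩ := P.exists_const_sub_lt hdP (hj.v_ratio_le i)
  exact ⟨c, hc, hc⟩

include hK in
/-- Sections vanish at `P` (beyond the base locus) iff they do at any place of the fibre. -/
theorem SameImage.v_lt_iff {φ : ι → K} (hφ : ∀ i, φ i ≠ 0) {P Q : Place k K}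
    (h : SameImage φ P Q) {f : K} (hf : f ∈ Submodule.span k (Set.range φ)) :
    P.1 f < exp (mapDiv k φ P) ↔ Q.1 f < exp (mapDiv k φ Q) := by
  have h' := h
  obtain ⟨j, hj0, hjP, hjQ, -⟩ := h'
  have hlP : IsLeast φ P j := ⟨hj0, hjP⟩
  have hlQ : IsLeast φ Q j := ⟨hj0, hjQ⟩
  have hz : InLocRing φ P (f / φ j) := inLocRing_of_mem_affRing hlP
    (span_ratio_le_affRing φ j (div_mem_span_ratio φ j hf))
  have := ((sameImage_iff hK φ hφ P Q).1 h _ hz).2
  rw [map_div₀, map_div₀, div_lt_one₀ (pos_iff_ne_zero.2 (Q.v_ne_zero hj0)),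
    div_lt_one₀ (pos_iff_ne_zero.2 (P.v_ne_zero hj0)), hlP.v_eq_exp_mapDiv hK hφ,
    hlQ.v_eq_exp_mapDiv hK hφ] at this
  exact this.symm

include hK in
/-- The local ring at `P` is dominated by no other place iff the span separates `P` from every
other place. -/
theorem dominated_iff {φ : ι → K} (hφ : ∀ i, φ i ≠ 0) (P : Place k K) :
    (∀ Q : Place k K, (∀ z : K, InLocRing φ P z → Q.1 z ≤ 1) → Q = P) ↔
      ∀ Q : Place k K, Q ≠ P → ∃ f ∈ Submodule.span k (Set.range φ),
        P.1 f < exp (mapDiv k φ P) ∧ Q.1 f = exp (mapDiv k φ Q) := by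
  have hdP := Place.deg_eq_one_of_isAlgClosed hK P
  constructor
  · intro hdom Q hQP
    obtain ⟨j, hj⟩ := exists_isLeast φ hφ P
    have hPj := hj.v_eq_exp_mapDiv hK hφ
    -- residues at P
    have hres : ∀ i, ∃ c : k, P.1 (φ i / φ j - algebraMap k K c) < 1 := fun i =>
      P.exists_const_sub_lt hdP (hj.v_ratio_le i)
    choose c hc using hres
    have hfP : ∀ i, P.1 (φ i - c i • φ j) < exp (mapDiv k φ P) := by
      intro i
      have : φ i - c i • φ j = (φ i / φ j - algebraMap k K (c i)) * φ j := by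
        rw [Algebra.smul_def, sub_mul, div_mul_cancel₀ _ hj.1]
      rw [this, map_mul, hPj]
      calc _ < 1 * exp (mapDiv k φ P) := mul_lt_mul_of_pos_right (hc i) exp_pos
        _ = _ := one_mul _
    have hfW : ∀ i, φ i - c i • φ j ∈ Submodule.span k (Set.range φ) := fun i =>
      Submodule.sub_mem _ (Submodule.subset_span ⟨i, rfl⟩)
        (Submodule.smul_mem _ _ (Submodule.subset_span ⟨j, rfl⟩))
    by_cases hjQ : IsLeast φ Q j
    · by_contra hno
      push Not at hno
      have hQj := hjQ.v_eq_exp_mapDiv hK hφ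
      have hcQ : ∀ i, Q.1 (φ i / φ j - algebraMap k K (c i)) < 1 := by
        intro i
        have h1 := hno _ (hfW i) (hfP i)
        have h2 : Q.1 (φ i - c i • φ j) ≤ Q.1 (φ j) := by
          refine (Valuation.map_sub _ _ _).trans (max_le (hjQ.2 i) ?_)
          rw [Algebra.smul_def, map_mul]
          calc _ ≤ 1 * Q.1 (φ j) := mul_le_mul' (Q.v_algebraMap_le _) le_rfl
            _ = _ := one_mul _
        rw [← hQj] at h1
        have h3 : Q.1 (φ i - c i • φ j) < Q.1 (φ j) := lt_of_le_of_ne h2 h1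
        have : φ i / φ j - algebraMap k K (c i) = (φ i - c i • φ j) / φ j := by
          rw [Algebra.smul_def, sub_div, mul_div_assoc, div_self hj.1, mul_one]
        rw [this, map_div₀]
        exact (div_lt_one₀ (pos_iff_ne_zero.2 (Q.v_ne_zero hj.1))).2 h3
      have hsame : SameImage φ P Q :=
        ⟨j, hj.1, hj.2, hjQ.2, fun i => ⟨c i, hc i, hcQ i⟩⟩
      exact hQP (hdom Q (fun z hz => ((sameImage_iff hK φ hφ P Q).1 hsame z hz).1))
    · obtain ⟨i0, hi0⟩ := exists_isLeast φ hφ Q
      have hlt : Q.1 (φ j) < Q.1 (φ i0) := by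
        by_contra hge
        rw [not_lt] at hge
        exact hjQ ⟨hj.1, fun i => (hi0.2 i).trans hge⟩
      refine ⟨φ i0 - c i0 • φ j, hfW i0, hfP i0, ?_⟩
      rw [Valuation.map_sub_eq_of_lt_left, hi0.v_eq_exp_mapDiv hK hφ]
      rw [Algebra.smul_def, map_mul]
      calc _ ≤ 1 * Q.1 (φ j) := mul_le_mul' (Q.v_algebraMap_le _) le_rfl
        _ = Q.1 (φ j) := one_mul _
        _ < _ := hlt
  · intro hsep Q hQ
    by_contra hQP
    obtain ⟨f, hf, hfP, hfQ⟩ := hsep Q hQP
    obtain ⟨j, hj⟩ := exists_isLeast φ hφ P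
    have hPj := hj.v_eq_exp_mapDiv hK hφ
    have hdQ := Place.deg_eq_one_of_isAlgClosed hK Q
    set z1 := f / φ j with hz1
    have hz1A : z1 ∈ affRing k φ j := span_ratio_le_affRing φ j (div_mem_span_ratio φ j hf)
    have hPz1 : P.1 z1 < 1 := by
      rw [hz1, map_div₀, hPj]
      exact (div_lt_one₀ exp_pos).2 hfP
    have hQz1le : Q.1 z1 ≤ 1 := hQ z1 (inLocRing_of_mem_affRing hj hz1A)
    have hQj : Q.1 (φ j) ≤ exp (mapDiv k φ Q) :=
      span_le_L_mapDiv hK φ (Submodule.subset_span ⟨j, rfl⟩) Q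
    have hQz1 : Q.1 z1 = 1 := by
      refine le_antisymm hQz1le ?_
      rw [hz1, map_div₀, hfQ]
      exact (one_le_div₀ (pos_iff_ne_zero.2 (Q.v_ne_zero hj.1))).2 hQj
    obtain ⟨c, hc⟩ := Q.exists_const_sub_lt hdQ hQz1le
    have hc0 : c ≠ 0 := by
      rintro rfl
      rw [map_zero, sub_zero, hQz1] at hc
      exact lt_irrefl _ hc
    set w := z1 - algebraMap k K c with hw
    have hwA : w ∈ affRing k φ j := Subalgebra.sub_mem _ hz1A (Subalgebra.algebraMap_mem _ c)
    have hPw : P.1 w = 1 := by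
      rw [hw, Valuation.map_sub_eq_of_lt_right, P.v_algebraMap hc0]
      rw [P.v_algebraMap hc0]; exact hPz1
    have hinv : InLocRing φ P (1 / w) :=
      (mem_locRing_iff hj).1 (div_mem_locRing (Subalgebra.one_mem _) hwA hPw)
    have h1 := hQ _ hinv
    rw [map_div₀, map_one] at h1
    have hw0 : w ≠ 0 := by
      intro h0
      rw [h0, map_zero] at hPw
      exact zero_ne_one hPw
    rw [div_le_iff₀ (pos_iff_ne_zero.2 (Q.v_ne_zero hw0)), one_mul] at h1
    exact absurd hc (not_lt.2 h1)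

end param

section codim

variable (hK : IsFunctionField k K)

include hK in
/-- One step down the vanishing filtration at a degree-one place: the dimension drops by one
exactly when some element does not vanish to the higher order. -/
theorem finrank_inf_L_sub_single (V : Submodule k K) [FiniteDimensional k V]
    (E : Divisor k K) (Q : Place k K) (hQ : Q.deg = 1) :
    (Module.finrank k ↥(V ⊓ L (E - Finsupp.single Q 1)) + 1 = Module.finrank k ↥(V ⊓ L E) ∧
        ∃ f ∈ V ⊓ L E, f ∉ L (E - Finsupp.single Q 1)) ∨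
      (Module.finrank k ↥(V ⊓ L (E - Finsupp.single Q 1)) = Module.finrank k ↥(V ⊓ L E) ∧
        ¬ ∃ f ∈ V ⊓ L E, f ∉ L (E - Finsupp.single Q 1)) := by
  have hfin : FiniteDimensional k ↥(V ⊓ L E) := Submodule.finiteDimensional_of_le inf_le_left
  have hle : V ⊓ L (E - Finsupp.single Q 1) ≤ V ⊓ L E :=
    inf_le_inf_left _ (L_mono (by
      intro R
      rw [Finsupp.sub_apply]
      have := single_nonneg Q (by norm_num : (0 : ℤ) ≤ 1) R
      rw [Finsupp.zero_apply] at this
      linarith))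
  have hstep := finrank_inf_L_add_single_le hK V (E - Finsupp.single Q 1) Q
  rw [sub_add_cancel, hQ] at hstep
  by_cases hex : ∃ f ∈ V ⊓ L E, f ∉ L (E - Finsupp.single Q 1)
  · left
    refine ⟨?_, hex⟩
    obtain ⟨f, hf, hfn⟩ := hex
    have hlt : V ⊓ L (E - Finsupp.single Q 1) < V ⊓ L E := by
      refine lt_of_le_of_ne hle ?_
      intro heq
      apply hfn
      have : f ∈ V ⊓ L (E - Finsupp.single Q 1) := by rw [heq]; exact hf
      exact this.2
    have := Submodule.finrank_lt_finrank_of_lt hlt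
    omega
  · right
    refine ⟨?_, hex⟩
    push Not at hex
    have : V ⊓ L E ≤ V ⊓ L (E - Finsupp.single Q 1) := fun f hf => ⟨hf.1, hex f hf⟩
    rw [le_antisymm hle this]

end codim

section criterion

variable [IsAlgClosed k] (hK : IsFunctionField k K) [Fintype ι] [Nonempty ι]

include hK in
/-- The codimension-two condition at `(P, Q)` in terms of separating sections. -/
theorem codim_two_iff {φ : ι → K} (hφ : ∀ i, φ i ≠ 0) (P Q : Place k K) :
    Module.finrank k ↥(Submodule.span k (Set.range φ) ⊓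
        L (mapDiv k φ - Finsupp.single P 1 - Finsupp.single Q 1)) + 2 =
      Module.finrank k ↥(Submodule.span k (Set.range φ)) ↔
    ∃ f ∈ Submodule.span k (Set.range φ), f ∈ L (mapDiv k φ - Finsupp.single P 1) ∧
      f ∉ L (mapDiv k φ - Finsupp.single P 1 - Finsupp.single Q 1) := by
  have hdP := Place.deg_eq_one_of_isAlgClosed hK P
  have hdQ := Place.deg_eq_one_of_isAlgClosed hK Q
  set W := Submodule.span k (Set.range φ) with hW
  set D := mapDiv k φ with hD
  have hWfin : FiniteDimensional k W := FiniteDimensional.span_of_finite k (Set.finite_range φ)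
  have hWL : W ⊓ L D = W := inf_eq_left.2 (span_le_L_mapDiv hK φ)
  -- first step is always strict
  obtain ⟨j, hj⟩ := exists_isLeast φ hφ P
  have hjv := hj.v_eq_exp_mapDiv hK hφ
  have hjW : φ j ∈ W := Submodule.subset_span ⟨j, rfl⟩
  have h1 : Module.finrank k ↥(W ⊓ L (D - Finsupp.single P 1)) + 1 = Module.finrank k ↥W := by
    rcases finrank_inf_L_sub_single hK W D P hdP with ⟨h, -⟩ | ⟨-, h⟩
    · rw [hWL] at h; exact h
    · exfalso
      apply h
      refine ⟨φ j, by rw [hWL]; exact hjW, ?_⟩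
      rw [mem_L_sub_single_iff (span_le_L_mapDiv hK φ hjW), hjv, exp_le_exp]
      omega
  rcases finrank_inf_L_sub_single hK W (D - Finsupp.single P 1) Q hdQ with ⟨h, hex⟩ | ⟨h, hex⟩
  · constructor
    · intro _
      obtain ⟨f, hf, hfn⟩ := hex
      exact ⟨f, hf.1, hf.2, hfn⟩
    · intro _
      omega
  · constructor
    · intro h2
      omega
    · rintro ⟨f, hfW, hf1, hf2⟩
      exact absurd ⟨f, ⟨hfW, hf1⟩, hf2⟩ hex

include hK in
/-- Nonsingular iff the local ring is dominated only by `P` and contains a local parameter. -/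
theorem isNonsingularAt_iff_param {φ : ι → K} (hφ : ∀ i, φ i ≠ 0)
    (hnc : ∀ j, ∃ i, φ i / φ j ∉ Set.range (algebraMap k K)) (P : Place k K) :
    IsNonsingularAt φ P ↔
      (∀ Q : Place k K, (∀ z : K, InLocRing φ P z → Q.1 z ≤ 1) → Q = P) ∧
        ∃ t : K, InLocRing φ P t ∧ P.1 t = exp (-1) := by
  constructor
  · intro hns
    refine ⟨fun Q hQ => ?_, ?_⟩
    · symm
      apply Place.eq_of_O_le
      intro y hy
      exact hQ y (hns y hy)
    · obtain ⟨t, ht⟩ := P.exists_uniformizer
      exact ⟨t, hns t (by rw [ht, ← exp_zero, exp_le_exp]; norm_num), ht⟩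
  · rintro ⟨hdom, hpar⟩
    exact isNonsingularAt_of_param hK hφ hnc hdom hpar

include hK in
/-- Nonsingular iff sections separate `P` from every other place and some section vanishes
to order exactly one more than the minimum at `P`. -/
theorem isNonsingularAt_iff_sep {φ : ι → K} (hφ : ∀ i, φ i ≠ 0)
    (hnc : ∀ j, ∃ i, φ i / φ j ∉ Set.range (algebraMap k K)) (P : Place k K) :
    IsNonsingularAt φ P ↔
      (∀ Q : Place k K, Q ≠ P → ∃ f ∈ Submodule.span k (Set.range φ),
        P.1 f < exp (mapDiv k φ P) ∧ Q.1 f = exp (mapDiv k φ Q)) ∧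
      ∃ f ∈ Submodule.span k (Set.range φ), P.1 f = exp (mapDiv k φ P - 1) := by
  rw [isNonsingularAt_iff_param hK hφ hnc, dominated_iff hK hφ, exists_param_iff hK hφ]

include hK in
/-- Nonsingular iff vanishing at `P + Q` imposes two conditions on the span, for every `Q`. -/
theorem isNonsingularAt_iff_codim_two {φ : ι → K} (hφ : ∀ i, φ i ≠ 0)
    (hnc : ∀ j, ∃ i, φ i / φ j ∉ Set.range (algebraMap k K)) (P : Place k K) :
    IsNonsingularAt φ P ↔ ∀ Q : Place k K,
      Module.finrank k ↥(Submodule.span k (Set.range φ) ⊓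
          L (mapDiv k φ - Finsupp.single P 1 - Finsupp.single Q 1)) + 2 =
        Module.finrank k ↥(Submodule.span k (Set.range φ)) := by
  classical
  rw [isNonsingularAt_iff_sep hK hφ hnc]
  have hWL := span_le_L_mapDiv (k := k) hK φ
  constructor
  · rintro ⟨hsep, f0, hf0W, hf0v⟩ Q
    rw [codim_two_iff hK hφ]
    by_cases hQP : Q = P
    · subst hQP
      have h1 : f0 ∈ L (mapDiv k φ - Finsupp.single Q 1) := by
        rw [mem_L_sub_single_iff (hWL hf0W), hf0v]
      refine ⟨f0, hf0W, h1, ?_⟩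
      rw [mem_L_sub_single_iff h1, hf0v, Finsupp.sub_apply, Finsupp.single_eq_same, exp_le_exp]
      omega
    · obtain ⟨f, hfW, hfP, hfQ⟩ := hsep Q hQP
      have h1 : f ∈ L (mapDiv k φ - Finsupp.single P 1) := by
        rw [mem_L_sub_single_iff (hWL hfW)]
        exact P.v_le_exp_pred_of_lt hfP
      refine ⟨f, hfW, h1, ?_⟩
      rw [mem_L_sub_single_iff h1, hfQ, Finsupp.sub_apply, Finsupp.single_eq_of_ne hQP,
        exp_le_exp]
      omega
  · intro h
    constructor
    · intro Q hQP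
      obtain ⟨f, hfW, h1, h2⟩ := (codim_two_iff hK hφ P Q).1 (h Q)
      refine ⟨f, hfW, ?_, ?_⟩
      · have := (mem_L_sub_single_iff (hWL hfW) P).1 h1
        exact lt_of_le_of_lt this (by rw [exp_lt_exp]; omega)
      · rw [mem_L_sub_single_iff h1, Finsupp.sub_apply, Finsupp.single_eq_of_ne hQP,
          sub_zero] at h2
        have hle := hWL hfW Q
        have hf0 : f ≠ 0 := by
          rintro rfl
          rw [map_zero] at h2
          exact h2 zero_le
        rw [Q.v_le_exp_iff hf0] at h2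
        rw [Q.v_le_exp_iff hf0] at hle
        rw [Q.v_eq_exp_neg_ord hf0]
        congr 1
        omega
    · obtain ⟨f, hfW, h1, h2⟩ := (codim_two_iff hK hφ P P).1 (h P)
      refine ⟨f, hfW, ?_⟩
      have hle := (mem_L_sub_single_iff (hWL hfW) P).1 h1
      rw [mem_L_sub_single_iff h1, Finsupp.sub_apply, Finsupp.single_eq_same] at h2
      have hf0 : f ≠ 0 := by
        rintro rfl
        rw [map_zero] at h2
        exact h2 zero_le
      rw [P.v_le_exp_iff hf0] at h2
      rw [P.v_le_exp_iff hf0] at hle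
      rw [P.v_eq_exp_neg_ord hf0]
      congr 1
      omega

end criterion

/-- A linearly independent tuple with at least two entries has a nonconstant ratio over each
entry. -/
lemma nonconst_ratio_of_linearIndependent {n : ℕ} (hn : 1 ≤ n) {φ : Fin (n + 1) → K}
    (hφ : LinearIndependent k φ) (j : Fin (n + 1)) :
    ∃ i, φ i / φ j ∉ Set.range (algebraMap k K) := by
  have hφ0 : ∀ i, φ i ≠ 0 := fun i => hφ.ne_zero i
  obtain ⟨i, hij⟩ : ∃ i : Fin (n + 1), i ≠ j := by
    by_cases hj : j = 0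
    · exact ⟨1, by rw [hj]; intro h; have := congrArg Fin.val h; simp at this; omega⟩
    · exact ⟨0, fun h => hj h.symm⟩
  refine ⟨i, ?_⟩
  rintro ⟨c, hc⟩
  have h1 : φ i = c • φ j := by
    rw [Algebra.smul_def, hc, div_mul_cancel₀ _ (hφ0 j)]
  have h2 := hφ.notMem_span_image (s := {j}) (x := i) (by simpa using hij)
  apply h2
  rw [Set.image_singleton, h1]
  exact Submodule.smul_mem _ _ (Submodule.subset_span rfl)

end FunFld
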