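import Groth.Agent.Lib.Helper5.FunFld.FlagChain

/-! Genus zero: sections supported on two points, in the presence of a cusp (helper5). -/

set_option autoImplicit false

namespace FunFld

open WithZero Polynomial

variable {k K : Type*} [Field k] [Field K] [Algebra k K]

section

variable [IsAlgClosed k] (hK : IsFunctionField k K)

include hK in
/-- In genus zero, two distinct places are the zero and the pole of a coordinate. -/
theorem exists_isCoord_of_ne (hg : genus k K = 0) {P P' : Place k K} (hPP' : P ≠ P') :
    ∃ t : K, t ≠ 0 ∧ IsCoord P' t ∧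
      ∀ R : Place k K, R.ord t =
        (Finsupp.single P (1 : ℤ) - Finsupp.single P' (1 : ℤ) : Divisor k K) R := by
  classical
  have hdP := Place.deg_eq_one_of_isAlgClosed hK P
  have hdP' := Place.deg_eq_one_of_isAlgClosed hK P'
  obtain ⟨t, ht0, hdivt⟩ := exists_div_eq_of_deg_eq_zero hK hg
    (E := (Finsupp.single P (1 : ℤ) - Finsupp.single P' (1 : ℤ) : Divisor k K)) (by
      rw [Divisor.deg_sub, Divisor.deg_single, Divisor.deg_single, hdP, hdP']; norm_num)
  have hordt : ∀ R : Place k K, R.ord t =
      (Finsupp.single P (1 : ℤ) - Finsupp.single P' (1 : ℤ) : Divisor k K) R := by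
    intro R; rw [← div_apply hK, hdivt]
  refine ⟨t, ht0, ?_, hordt⟩
  have hvP' : P'.1 t = exp 1 := by
    rw [P'.v_eq_exp_neg_ord ht0, hordt, Finsupp.sub_apply, Finsupp.single_eq_same,
      Finsupp.single_eq_of_ne hPP'.symm]
    norm_num
  have hle : ∀ R : Place k K, R ≠ P' → R.1 t ≤ 1 := by
    intro R hR
    rw [R.v_le_one_iff ht0, hordt, Finsupp.sub_apply, Finsupp.single_eq_of_ne hR, sub_zero]
    by_cases hRP : R = P
    · subst hRP; rw [Finsupp.single_eq_same]; norm_num
    · rw [Finsupp.single_eq_of_ne hRP]
  have hnot : t ∉ Set.range (algebraMap k K) := by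
    rintro ⟨c, rfl⟩
    have := hordt P
    rw [Place.ord_algebraMap, Finsupp.sub_apply, Finsupp.single_eq_same,
      Finsupp.single_eq_of_ne hPP'] at this
    norm_num at this
  have htL : t ∈ L (Finsupp.single P' (1 : ℤ) : Divisor k K) := by
    intro R
    by_cases hR : R = P'
    · subst hR; rw [Finsupp.single_eq_same, hvP']
    · rw [Finsupp.single_eq_of_ne hR, exp_zero]; exact hle R hR
  refine ⟨hnot, hvP', hle, ?_⟩
  have h1 := deg_poleDiv hK hnot
  rw [poleDiv_eq_single hK (by norm_num) htL hvP', Divisor.deg_single, hdP'] at h1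
  have : ((Module.finrank (IntermediateField.adjoin k ({t} : Set K)) K : ℕ) : ℤ) = 1 := by
    rw [← h1]; norm_num
  exact_mod_cast this

include hK in
/-- In characteristic zero a function with divisor `m(P - P')` takes no value with multiplicity
at a third place. -/
theorem no_double_zero [CharZero k] (hg : genus k K = 0) {P P' Q : Place k K} (hPP' : P ≠ P')
    (hP : P ≠ Q) (hP' : P' ≠ Q) {h : K} (hh0 : h ≠ 0) {m : ℕ} (hm : 0 < m)
    (hord : ∀ R : Place k K, R.ord h =
      m * (Finsupp.single P (1 : ℤ) - Finsupp.single P' (1 : ℤ) : Divisor k K) R)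
    {α β : k} (hv : Q.1 (algebraMap k K α + algebraMap k K β * h) ≤ exp (-2)) :
    α = 0 ∧ β = 0 := by
  classical
  obtain ⟨t, ht0, htc, hordt⟩ := exists_isCoord_of_ne hK hg hPP'
  obtain ⟨a, ha⟩ := htc.exists_param hK hP'.symm
  have hQt : Q.1 t = 1 := by
    rw [Q.v_eq_one_iff ht0, hordt, Finsupp.sub_apply, Finsupp.single_eq_of_ne hP.symm,
      Finsupp.single_eq_of_ne hP'.symm]
    norm_num
  have ha0 : a ≠ 0 := by
    rintro rfl
    rw [map_zero, sub_zero, hQt, ← exp_zero, exp_inj] at ha
    norm_num at ha
  obtain ⟨e, he⟩ := exists_smul_eq_of_ord_eq hK hh0 (pow_ne_zero m ht0) (fun R => by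
    rw [hord, R.ord_pow, hordt])
  have he0 : e ≠ 0 := by
    rintro rfl
    rw [zero_smul] at he
    exact hh0 he
  set F : k[X] := C α + C (β * e) * X ^ m with hF
  have hFt : aeval t F = algebraMap k K α + algebraMap k K β * h := by
    rw [hF, he, Algebra.smul_def]
    simp only [map_add, map_mul, aeval_C, map_pow, aeval_X]
    ring
  rw [← hFt] at hv
  have hdvd := (Q.v_aeval_le_exp_neg_iff ha F 2).1 (by exact_mod_cast hv)
  obtain ⟨G, hG⟩ := hdvd
  have h1 : F.eval a = 0 := by rw [hG]; simp
  have h2 : (derivative F).eval a = 0 := by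
    rw [hG, derivative_mul]
    simp [derivative_pow]
  have h3 : derivative F = C (β * e) * (C (m : k) * X ^ (m - 1)) := by
    rw [hF]
    simp only [derivative_add, derivative_C, zero_add, derivative_mul, zero_mul, derivative_X_pow]
  rw [h3] at h2
  simp only [eval_mul, eval_C, eval_pow, eval_X] at h2
  have hm0 : (m : k) ≠ 0 := Nat.cast_ne_zero.2 (by omega)
  have hβ : β = 0 := by
    rcases mul_eq_zero.1 h2 with h | h
    · rcases mul_eq_zero.1 h with h | h
      · exact h
      · exact absurd h he0
    · rcases mul_eq_zero.1 h with h | h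
      · exact absurd h hm0
      · exact absurd h (pow_ne_zero _ ha0)
  refine ⟨?_, hβ⟩
  rw [hF, hβ] at h1
  simpa using h1

include hK in
/-- With a cusp at `Q`, at most one member of `V` (up to scalars) has its divisor supported on
two given places away from `Q`. -/
theorem cusp_unique_section [CharZero k] (hg0 : genus k K = 0) {r : ℕ}
    {D : Divisor k K} {V : Submodule k K}
    (hVr : Module.finrank k ↥V = r + 1) {Q : Place k K}
    (hcusp : r ≤ Module.finrank k ↥(V ⊓ L (D - Finsupp.single Q ((2 : ℤ)))))
    {P P' : Place k K} (hP : P ≠ Q) (hP' : P' ≠ Q)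
    {f g : K} (hf : f ∈ V) (hg : g ∈ V) (hf0 : f ≠ 0) (hg0' : g ≠ 0)
    (hfs : ∀ R : Place k K, R ≠ P → R ≠ P' → (div k f + D) R = 0)
    (hgs : ∀ R : Place k K, R ≠ P → R ≠ P' → (div k g + D) R = 0) :
    ∃ c : k, g = c • f := by
  classical
  by_contra hne
  have hfinV : FiniteDimensional k V := Module.finite_of_finrank_pos (by omega)
  have hli : LinearIndependent k ![f, g] := by
    rw [LinearIndependent.pair_iff]
    intro s t hst
    by_cases ht : t = 0
    · subst ht
      rw [zero_smul, add_zero] at hst
      rcases smul_eq_zero.1 hst with h | h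
      · exact ⟨h, rfl⟩
      · exact absurd h hf0
    · exfalso
      apply hne
      refine ⟨-(t⁻¹ * s), ?_⟩
      have : t • g = -(s • f) := eq_neg_of_add_eq_zero_right hst
      calc g = t⁻¹ • (t • g) := by rw [smul_smul, inv_mul_cancel₀ ht, one_smul]
        _ = _ := by rw [this, smul_neg, smul_smul, neg_smul]
  set S : Submodule k K := Submodule.span k (Set.range ![f, g]) with hS
  set W : Submodule k K := V ⊓ L (D - Finsupp.single Q ((2 : ℤ))) with hW
  have hSV : S ≤ V := by
    rw [hS, Submodule.span_le]
    rintro _ ⟨i, rfl⟩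
    fin_cases i
    · exact hf
    · exact hg
  have hWV : W ≤ V := inf_le_left
  have hfinS : FiniteDimensional k S := Submodule.finiteDimensional_of_le hSV
  have hfinW : FiniteDimensional k W := Submodule.finiteDimensional_of_le hWV
  have hS2 : Module.finrank k S = 2 := by
    rw [hS, finrank_span_eq_card hli]; simp
  have h1 := Submodule.finrank_sup_add_finrank_inf_eq S W
  have h2 : Module.finrank k ↥(S ⊔ W) ≤ r + 1 := by
    rw [← hVr]; exact Submodule.finrank_mono (sup_le hSV hWV)
  have h3 : 0 < Module.finrank k ↥(S ⊓ W) := by omega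
  have hfinSW : FiniteDimensional k ↥(S ⊓ W) := Submodule.finiteDimensional_of_le inf_le_left
  rw [Module.finrank_pos_iff, Submodule.nontrivial_iff_ne_bot, Submodule.ne_bot_iff] at h3
  obtain ⟨x, ⟨hxS, hxW⟩, hx0⟩ := h3
  have hrange : Set.range ![f, g] = {f, g} := by
    ext y; simp [eq_comm, or_comm]
  rw [hS, hrange] at hxS
  obtain ⟨α, β, hx⟩ := Submodule.mem_span_pair.1 hxS
  -- the quotient
  set h : K := g / f with hh
  have hh0 : h ≠ 0 := div_ne_zero hg0' hf0
  have hordh : ∀ R : Place k K, R ≠ P → R ≠ P' → R.ord h = 0 := by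
    intro R h1 h2
    have e1 := hfs R h1 h2
    have e2 := hgs R h1 h2
    rw [Finsupp.add_apply, div_apply hK] at e1 e2
    rw [hh, R.ord_div hg0' hf0]
    omega
  have hQf : Q.1 f = exp (D Q) := by
    have e1 := hfs Q hP.symm hP'.symm
    rw [Finsupp.add_apply, div_apply hK] at e1
    rw [Q.v_eq_exp_neg_ord hf0]
    congr 1; omega
  have hv : Q.1 (algebraMap k K α + algebraMap k K β * h) ≤ exp (-2) := by
    have e : algebraMap k K α + algebraMap k K β * h = x / f := by
      rw [← hx, hh, Algebra.smul_def, Algebra.smul_def]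
      field_simp
    rw [e, map_div₀, hQf]
    have := hxW.2 Q
    rw [Finsupp.sub_apply, Finsupp.single_eq_same] at this
    rw [div_le_iff₀ exp_pos, ← exp_add]
    convert this using 2
    ring
  have hconst : (∀ R : Place k K, R.ord h = 0) → False := by
    intro hall
    obtain ⟨c, hc⟩ := exists_smul_eq_of_ord_eq hK hh0 one_ne_zero (fun R => by
      rw [hall, Place.ord_one])
    apply hne
    refine ⟨c, ?_⟩
    have : g = h * f := by rw [hh]; field_simp
    rw [this, hc, Algebra.smul_def, Algebra.smul_def, mul_one]
  have hdeg := deg_div hK h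
  have hdP := Place.deg_eq_one_of_isAlgClosed hK P
  have hdP' := Place.deg_eq_one_of_isAlgClosed hK P'
  have hab : α = 0 ∧ β = 0 := by
    by_cases hPP' : P = P'
    · subst hPP'
      exfalso
      rw [Divisor.deg_eq_sum_of_support_subset (div k h) {P} (by
        intro R hR
        rw [Finset.mem_singleton]
        by_contra hRP
        rw [Finsupp.mem_support_iff, div_apply hK] at hR
        exact hR (hordh R hRP hRP)), Finset.sum_singleton, hdP, div_apply hK] at hdeg
      apply hconst
      intro R
      by_cases hR : R = P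
      · subst hR; simpa using hdeg
      · exact hordh R hR hR
    · rw [Divisor.deg_eq_sum_of_support_subset (div k h) {P, P'} (by
        intro R hR
        rw [Finset.mem_insert, Finset.mem_singleton]
        by_contra hRP
        rw [not_or] at hRP
        rw [Finsupp.mem_support_iff, div_apply hK] at hR
        exact hR (hordh R hRP.1 hRP.2)), Finset.sum_pair hPP', hdP, hdP', div_apply hK,
        div_apply hK] at hdeg
      simp only [Nat.cast_one, mul_one] at hdeg
      rcases lt_trichotomy (P.ord h) 0 with hm | hm | hm
      · refine no_double_zero hK hg0 (Ne.symm hPP') hP' hP hh0 (m := (-(P.ord h)).toNat)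
          (by omega) ?_ hv
        intro R
        rw [Int.toNat_of_nonneg (by omega), Finsupp.sub_apply]
        by_cases hR : R = P
        · subst hR
          rw [Finsupp.single_eq_same, Finsupp.single_eq_of_ne hPP']; ring
        · by_cases hR' : R = P'
          · subst hR'
            rw [Finsupp.single_eq_same, Finsupp.single_eq_of_ne hR]
            linarith
          · rw [Finsupp.single_eq_of_ne hR, Finsupp.single_eq_of_ne hR', hordh R hR hR']
            ring
      · exfalso
        apply hconst
        intro R
        by_cases hR : R = P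
        · subst hR; exact hm
        · by_cases hR' : R = P'
          · subst hR'; omega
          · exact hordh R hR hR'
      · refine no_double_zero hK hg0 hPP' hP hP' hh0 (m := (P.ord h).toNat)
          (by omega) ?_ hv
        intro R
        rw [Int.toNat_of_nonneg (by omega), Finsupp.sub_apply]
        by_cases hR : R = P
        · subst hR
          rw [Finsupp.single_eq_same, Finsupp.single_eq_of_ne hPP']; ring
        · by_cases hR' : R = P'
          · subst hR'
            rw [Finsupp.single_eq_same, Finsupp.single_eq_of_ne hR]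
            linarith
          · rw [Finsupp.single_eq_of_ne hR, Finsupp.single_eq_of_ne hR', hordh R hR hR']
            ring
  apply hx0
  rw [← hx, hab.1, hab.2, zero_smul, zero_smul, add_zero]

end

end FunFld
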