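import Groth.Agent.Lib.Helper5.FunFld.FF
import Mathlib.Order.Fin.Basic
import Mathlib.Data.Finset.Sort

/-! Every valuation ring of a function field containing `k` is discrete (helper5). -/

set_option autoImplicit false

namespace FunFld

open WithZero

variable {k K : Type*} [Field k] [Field K] [Algebra k K]

section chain

variable {Γ₀ : Type*} [LinearOrderedCommGroupWithZero Γ₀] (v : Valuation K Γ₀)

/-- A `k`-combination of elements with strictly increasing values has the value of the last
element with nonzero coefficient; in particular at least the value of the first element. -/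
lemma le_v_sum_of_strictMono (hv : ∀ c : k, v (algebraMap k K c) ≤ 1) {n : ℕ} (y : Fin (n + 1) → K)
    (hmono : StrictMono (fun i => v (y i))) (hpos : ∀ i, 0 < v (y i))
    (a : Fin (n + 1) → k) (ha : a ≠ 0) : v (y 0) ≤ v (∑ i, a i • y i) := by
  classical
  have hS : (Finset.univ.filter fun i => a i ≠ 0).Nonempty := by
    by_contra h
    rw [Finset.not_nonempty_iff_eq_empty] at h
    apply ha
    funext i
    by_contra hi
    have : i ∈ (Finset.univ.filter fun i => a i ≠ 0) := by
      simp only [Finset.mem_filter, Finset.mem_univ, true_and]; exact hi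
    rw [h] at this
    simp at this
  set j := (Finset.univ.filter fun i => a i ≠ 0).max' hS with hj
  have hjmem : j ∈ (Finset.univ.filter fun i => a i ≠ 0) := Finset.max'_mem _ hS
  have haj : a j ≠ 0 := by simpa using hjmem
  have hvj : v (a j • y j) = v (y j) := by
    rw [Algebra.smul_def, map_mul, v_algebraMap_eq_one v hv haj, one_mul]
  have hrest : v (∑ i ∈ Finset.univ.erase j, a i • y i) < v (y j) := by
    refine Valuation.map_sum_lt v (hpos j).ne' (fun i hi => ?_)
    have hij : i ≠ j := Finset.ne_of_mem_erase hi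
    by_cases hai : a i = 0
    · rw [hai, zero_smul, map_zero]; exact hpos j
    · have hile : i ≤ j := Finset.le_max' _ _ (by simp [hai])
      have hlt : i < j := lt_of_le_of_ne hile hij
      rw [Algebra.smul_def, map_mul, v_algebraMap_eq_one v hv hai, one_mul]
      exact hmono hlt
  have hsum : ∑ i, a i • y i = a j • y j + ∑ i ∈ Finset.univ.erase j, a i • y i :=
    (Finset.add_sum_erase _ _ (Finset.mem_univ j)).symm
  rw [hsum, Valuation.map_add_eq_of_lt_left v (by rwa [hvj]), hvj]
  exact hmono.monotone (Fin.zero_le j)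

lemma card_le_of_strictMono (hv : ∀ c : k, v (algebraMap k K c) ≤ 1) {x : K} (hx0 : x ≠ 0)
    (hx1 : v x < 1) [FiniteDimensional (IntermediateField.adjoin k ({x} : Set K)) K] {n : ℕ}
    (y : Fin n → K) (hmono : StrictMono (fun i => v (y i))) (hlo : ∀ i, v x ≤ v (y i))
    (hhi : ∀ i, v (y i) < 1) :
    n ≤ Module.finrank (IntermediateField.adjoin k ({x} : Set K)) K := by
  rcases n with _ | n
  · exact Nat.zero_le _
  have hxpos : 0 < v x := by
    rw [pos_iff_ne_zero]; exact (Valuation.ne_zero_iff v).2 hx0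
  have hpos : ∀ i, 0 < v (y i) := fun i => lt_of_lt_of_le hxpos (hlo i)
  have := card_le_finrank_of_window v hv hx0 hx1 y (v (y 0)) (v (y (Fin.last n)))
    (fun a ha => le_v_sum_of_strictMono v hv y hmono hpos a ha)
    (fun i => hmono.monotone (Fin.le_last i))
    (lt_of_lt_of_le (by
      calc v x * v (y (Fin.last n)) < v x * 1 := by
            exact mul_lt_mul_of_pos_left (hhi _) hxpos
        _ = v x := mul_one _) (hlo 0))
  simpa using this

/-- The set of values of `v` in the window `[v x, 1)` is finite. -/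
lemma finite_values_window (hv : ∀ c : k, v (algebraMap k K c) ≤ 1) {x : K} (hx0 : x ≠ 0)
    (hx1 : v x < 1) [FiniteDimensional (IntermediateField.adjoin k ({x} : Set K)) K] :
    {γ : Γ₀ | γ ∈ Set.range v ∧ v x ≤ γ ∧ γ < 1}.Finite := by
  classical
  by_contra hinf
  rw [← Set.Infinite] at hinf
  obtain ⟨t, htsub, htcard⟩ := hinf.exists_subset_card_eq
    (Module.finrank (IntermediateField.adjoin k ({x} : Set K)) K + 1)
  let e := t.orderEmbOfFin htcard
  have hmem : ∀ i, e i ∈ {γ : Γ₀ | γ ∈ Set.range v ∧ v x ≤ γ ∧ γ < 1} := fun i =>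
    htsub (Finset.orderEmbOfFin_mem t htcard i)
  choose y hy using fun i => (hmem i).1
  have h1 := card_le_of_strictMono v hv hx0 hx1 y
    (by
      intro i j hij
      simp only [hy]
      exact e.strictMono hij)
    (fun i => by rw [hy]; exact (hmem i).2.1) (fun i => by rw [hy]; exact (hmem i).2.2)
  omega

end chain

section construct

variable {Γ₀ : Type*} [LinearOrderedCommGroupWithZero Γ₀] (v : Valuation K Γ₀)

/-- If every nonzero value of `v` is an integer power of `v t < 1`, then `v` is equivalent to a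
normalised `ℤᵐ⁰`-valued valuation. -/
theorem exists_int_valuation (t : K) (ht0 : t ≠ 0) (ht1 : v t < 1)
    (hpow : ∀ y, y ≠ 0 → ∃ n : ℤ, v y = v t ^ n) :
    ∃ w : Valuation K (WithZero (Multiplicative ℤ)),
      (∀ y, w y ≤ 1 ↔ v y ≤ 1) ∧ w t = exp (-1 : ℤ) := by
  classical
  choose n hn using hpow
  have hpos : 0 < v t := by
    rw [pos_iff_ne_zero]; exact (Valuation.ne_zero_iff v).2 ht0
  have hinj : Function.Injective (fun m : ℤ => v t ^ m) :=
    zpow_right_injective₀ hpos (ne_of_lt ht1)
  let N : K → ℤ := fun y => if h : y = 0 then 0 else n y h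
  have hN : ∀ y, y ≠ 0 → v y = v t ^ N y := fun y hy => by
    simp only [N, dif_neg hy]; exact hn y hy
  have hN1 : N 1 = 0 := hinj (by
    simp only
    rw [← hN 1 one_ne_zero, map_one, zpow_zero])
  have hNt : N t = 1 := hinj (by
    simp only
    rw [← hN t ht0, zpow_one])
  have hNmul : ∀ y z, y ≠ 0 → z ≠ 0 → N (y * z) = N y + N z := fun y z hy hz => hinj (by
    simp only
    rw [← hN _ (mul_ne_zero hy hz), map_mul, hN y hy, hN z hz, zpow_add₀ hpos.ne'])
  have hNle : ∀ y z, y ≠ 0 → z ≠ 0 → (v y ≤ v z ↔ N z ≤ N y) := fun y z hy hz => by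
    rw [hN y hy, hN z hz]; exact zpow_le_zpow_iff_right_of_lt_one₀ hpos ht1
  refine ⟨{ toFun := fun y => if y = 0 then 0 else exp (-(N y))
            map_zero' := by simp
            map_one' := by simp [hN1]
            map_mul' := ?_
            map_add_le_max' := ?_ }, ?_, ?_⟩
  · intro y z
    by_cases hy : y = 0
    · simp [hy]
    by_cases hz : z = 0
    · simp [hz]
    simp only [hy, hz, mul_ne_zero hy hz, if_false, mul_eq_zero, or_self]
    rw [hNmul y z hy hz, neg_add, exp_add]
  · intro y z
    by_cases hy : y = 0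
    · simp [hy]
    by_cases hz : z = 0
    · simp [hz]
    by_cases hyz : y + z = 0
    · simp [hyz]
    simp only [hy, hz, hyz, if_false]
    rcases v.map_add' y z with h | h
    · refine le_max_of_le_left ?_
      rw [exp_le_exp, neg_le_neg_iff]
      exact (hNle _ _ hyz hy).1 h
    · refine le_max_of_le_right ?_
      rw [exp_le_exp, neg_le_neg_iff]
      exact (hNle _ _ hyz hz).1 h
  · intro y
    by_cases hy : y = 0
    · simp [hy]
    change (if y = 0 then (0 : WithZero (Multiplicative ℤ)) else exp (-(N y))) ≤ 1 ↔ _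
    rw [if_neg hy, ← exp_zero, exp_le_exp]
    have := hNle y 1 hy one_ne_zero
    rw [map_one, hN1] at this
    rw [this]; constructor <;> intro h <;> linarith
  · change (if t = 0 then (0 : WithZero (Multiplicative ℤ)) else exp (-(N t))) = _
    rw [if_neg ht0, hNt]

end construct

section disc

variable (hK : IsFunctionField k K) (O : ValuationSubring K)
  (hk : ∀ c : k, algebraMap k K c ∈ O) (hO : O ≠ ⊤)

include hk in
lemma valuationSubring_v_algebraMap_le (c : k) : O.valuation (algebraMap k K c) ≤ 1 :=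
  (O.valuation_le_one_iff _).2 (hk c)

include hO in
lemma valuationSubring_exists_nonunit : ∃ x : K, x ≠ 0 ∧ O.valuation x < 1 := by
  obtain ⟨y, hy⟩ : ∃ y : K, y ∉ O := by
    by_contra h
    apply hO
    rw [eq_top_iff]
    intro y _
    by_contra hy
    exact h ⟨y, hy⟩
  have hy1 : 1 < O.valuation y := by
    rw [← not_le, O.valuation_le_one_iff]; exact hy
  have hy0 : y ≠ 0 := by rintro rfl; exact hy O.zero_mem
  refine ⟨y⁻¹, inv_ne_zero hy0, ?_⟩
  rw [map_inv₀, inv_lt_one₀ (lt_trans zero_lt_one hy1)]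
  exact hy1

include hK hk hO in
lemma valuationSubring_exists_max : ∃ t : K, t ≠ 0 ∧ O.valuation t < 1 ∧
    ∀ y, O.valuation y < 1 → O.valuation y ≤ O.valuation t := by
  classical
  obtain ⟨x, hx0, hx1⟩ := valuationSubring_exists_nonunit O hO
  have hv := valuationSubring_v_algebraMap_le O hk
  have := hK.finiteDimensional_adjoin' (notMem_range_of_v_lt_one _ hv hx0 hx1)
  have hfin := finite_values_window O.valuation hv hx0 hx1
  have hne : hfin.toFinset.Nonempty := ⟨O.valuation x, by
    rw [Set.Finite.mem_toFinset]; exact ⟨⟨x, rfl⟩, le_rfl, hx1⟩⟩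
  have hmem := Finset.max'_mem _ hne
  rw [Set.Finite.mem_toFinset] at hmem
  obtain ⟨⟨t, ht⟩, hlo, hhi⟩ := hmem
  have hxpos : 0 < O.valuation x := by
    rw [pos_iff_ne_zero]; exact (Valuation.ne_zero_iff _).2 hx0
  refine ⟨t, ?_, by rw [ht]; exact hhi, ?_⟩
  · rintro rfl
    rw [map_zero] at ht
    rw [← ht] at hlo
    exact absurd (lt_of_lt_of_le hxpos hlo) (lt_irrefl _)
  · intro y hy
    rw [ht]
    by_cases hxy : O.valuation x ≤ O.valuation y
    · exact Finset.le_max' _ _ (by
        rw [Set.Finite.mem_toFinset]; exact ⟨⟨y, rfl⟩, hxy, hy⟩)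
    · exact (lt_of_not_ge hxy).le.trans hlo

include hK hk in
lemma valuationSubring_exists_pow (t : K) (ht0 : t ≠ 0) (ht1 : O.valuation t < 1)
    (hmax : ∀ y, O.valuation y < 1 → O.valuation y ≤ O.valuation t) (y : K) (hy0 : y ≠ 0)
    (hy1 : O.valuation y < 1) : ∃ n : ℕ, O.valuation y = O.valuation t ^ n := by
  classical
  have hv := valuationSubring_v_algebraMap_le O hk
  have := hK.finiteDimensional_adjoin' (notMem_range_of_v_lt_one _ hv hy0 hy1)
  have hfin := finite_values_window O.valuation hv hy0 hy1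
  have htpos : 0 < O.valuation t := by
    rw [pos_iff_ne_zero]; exact (Valuation.ne_zero_iff _).2 ht0
  have hex : ∃ j : ℕ, O.valuation t ^ j < O.valuation y := by
    by_contra hall
    have hall' : ∀ j : ℕ, O.valuation y ≤ O.valuation t ^ j := fun j =>
      not_lt.1 (fun h => hall ⟨j, h⟩)
    have hinj : Function.Injective (fun j : ℕ => O.valuation t ^ (j + 1)) := by
      intro a b hab
      by_contra hne
      rcases lt_or_gt_of_ne hne with h | h
      · exact absurd hab (ne_of_gt (pow_lt_pow_right_of_lt_one₀ htpos ht1 (by omega)))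
      · exact absurd hab (ne_of_lt (pow_lt_pow_right_of_lt_one₀ htpos ht1 (by omega)))
    refine Set.infinite_of_injective_forall_mem hinj (fun j => ?_) hfin
    refine ⟨⟨t ^ (j + 1), by simp⟩, hall' _, ?_⟩
    exact pow_lt_one₀ htpos.le ht1 (by omega)
  have hj0 := Nat.find_spec hex
  have hjmin := fun m => Nat.find_min hex (m := m)
  set j₀ := Nat.find hex with hj₀
  rcases Nat.eq_zero_or_pos j₀ with h0 | hpos
  · rw [h0, pow_zero] at hj0
    exact absurd (lt_trans hj0 hy1) (lt_irrefl _)
  obtain ⟨j₁, hj₁⟩ : ∃ j₁, j₀ = j₁ + 1 := ⟨j₀ - 1, by omega⟩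
  have hle : O.valuation y ≤ O.valuation t ^ j₁ := not_lt.1 (hjmin j₁ (by omega))
  refine ⟨j₁, le_antisymm hle ?_⟩
  by_contra hlt
  rw [not_le] at hlt
  have hu : O.valuation (y / t ^ j₁) < 1 := by
    rw [map_div₀, map_pow, div_lt_one₀ (pow_pos htpos _)]; exact hlt
  have := hmax _ hu
  rw [map_div₀, map_pow, div_le_iff₀ (pow_pos htpos _), ← pow_succ'] at this
  rw [hj₁] at hj0
  exact absurd (lt_of_lt_of_le hj0 this) (lt_irrefl _)

include hK hk hO in
/-- Every valuation subring of a function field containing `k`, other than `K`, is the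
valuation ring of a place. -/
theorem exists_place_of_valuationSubring : ∃ P : Place k K, P.O = O := by
  obtain ⟨t, ht0, ht1, hmax⟩ := valuationSubring_exists_max hK O hk hO
  have htpos : 0 < O.valuation t := by
    rw [pos_iff_ne_zero]; exact (Valuation.ne_zero_iff _).2 ht0
  have hpow : ∀ y, y ≠ 0 → ∃ n : ℤ, O.valuation y = O.valuation t ^ n := by
    intro y hy0
    rcases lt_trichotomy (O.valuation y) 1 with h | h | h
    · obtain ⟨n, hn⟩ := valuationSubring_exists_pow hK O hk t ht0 ht1 hmax y hy0 h
      exact ⟨n, by rw [hn, zpow_natCast]⟩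
    · exact ⟨0, by rw [h, zpow_zero]⟩
    · have h' : O.valuation y⁻¹ < 1 := by
        rw [map_inv₀, inv_lt_one₀ (lt_trans zero_lt_one h)]; exact h
      obtain ⟨n, hn⟩ := valuationSubring_exists_pow hK O hk t ht0 ht1 hmax y⁻¹
        (inv_ne_zero hy0) h'
      refine ⟨-n, ?_⟩
      rw [zpow_neg, zpow_natCast, ← hn, map_inv₀, inv_inv]
  obtain ⟨w, hw1, hwt⟩ := exists_int_valuation O.valuation t ht0 ht1 hpow
  refine ⟨⟨w, ?_, ?_⟩, ?_⟩
  · intro c
    rw [hw1]
    exact valuationSubring_v_algebraMap_le O hk c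
  · intro γ
    induction γ using WithZero.expRecOn with
    | zero => exact ⟨0, map_zero _⟩
    | exp a =>
      refine ⟨t ^ (-a), ?_⟩
      rw [map_zpow₀, hwt, ← exp_zsmul]
      simp
  · ext y
    rw [Valuation.mem_valuationSubring_iff]
    change w y ≤ 1 ↔ _
    rw [hw1, O.valuation_le_one_iff]

end disc

end FunFld
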