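import Groth.Agent.Lib.Helper5.FunFld.RRCalc

/-! Hyperplanes `L((g-2)A) ⊆ V₁ ⊆ L(gA)` on a curve of genus one: weights (helper5). -/

set_option autoImplicit false

namespace FunFld

open WithZero

variable {k K : Type*} [Field k] [Field K] [Algebra k K]

section

variable [IsAlgClosed k] (hK : IsFunctionField k K) (hg1 : genus k K = 1)

include hK hg1 in
/-- In genus one `ℓ(D) = deg D` for `deg D ≥ 1`. -/
lemma ell_eq_deg_of_genus_one {D : Divisor k K} (hD : 1 ≤ D.deg) : (ell D : ℤ) = D.deg := by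
  have := ell_eq_of_large_deg hK (D := D) (by rw [hg1]; simpa using hD)
  rw [this, hg1]; push_cast; ring

include hK hg1 in
lemma ell_single_genus_one (A : Place k K) (j : ℕ) (hj : 1 ≤ j) :
    ell (Finsupp.single A (j : ℤ) : Divisor k K) = j := by
  have := ell_eq_deg_of_genus_one hK hg1 (D := (Finsupp.single A (j : ℤ) : Divisor k K))
    (by rw [deg_single' hK]; exact_mod_cast hj)
  rw [deg_single' hK] at this
  exact_mod_cast this

lemma sum_range_ite_zero (N : ℕ) :
    ∑ j ∈ Finset.range (N + 1), (if j = 0 then 1 else j) = 1 + (N + 1).choose 2 := by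
  induction N with
  | zero => simp
  | succ N ih =>
    rw [Finset.sum_range_succ, ih, if_neg (by omega)]
    have : (N + 1 + 1).choose 2 = (N + 1).choose 1 + (N + 1).choose 2 := Nat.choose_succ_succ' _ _
    rw [this, Nat.choose_one_right]
    ring

include hK hg1 in
/-- S17248 with `g = m + 3`. -/
theorem weight_at_pole_aux (m : ℕ) (A : Place k K) (V₁ : Submodule k K)
    (hlo : L (Finsupp.single A ((m : ℤ) + 1)) ≤ V₁)
    (hhi : V₁ ≤ L (Finsupp.single A ((m : ℤ) + 3)))
    (hdim : Module.finrank k ↥V₁ = m + 2) :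
    ∃ ε : ℕ, ε ≤ 1 ∧
      ∑ j ∈ Finset.range (2 * m + 4),
        Module.finrank k ↥(V₁ ⊓ L (Finsupp.single A (j : ℤ) : Divisor k K)) =
      (m + 2).choose 2 + (m + 2) ^ 2 + ε := by
  have hfinV : FiniteDimensional k V₁ := Module.finite_of_finrank_pos (by omega)
  -- low range
  have hF_lo : ∀ j : ℕ, j < m + 2 →
      Module.finrank k ↥(V₁ ⊓ L (Finsupp.single A (j : ℤ) : Divisor k K)) =
        if j = 0 then 1 else j := by
    intro j hj
    have hle : L (Finsupp.single A (j : ℤ) : Divisor k K) ≤ V₁ :=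
      (L_mono (single_mono A (by push_cast; omega))).trans hlo
    rw [inf_eq_right.2 hle]
    split_ifs with h0
    · subst h0
      have : (Finsupp.single A ((0 : ℕ) : ℤ) : Divisor k K) = 0 := by simp
      rw [this]
      exact ell_zero hK
    · exact ell_single_genus_one hK hg1 A j (by omega)
  -- high range
  have hF_hi : ∀ i : ℕ,
      Module.finrank k ↥(V₁ ⊓ L (Finsupp.single A ((m + 3 + i : ℕ) : ℤ) : Divisor k K)) =
        m + 2 := by
    intro i
    have hle : V₁ ≤ L (Finsupp.single A ((m + 3 + i : ℕ) : ℤ) : Divisor k K) :=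
      hhi.trans (L_mono (single_mono A (by push_cast; omega)))
    rw [inf_eq_left.2 hle, hdim]
  -- middle
  set F := Module.finrank k ↥(V₁ ⊓ L (Finsupp.single A ((m + 2 : ℕ) : ℤ) : Divisor k K)) with hF
  have hmid1 : m + 1 ≤ F := by
    have hle : L (Finsupp.single A ((m : ℤ) + 1) : Divisor k K) ≤
        V₁ ⊓ L (Finsupp.single A ((m + 2 : ℕ) : ℤ) : Divisor k K) :=
      le_inf hlo (L_mono (single_mono A (by push_cast; omega)))
    have h1 := Submodule.finrank_mono hle
    have h2 := ell_single_genus_one hK hg1 A (m + 1) (by omega)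
    have h3 : Module.finrank k ↥(L (Finsupp.single A ((m : ℤ) + 1) : Divisor k K)) = m + 1 := by
      have : ((m + 1 : ℕ) : ℤ) = (m : ℤ) + 1 := by push_cast; ring
      rw [this] at h2
      exact h2
    omega
  have hmid2 : F ≤ m + 2 := by
    have h1 := Submodule.finrank_mono (inf_le_left :
      V₁ ⊓ L (Finsupp.single A ((m + 2 : ℕ) : ℤ) : Divisor k K) ≤ V₁)
    omega
  refine ⟨F - (m + 1), by omega, ?_⟩
  have hsplit : 2 * m + 4 = (m + 2 + 1) + (m + 1) := by ring
  have hs1 : ∑ j ∈ Finset.range (m + 1 + 1),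
      Module.finrank k ↥(V₁ ⊓ L (Finsupp.single A (j : ℤ) : Divisor k K)) =
      1 + (m + 1 + 1).choose 2 := by
    rw [← sum_range_ite_zero]
    exact Finset.sum_congr rfl (fun j hj => hF_lo j (Finset.mem_range.1 hj))
  have hs2 : ∑ i ∈ Finset.range (m + 1),
      Module.finrank k ↥(V₁ ⊓ L (Finsupp.single A ((m + 2 + 1 + i : ℕ) : ℤ) : Divisor k K)) =
      (m + 1) * (m + 2) := by
    rw [Finset.sum_const_nat (m := m + 2), Finset.card_range]
    intro i _
    have : m + 2 + 1 + i = m + 3 + i := by ring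
    rw [this]; exact hF_hi i
  rw [hsplit, Finset.sum_range_add, Finset.sum_range_succ, hs1, hs2, ← hF]
  have : F = m + 1 + (F - (m + 1)) := by omega
  generalize F - (m + 1) = ε at this
  rw [this]
  ring

include hK hg1 in
/-- S17248. -/
theorem weight_at_pole_17248 (g : ℕ) (h3 : 3 ≤ g) (A : Place k K)
    (V₁ : Submodule k K) (hlo : L (Finsupp.single A ((g : ℤ) - 2)) ≤ V₁)
    (hhi : V₁ ≤ L (Finsupp.single A (g : ℤ))) (hdim : Module.finrank k ↥V₁ + 1 = g) :
    ∃ ε : ℕ, ε ≤ 1 ∧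
      (∑ n ∈ Finset.range (2 * g - 2), Module.finrank k
        ↥(V₁ ⊓ L (Finsupp.single A (2 * (g : ℤ) - 2) - Finsupp.single A ((n : ℤ) + 1)))) =
      (g - 1).choose 2 + (g - 1) ^ 2 + ε := by
  obtain ⟨m, rfl⟩ : ∃ m, g = m + 3 := ⟨g - 3, by omega⟩
  have e1 : (((m + 3 : ℕ) : ℤ) - 2) = (m : ℤ) + 1 := by push_cast; ring
  have e2 : ((m + 3 : ℕ) : ℤ) = (m : ℤ) + 3 := by push_cast; ring
  rw [e1] at hlo
  rw [e2] at hhi
  obtain ⟨ε, hε, hsum⟩ := weight_at_pole_aux hK hg1 m A V₁ hlo hhi (by omega)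
  refine ⟨ε, hε, ?_⟩
  have e3 : 2 * (m + 3) - 2 = 2 * m + 4 := by omega
  have e4 : m + 3 - 1 = m + 2 := by omega
  rw [e3, e4, ← hsum, ← Finset.sum_range_reflect]
  refine Finset.sum_congr rfl (fun n hn => ?_)
  rw [Finset.mem_range] at hn
  rw [← Finsupp.single_sub]
  have : 2 * ((m + 3 : ℕ) : ℤ) - 2 - (((2 * m + 4 - 1 - n : ℕ) : ℤ) + 1) = (n : ℤ) := by
    rw [Nat.cast_sub (by omega), Nat.cast_sub (by omega)]
    push_cast
    ring
  rw [this]

/-- A hyperplane section estimate: if `U ≤ V` has codimension at most one then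
`dim (V ∩ W) ≤ dim (U ∩ W) + 1`. -/
lemma finrank_inf_le_of_codim_one {V U W : Submodule k K} [FiniteDimensional k V] (hUV : U ≤ V)
    (hcodim : Module.finrank k ↥V ≤ Module.finrank k ↥U + 1) :
    Module.finrank k ↥(V ⊓ W) ≤ Module.finrank k ↥(U ⊓ W) + 1 := by
  have hfU : FiniteDimensional k U := Submodule.finiteDimensional_of_le hUV
  have hfVW : FiniteDimensional k ↥(V ⊓ W) := Submodule.finiteDimensional_of_le inf_le_left
  have h1 := Submodule.finrank_sup_add_finrank_inf_eq (V ⊓ W) U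
  have h2 : Module.finrank k ↥((V ⊓ W) ⊔ U) ≤ Module.finrank k ↥V :=
    Submodule.finrank_mono (sup_le inf_le_left hUV)
  have h3 : (V ⊓ W) ⊓ U = U ⊓ W := by
    rw [inf_comm, ← inf_assoc, inf_eq_left.2 hUV]
  rw [h3] at h1
  omega

lemma L_inf_le_of_le_single {A Q : Place k K} (hQ : Q ≠ A) {a b c : ℤ} (hab : a ≤ b) :
    L (Finsupp.single A a : Divisor k K) ⊓ L (Finsupp.single A b - Finsupp.single Q c) ≤
      L (Finsupp.single A a - Finsupp.single Q c) := by
  classical
  intro x hx R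
  by_cases hR : R = Q
  · subst hR
    have := hx.2 R
    rw [Finsupp.sub_apply, Finsupp.single_eq_same, Finsupp.single_eq_of_ne hQ] at this
    rw [Finsupp.sub_apply, Finsupp.single_eq_same, Finsupp.single_eq_of_ne hQ]
    exact this
  · have := hx.1 R
    rw [Finsupp.sub_apply, Finsupp.single_eq_of_ne hR, sub_zero]
    exact this

lemma sum_range_sub_choose (m : ℕ) :
    ∑ n ∈ Finset.range m, (m + 1 - n) + 1 = (m + 2).choose 2 := by
  induction m with
  | zero => simp
  | succ m ih =>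
    rw [Finset.sum_range_succ']
    have : ∑ n ∈ Finset.range m, (m + 1 + 1 - (n + 1)) = ∑ n ∈ Finset.range m, (m + 1 - n) :=
      Finset.sum_congr rfl (fun n _ => by omega)
    rw [this]
    have h2 : (m + 1 + 2).choose 2 = (m + 2).choose 1 + (m + 2).choose 2 :=
      Nat.choose_succ_succ' _ _
    rw [h2, Nat.choose_one_right, ← ih]
    omega

include hK hg1 in
/-- In genus one, `(2r+1)(A - Q) ~ 0` and `(2r+3)(A - Q) ~ 0` force `A = Q`. -/
lemma torsion_aux {A Q : Place k K} (hQ : Q ≠ A) (r : ℕ)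
    (h1 : 0 < ell (Finsupp.single A (((2 * r : ℕ) : ℤ) + 1) -
      Finsupp.single Q (((2 * r : ℕ) : ℤ) + 1) : Divisor k K))
    (h2 : 0 < ell (Finsupp.single A (((2 * r : ℕ) : ℤ) + 3) -
      Finsupp.single Q (((2 * r : ℕ) : ℤ) + 3) : Divisor k K)) : False := by
  classical
  obtain ⟨x, hx0, hx⟩ := exists_add_div_eq_zero hK h1 (by
    rw [Divisor.deg_sub, deg_single' hK, deg_single' hK, sub_self])
  obtain ⟨y, hy0, hy⟩ := exists_add_div_eq_zero hK h2 (by
    rw [Divisor.deg_sub, deg_single' hK, deg_single' hK, sub_self])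
  set u : K := x ^ (r + 1) * (y ^ r)⁻¹ with hu
  have hu0 : u ≠ 0 := mul_ne_zero (pow_ne_zero _ hx0) (inv_ne_zero (pow_ne_zero _ hy0))
  have hdivu : (Finsupp.single A (1 : ℤ) - Finsupp.single Q (1 : ℤ) : Divisor k K) + div k u = 0 := by
    rw [hu, div_mul hK (pow_ne_zero _ hx0) (inv_ne_zero (pow_ne_zero _ hy0)), div_inv hK,
      div_pow hK, div_pow hK]
    ext R
    have hxR := DFunLike.congr_fun hx R
    have hyR := DFunLike.congr_fun hy R
    simp only [Finsupp.add_apply, Finsupp.sub_apply, Finsupp.single_apply, Finsupp.zero_apply,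
      Finsupp.neg_apply, Finsupp.smul_apply, nsmul_eq_mul] at hxR hyR ⊢
    push_cast at hxR hyR ⊢
    split_ifs at hxR hyR ⊢ <;> linear_combination ((r : ℤ) + 1) * hxR - (r : ℤ) * hyR
  have hmem : u ∈ L (Finsupp.single A (1 : ℤ) : Divisor k K) := by
    rw [mem_L_iff_div hK hu0]
    have : (Finsupp.single A (1 : ℤ) : Divisor k K) + div k u = Finsupp.single Q (1 : ℤ) := by
      have h' : (Finsupp.single A (1 : ℤ) : Divisor k K) + div k u - Finsupp.single Q (1 : ℤ) = 0 := by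
        rw [← hdivu]; abel
      exact sub_eq_zero.1 h'
    rw [this]
    exact single_nonneg Q (by norm_num)
  have hellA : ell (Finsupp.single A (1 : ℤ) : Divisor k K) = 1 := by
    have := ell_single_genus_one hK hg1 A 1 le_rfl
    simpa using this
  obtain ⟨c, hc⟩ := mem_range_of_mem_L_of_ell_eq_one hK (single_nonneg A (by norm_num)) hellA hmem
  rw [← hc, div_algebraMap hK, add_zero] at hdivu
  have := DFunLike.congr_fun hdivu A
  rw [Finsupp.sub_apply, Finsupp.single_eq_same, Finsupp.single_eq_of_ne hQ.symm,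
    Finsupp.zero_apply] at this
  norm_num at this

include hK hg1 in
/-- S17247 with `g = 2r + 3`. -/
theorem weight_off_pole_aux (r : ℕ) (A Q : Place k K) (hQ : Q ≠ A) (V₁ : Submodule k K)
    (hlo : L (Finsupp.single A (((2 * r : ℕ) : ℤ) + 1)) ≤ V₁)
    (hhi : V₁ ≤ L (Finsupp.single A (((2 * r : ℕ) : ℤ) + 3)))
    (hdim : Module.finrank k ↥V₁ = 2 * r + 2) :
    ∑ n ∈ Finset.range (2 * (2 * r) + 4),
      Module.finrank k ↥(V₁ ⊓ L (Finsupp.single A (((2 * (2 * r) + 4 : ℕ) : ℤ)) -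
        Finsupp.single Q ((n : ℤ) + 1) : Divisor k K)) ≤ (2 * r + 2).choose 2 + 2 := by
  set m := 2 * r with hm
  have hfinV : FiniteDimensional k V₁ := Module.finite_of_finrank_pos (by omega)
  set d : ℕ → ℕ := fun n => Module.finrank k ↥(V₁ ⊓ L (Finsupp.single A (((2 * m + 4 : ℕ) : ℤ)) -
        Finsupp.single Q ((n : ℤ) + 1) : Divisor k K)) with hd
  change ∑ n ∈ Finset.range (2 * m + 4), d n ≤ (m + 2).choose 2 + 2
  have hellU : Module.finrank k ↥(L (Finsupp.single A ((m : ℤ) + 1) : Divisor k K)) = m + 1 := by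
    have h2 := ell_single_genus_one hK hg1 A (m + 1) (by omega)
    have : ((m + 1 : ℕ) : ℤ) = (m : ℤ) + 1 := by push_cast; ring
    rw [this] at h2
    exact h2
  -- first bound: `d n ≤ ℓ((m+1)A - (n+1)Q) + 1`
  have hb1 : ∀ n : ℕ, d n ≤ ell (Finsupp.single A ((m : ℤ) + 1) -
      Finsupp.single Q ((n : ℤ) + 1) : Divisor k K) + 1 := by
    intro n
    have h1 := finrank_inf_le_of_codim_one (V := V₁)
      (U := L (Finsupp.single A ((m : ℤ) + 1) : Divisor k K))
      (W := L (Finsupp.single A (((2 * m + 4 : ℕ) : ℤ)) -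
        Finsupp.single Q ((n : ℤ) + 1) : Divisor k K)) hlo (by rw [hellU, hdim])
    have hfd := finiteDimensional_L hK (Finsupp.single A ((m : ℤ) + 1) -
      Finsupp.single Q ((n : ℤ) + 1) : Divisor k K)
    have h2 := Submodule.finrank_mono (L_inf_le_of_le_single (k := k) hQ (a := (m : ℤ) + 1)
      (b := ((2 * m + 4 : ℕ) : ℤ)) (c := (n : ℤ) + 1) (by push_cast; omega))
    exact h1.trans (Nat.add_le_add_right h2 1)
  -- second bound: `d n ≤ ℓ((m+3)A - (n+1)Q)`
  have hb2 : ∀ n : ℕ, d n ≤ ell (Finsupp.single A ((m : ℤ) + 3) -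
      Finsupp.single Q ((n : ℤ) + 1) : Divisor k K) := by
    intro n
    have hfd := finiteDimensional_L hK (Finsupp.single A ((m : ℤ) + 3) -
      Finsupp.single Q ((n : ℤ) + 1) : Divisor k K)
    have h2 := L_inf_le_of_le_single (k := k) hQ (a := (m : ℤ) + 3)
      (b := ((2 * m + 4 : ℕ) : ℤ)) (c := (n : ℤ) + 1) (by push_cast; omega)
    exact Submodule.finrank_mono ((inf_le_inf_right _ hhi).trans h2)
  -- evaluating `ℓ`
  have hdeg : ∀ a b : ℤ, Divisor.deg (Finsupp.single A a - Finsupp.single Q b : Divisor k K) = a - b := by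
    intro a b
    rw [Divisor.deg_sub, deg_single' hK, deg_single' hK]
  set t := ell (Finsupp.single A ((m : ℤ) + 1) - Finsupp.single Q ((m : ℤ) + 1) : Divisor k K)
    with ht
  set s := ell (Finsupp.single A ((m : ℤ) + 3) - Finsupp.single Q ((m : ℤ) + 3) : Divisor k K)
    with hs
  have ht1 : t ≤ 1 := by
    have := ell_le_deg_add_one'' hK (Finsupp.single A ((m : ℤ) + 1) -
      Finsupp.single Q ((m : ℤ) + 1) : Divisor k K) (by rw [hdeg]; omega)
    rw [hdeg, sub_self, zero_add] at this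
    exact_mod_cast this
  have hs1 : s ≤ 1 := by
    have := ell_le_deg_add_one'' hK (Finsupp.single A ((m : ℤ) + 3) -
      Finsupp.single Q ((m : ℤ) + 3) : Divisor k K) (by rw [hdeg]; omega)
    rw [hdeg, sub_self, zero_add] at this
    exact_mod_cast this
  have hts : t + s ≤ 1 := by
    by_contra hlt
    exact torsion_aux hK hg1 hQ r (by rw [← hm, ← ht]; omega) (by rw [← hm, ← hs]; omega)
  -- the five ranges
  have hA : ∀ n : ℕ, n < m → d n ≤ m + 1 - n := by
    intro n hn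
    have h1 := hb1 n
    have h2 := ell_eq_deg_of_genus_one hK hg1 (D := (Finsupp.single A ((m : ℤ) + 1) -
      Finsupp.single Q ((n : ℤ) + 1) : Divisor k K)) (by rw [hdeg]; omega)
    rw [hdeg] at h2
    omega
  have hB : d m ≤ t + 1 := hb1 m
  have hC : d (m + 1) ≤ 1 := by
    have h1 := hb2 (m + 1)
    have h2 := ell_eq_deg_of_genus_one hK hg1 (D := (Finsupp.single A ((m : ℤ) + 3) -
      Finsupp.single Q (((m + 1 : ℕ) : ℤ) + 1) : Divisor k K)) (by rw [hdeg]; push_cast; omega)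
    rw [hdeg] at h2
    have h3 : (m : ℤ) + 3 - (((m + 1 : ℕ) : ℤ) + 1) = 1 := by push_cast; ring
    rw [h3] at h2
    omega
  have hD : d (m + 2) ≤ s := by
    have h1 := hb2 (m + 2)
    have : ((m + 2 : ℕ) : ℤ) + 1 = (m : ℤ) + 3 := by push_cast; ring
    rw [this] at h1
    exact h1
  have hE : ∀ i : ℕ, d (m + 2 + 1 + i) = 0 := by
    intro i
    have h1 := hb2 (m + 2 + 1 + i)
    rw [ell_eq_zero_of_deg_neg hK (by rw [hdeg]; push_cast; omega)] at h1
    omega
  have hsplit : 2 * m + 4 = (m + 1 + 1 + 1) + (m + 1) := by ring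
  rw [hsplit, Finset.sum_range_add, Finset.sum_range_succ, Finset.sum_range_succ,
    Finset.sum_range_succ, Finset.sum_eq_zero (s := Finset.range (m + 1)) (fun i _ => hE i),
    ← sum_range_sub_choose]
  have hsum : ∑ n ∈ Finset.range m, d n ≤ ∑ n ∈ Finset.range m, (m + 1 - n) :=
    Finset.sum_le_sum (fun n hn => hA n (Finset.mem_range.1 hn))
  omega

include hK hg1 in
/-- S17247. -/
theorem weight_off_pole_17247 (g : ℕ) (hodd : Odd g) (h3 : 3 ≤ g) (A : Place k K)
    (V₁ : Submodule k K) (hlo : L (Finsupp.single A ((g : ℤ) - 2)) ≤ V₁)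
    (hhi : V₁ ≤ L (Finsupp.single A (g : ℤ))) (hdim : Module.finrank k ↥V₁ + 1 = g)
    (Q : Place k K) (hQ : Q ≠ A) :
    (∑ n ∈ Finset.range (2 * g - 2), Module.finrank k
        ↥(V₁ ⊓ L (Finsupp.single A (2 * (g : ℤ) - 2) - Finsupp.single Q ((n : ℤ) + 1)))) ≤
      (g - 1).choose 2 + 2 := by
  obtain ⟨r, rfl⟩ : ∃ r, g = 2 * r + 3 := by
    obtain ⟨q, hq⟩ := hodd
    exact ⟨q - 1, by omega⟩
  have e1 : (((2 * r + 3 : ℕ) : ℤ) - 2) = ((2 * r : ℕ) : ℤ) + 1 := by push_cast; ring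
  have e2 : ((2 * r + 3 : ℕ) : ℤ) = ((2 * r : ℕ) : ℤ) + 3 := by push_cast; ring
  rw [e1] at hlo
  rw [e2] at hhi
  have key := weight_off_pole_aux hK hg1 r A Q hQ V₁ hlo hhi (by omega)
  have e3 : 2 * (2 * r + 3) - 2 = 2 * (2 * r) + 4 := by omega
  have e4 : 2 * r + 3 - 1 = 2 * r + 2 := by omega
  have e5 : 2 * ((2 * r + 3 : ℕ) : ℤ) - 2 = ((2 * (2 * r) + 4 : ℕ) : ℤ) := by push_cast; ring
  rw [e3, e4, e5]
  exact key

end

end FunFld
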