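import Groth.Agent.Lib.Helper5.FunFld.Plane7
import Groth.Agent.Lib.Helper5.FunFld.Aut
import Groth.Agent.Lib.Helper5.FunFld.G1Hyp
import Mathlib.RingTheory.RootsOfUnity.AlgebraicallyClosed

/-! Automorphisms of an elliptic function field fixing the point at infinity (helper5, S19397). -/

set_option autoImplicit false

namespace FunFld

open WithZero

namespace EllAut

variable {k K : Type*} [Field k] [Field K] [Algebra k K]

section basic

variable (P : Place k K) {x y : K}

/-- An automorphism preserving the valuation of `P` preserves `L(nP)`. -/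
lemma map_mem_L_single {σ : K ≃ₐ[k] K} (hσ : ∀ z : K, P.1 (σ z) = P.1 z) {n : ℤ} {z : K}
    (hz : z ∈ L (Finsupp.single P n : Divisor k K)) :
    σ z ∈ L (Finsupp.single P n : Divisor k K) := by
  classical
  have hPσ : P.conj σ = P := Place.ext' (fun w => hσ w)
  intro Q
  have h1 := hz (Q.conj σ)
  rw [Place.conj_apply] at h1
  refine h1.trans (exp_le_exp.2 ?_)
  by_cases hQ : Q = P
  · subst hQ; rw [hPσ]
  · have hQ' : Q.conj σ ≠ P := by
      intro h
      apply hQ
      have : (Q.conj σ).conj σ⁻¹ = P.conj σ⁻¹ := by rw [h]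
      rw [← Place.conj_mul, mul_inv_cancel, Place.conj_one] at this
      rw [this]
      have h2 : (P.conj σ).conj σ⁻¹ = P := by
        rw [← Place.conj_mul, mul_inv_cancel, Place.conj_one]
      rw [hPσ] at h2
      exact h2
    rw [Finsupp.single_eq_of_ne hQ, Finsupp.single_eq_of_ne hQ']

end basic

section coeffs

variable (hK : IsFunctionField k K)

include hK in
/-- Coordinates in `L(D)` with respect to `ℓ(D)` independent members. -/
lemma exists_coeffs {n : ℕ} {D : Divisor k K} (v : Fin n → K) (hv : ∀ i, v i ∈ L D)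
    (hli : LinearIndependent k v) (hell : ell D = n) {z : K} (hz : z ∈ L D) :
    ∃ c : Fin n → k, z = ∑ i, c i • v i := by
  have hfd := finiteDimensional_L hK D
  let b : Fin n → L D := fun i => ⟨v i, hv i⟩
  have hb : LinearIndependent k b := by
    apply LinearIndependent.of_comp (L D).subtype
    exact hli
  have htop := hb.span_eq_top_of_card_eq_finrank' (by rw [Fintype.card_fin]; exact hell.symm)
  have hmem : (⟨z, hz⟩ : L D) ∈ Submodule.span k (Set.range b) := by rw [htop]; trivial
  obtain ⟨c, hc⟩ := (Submodule.mem_span_range_iff_exists_fun k).1 hmem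
  refine ⟨c, ?_⟩
  have := congrArg (fun w : L D => (w : K)) hc
  simp only [Submodule.coe_sum, Submodule.coe_smul] at this
  exact this.symm

end coeffs

section six

variable (P : Place k K) {x y : K} (hvx : P.1 x = exp 2) (hvy : P.1 y = exp 3)

include hvx hvy in
/-- `1, x, y, x², xy, x³` are linearly independent. -/
lemma six_indep (c : Fin 6 → k)
    (hc : c 0 • (1 : K) + c 1 • x + c 2 • y + c 3 • x ^ 2 + c 4 • (x * y) + c 5 • x ^ 3 = 0) :
    c = 0 := by
  refine eq_zero_of_relation_six P ![1, x, y, x ^ 2, x * y, x ^ 3] ?_ c ?_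
  · intro i
    fin_cases i
    · simp
    · simpa using hvx
    · simpa using hvy
    · change P.1 (x ^ 2) = exp 4
      rw [map_pow, hvx, ← exp_nsmul]; norm_num
    · change P.1 (x * y) = exp 5
      rw [map_mul, hvx, hvy, ← exp_add]; norm_num
    · change P.1 (x ^ 3) = exp 6
      rw [map_pow, hvx, ← exp_nsmul]; norm_num
  · rw [Fin.sum_univ_six]
    simpa using hc

end six

section forward

variable [IsAlgClosed k] (hK : IsFunctionField k K) (hgen : genus k K = 1)
  (h2 : (2 : k) ≠ 0) (h3 : (3 : k) ≠ 0) (P : Place k K) (a b : k) {x y : K}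
  (heq : y ^ 2 = x ^ 3 + algebraMap k K a * x + algebraMap k K b)
  (hx : x ∈ L (Finsupp.single P 2 : Divisor k K)) (hvx : P.1 x = exp 2)
  (hy : y ∈ L (Finsupp.single P 3 : Divisor k K)) (hvy : P.1 y = exp 3)

include hK hgen h2 h3 heq hx hvx hy hvy in
/-- Every automorphism fixing `P` is `x ↦ c²x, y ↦ c³y`. -/
theorem exists_scalar (σ : K ≃ₐ[k] K) (hσ : ∀ z : K, P.1 (σ z) = P.1 z) :
    ∃ c : k, c ≠ 0 ∧ c ^ 4 * a = a ∧ c ^ 6 * b = b ∧ σ x = c ^ 2 • x ∧ σ y = c ^ 3 • y := by
  have hind := six_indep P hvx hvy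
  -- `L(2P) = ⟨1, x⟩`, `L(3P) = ⟨1, x, y⟩`
  have hone2 : (1 : K) ∈ L (Finsupp.single P 2 : Divisor k K) := by
    rw [mem_L_iff_div hK one_ne_zero, div_one hK, add_zero]
    exact single_nonneg P (by norm_num)
  have hone3 : (1 : K) ∈ L (Finsupp.single P 3 : Divisor k K) := by
    rw [mem_L_iff_div hK one_ne_zero, div_one hK, add_zero]
    exact single_nonneg P (by norm_num)
  have hx3 : x ∈ L (Finsupp.single P 3 : Divisor k K) :=
    L_mono (single_mono P (by norm_num)) hx
  have hli2 : LinearIndependent k ![(1 : K), x] := by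
    rw [Fintype.linearIndependent_iff]
    intro g hg
    rw [Fin.sum_univ_two] at hg
    have := hind ![g 0, g 1, 0, 0, 0, 0] (by simpa using hg)
    intro i
    fin_cases i
    · exact congrFun this 0
    · exact congrFun this 1
  have hli3 : LinearIndependent k ![(1 : K), x, y] := by
    rw [Fintype.linearIndependent_iff]
    intro g hg
    rw [Fin.sum_univ_three] at hg
    have := hind ![g 0, g 1, g 2, 0, 0, 0] (by simpa using hg)
    intro i
    fin_cases i
    · exact congrFun this 0
    · exact congrFun this 1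
    · exact congrFun this 2
  have hell2 : ell (Finsupp.single P 2 : Divisor k K) = 2 := by
    have := ell_single_genus_one hK hgen P 2 (by norm_num)
    simpa using this
  have hell3 : ell (Finsupp.single P 3 : Divisor k K) = 3 := by
    have := ell_single_genus_one hK hgen P 3 (by norm_num)
    simpa using this
  obtain ⟨cx, hcx⟩ := exists_coeffs hK ![(1 : K), x] (by
    intro i; fin_cases i
    · exact hone2
    · exact hx) hli2 hell2 (map_mem_L_single P hσ hx)
  obtain ⟨cy, hcy⟩ := exists_coeffs hK ![(1 : K), x, y] (by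
    intro i; fin_cases i
    · exact hone3
    · exact hx3
    · exact hy) hli3 hell3 (map_mem_L_single P hσ hy)
  rw [Fin.sum_univ_two] at hcx
  rw [Fin.sum_univ_three] at hcy
  simp only [Matrix.cons_val_zero, Matrix.cons_val_one, Matrix.cons_val] at hcx hcy
  set r := cx 0 with hr
  set u := cx 1 with hu
  set t := cy 0 with ht
  set s := cy 1 with hs
  set v := cy 2 with hv
  -- the transformed equation
  have hσeq : (σ y) ^ 2 = (σ x) ^ 3 + algebraMap k K a * σ x + algebraMap k K b := by
    have := congrArg σ heq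
    simpa using this
  rw [hcx, hcy] at hσeq
  have hrel := hind ![v ^ 2 * b + t ^ 2 - r ^ 3 - a * r - b,
      v ^ 2 * a + 2 * t * s - 3 * r ^ 2 * u - a * u, 2 * t * v, s ^ 2 - 3 * r * u ^ 2, 2 * s * v,
      v ^ 2 - u ^ 3] (by
    simp only [Matrix.cons_val_zero, Matrix.cons_val_one, Matrix.cons_val, Algebra.smul_def,
      map_sub, map_add, map_mul, map_pow, map_ofNat] at hσeq ⊢
    linear_combination hσeq - (algebraMap k K v) ^ 2 * heq)
  have e0 : v ^ 2 * b + t ^ 2 - r ^ 3 - a * r - b = 0 := congrFun hrel 0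
  have e1 : v ^ 2 * a + 2 * t * s - 3 * r ^ 2 * u - a * u = 0 := congrFun hrel 1
  have e2 : 2 * t * v = 0 := congrFun hrel 2
  have e3 : s ^ 2 - 3 * r * u ^ 2 = 0 := congrFun hrel 3
  have e4 : 2 * s * v = 0 := congrFun hrel 4
  have e5 : v ^ 2 - u ^ 3 = 0 := congrFun hrel 5
  -- `u ≠ 0`
  have hxnc : x ∉ Set.range (algebraMap k K) := by
    rintro ⟨c, rfl⟩
    have := P.v_algebraMap_le c
    rw [hvx] at this
    exact absurd this (by rw [← exp_zero, exp_le_exp]; norm_num)
  have hu0 : u ≠ 0 := by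
    intro h0
    apply hxnc
    refine ⟨r, ?_⟩
    have h1 : σ x = algebraMap k K r := by
      rw [hcx, h0, zero_smul, add_zero, Algebra.smul_def, mul_one]
    have h2' : σ x = σ (algebraMap k K r) := by rw [h1, σ.commutes]
    exact (σ.injective h2').symm
  have hv0 : v ≠ 0 := by
    intro h0
    rw [h0] at e5
    have : u ^ 3 = 0 := by linear_combination -e5
    exact hu0 (pow_eq_zero_iff (by norm_num) |>.1 this)
  have hs0 : s = 0 := by
    rcases mul_eq_zero.1 e4 with h | h
    · rcases mul_eq_zero.1 h with h | h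
      · exact absurd h h2
      · exact h
    · exact absurd h hv0
  have ht0 : t = 0 := by
    rcases mul_eq_zero.1 e2 with h | h
    · rcases mul_eq_zero.1 h with h | h
      · exact absurd h h2
      · exact h
    · exact absurd h hv0
  have hr0 : r = 0 := by
    rw [hs0] at e3
    have : 3 * r * u ^ 2 = 0 := by linear_combination -e3
    rcases mul_eq_zero.1 this with h | h
    · rcases mul_eq_zero.1 h with h | h
      · exact absurd h h3
      · exact h
    · exact absurd (pow_eq_zero_iff (by norm_num) |>.1 h) hu0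
  rw [hs0, ht0, hr0] at e1
  rw [ht0, hr0] at e0
  have hvu : v ^ 2 = u ^ 3 := by linear_combination e5
  refine ⟨v / u, div_ne_zero hv0 hu0, ?_, ?_, ?_, ?_⟩
  · have h1 : (v / u) ^ 4 = u ^ 2 := by
      field_simp
      linear_combination (v ^ 2 + u ^ 3) * hvu
    rw [h1]
    have h2' : u * (u ^ 2 * a - a) = 0 := by
      rw [hvu] at e1; linear_combination e1
    rcases mul_eq_zero.1 h2' with h | h
    · exact absurd h hu0
    · linear_combination h
  · have h1 : (v / u) ^ 6 = v ^ 2 := by
      field_simp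
      linear_combination (v ^ 2 + u ^ 3) * hvu
    rw [h1]
    linear_combination e0
  · have h1 : (v / u) ^ 2 = u := by
      field_simp
      linear_combination hvu
    rw [h1, hcx, hr0, zero_smul, zero_add]
  · have h1 : (v / u) ^ 3 = v := by
      field_simp
      linear_combination hvu
    rw [h1, hcy, ht0, hs0, zero_smul, zero_smul, zero_add, zero_add]

end forward

section backward

open MvPolynomial in
/-- Coefficients of the Weierstrass relation for `relPoly`. -/
noncomputable def wCoeff (a b : k) : ℕ → Polynomial k := fun i =>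
  if i = 0 then -(Polynomial.X ^ 3 + Polynomial.C a * Polynomial.X + Polynomial.C b) else 0

/-- The Weierstrass polynomial `Y² - (X³ + aX + b)` (`X 0 ↔ y`, `X 1 ↔ x`). -/
noncomputable def W (a b : k) : MvPolynomial (Fin 2) k := relPoly (wCoeff a b) 2

lemma W_eq (a b : k) : W a b = MvPolynomial.X 0 ^ 2 -
    (MvPolynomial.X 1 ^ 3 + MvPolynomial.C a * MvPolynomial.X 1 + MvPolynomial.C b) := by
  unfold W relPoly
  rw [Finset.sum_range_succ, Finset.sum_range_one]
  simp only [wCoeff, if_pos, if_neg (one_ne_zero), map_zero, zero_mul, add_zero, pow_zero, mul_one,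
    map_neg, map_add, map_mul, map_pow, Polynomial.aeval_X, Polynomial.aeval_C]
  rw [MvPolynomial.algebraMap_eq]
  ring

variable (hK : IsFunctionField k K) (P : Place k K) (a b : k) {x y : K}
  (heq : y ^ 2 = x ^ 3 + algebraMap k K a * x + algebraMap k K b)
  (hxy : IntermediateField.adjoin k ({x, y} : Set K) = ⊤)
  (hx : x ∈ L (Finsupp.single P 2 : Divisor k K)) (hvx : P.1 x = exp 2)

include heq in
lemma aeval_W : MvPolynomial.aeval ![y, x] (W a b) = 0 := by
  rw [W_eq]
  simp only [map_sub, map_add, map_mul, map_pow, MvPolynomial.aeval_X, MvPolynomial.aeval_C,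
    Matrix.cons_val_zero, Matrix.cons_val_one]
  rw [heq]; ring

end backward

section kernel

variable [IsAlgClosed k] (hK : IsFunctionField k K) (P : Place k K) (a b : k) {x y : K}
  (heq : y ^ 2 = x ^ 3 + algebraMap k K a * x + algebraMap k K b)
  (hxy : IntermediateField.adjoin k ({x, y} : Set K) = ⊤)
  (hx : x ∈ L (Finsupp.single P 2 : Divisor k K)) (hvx : P.1 x = exp 2)

include hvx in
lemma x_notMem_range : x ∉ Set.range (algebraMap k K) := by
  rintro ⟨c, rfl⟩
  have := P.v_algebraMap_le c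
  rw [hvx] at this
  exact absurd this (by rw [← exp_zero, exp_le_exp]; norm_num)

include hK hx hvx in
lemma finrank_adjoin_x : Module.finrank (IntermediateField.adjoin k ({x} : Set K)) K = 2 := by
  have h1 := deg_poleDiv hK (x_notMem_range P hvx)
  rw [poleDiv_eq_single hK (by norm_num) hx hvx, deg_single' hK] at h1
  exact_mod_cast h1.symm

include hK heq hxy hx hvx in
/-- The ideal of relations of `(y, x)` is generated by the Weierstrass polynomial. -/
theorem ker_ev :
    RingHom.ker (MvPolynomial.aeval ![y, x] : MvPolynomial (Fin 2) k →ₐ[k] K) =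
      Ideal.span {W a b} := by
  have hxtr : Transcendental k x := hK.transcendental_of_notMem (x_notMem_range P hvx)
  have hli := linearIndependent_pow (K := IntermediateField.adjoin k ({x} : Set K)) y
  rw [natDegree_minpoly_eq_finrank hK hxtr hxy, finrank_adjoin_x hK P hx hvx] at hli
  exact ker_aeval_eq_span hxtr (W a b) (monic_finSuccEquiv_relPoly _ 2)
    (natDegree_finSuccEquiv_relPoly _ 2) (aeval_W a b heq) hli

end kernel

section construct

open MvPolynomial

/-- The substitution `Y ↦ c³Y, X ↦ c²X`. -/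
noncomputable def θ (c : k) : MvPolynomial (Fin 2) k →ₐ[k] MvPolynomial (Fin 2) k :=
  aeval ![C c ^ 3 * X 0, C c ^ 2 * X 1]

lemma θ_X0 (c : k) : θ c (X 0) = C c ^ 3 * X 0 := by simp [θ]

lemma θ_X1 (c : k) : θ c (X 1) = C c ^ 2 * X 1 := by simp [θ]

lemma θ_W (a b c : k) (h4 : c ^ 4 * a = a) (h6 : c ^ 6 * b = b) :
    θ c (W a b) = C c ^ 6 * W a b := by
  rw [W_eq]
  simp only [map_sub, map_add, map_mul, map_pow, θ_X0, θ_X1, algHom_C, algebraMap_eq]
  have e1 : (C a : MvPolynomial (Fin 2) k) * C c ^ 2 = C c ^ 6 * C a := by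
    rw [← C_pow, ← C_pow, ← C_mul, ← C_mul]
    congr 1
    linear_combination (-c ^ 2) * h4
  have e2 : (C b : MvPolynomial (Fin 2) k) = C c ^ 6 * C b := by
    rw [← C_pow, ← C_mul, h6]
  linear_combination (-(X 1 : MvPolynomial (Fin 2) k)) * e1 - e2

lemma θ_comp_θ {c d : k} (hcd : c * d = 1) : (θ c).comp (θ d) = AlgHom.id k _ := by
  apply MvPolynomial.algHom_ext
  intro i
  have hcc : (C c : MvPolynomial (Fin 2) k) * C d = 1 := by
    rw [← C_mul, hcd, C_1]
  fin_cases i
  · change θ c (θ d (X 0)) = X 0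
    rw [θ_X0, map_mul, map_pow, algHom_C, θ_X0, algebraMap_eq]
    linear_combination (X 0 : MvPolynomial (Fin 2) k) *
      ((C c * C d) ^ 2 + C c * C d + 1) * hcc
  · change θ c (θ d (X 1)) = X 1
    rw [θ_X1, map_mul, map_pow, algHom_C, θ_X1, algebraMap_eq]
    linear_combination (X 1 : MvPolynomial (Fin 2) k) * (C c * C d + 1) * hcc

end construct

section construct2

open MvPolynomial

variable (k) in
/-- The coordinate ring `k[y, x] ⊆ K`. -/
noncomputable abbrev R (x y : K) : Subalgebra k K :=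
  (aeval ![y, x] : MvPolynomial (Fin 2) k →ₐ[k] K).range

variable (k) in
/-- `k[Y, X] → k[y, x]`. -/
noncomputable abbrev evR (x y : K) : MvPolynomial (Fin 2) k →ₐ[k] R k x y :=
  (aeval ![y, x] : MvPolynomial (Fin 2) k →ₐ[k] K).rangeRestrict

lemma evR_surjective (x y : K) : Function.Surjective (evR k x y) :=
  AlgHom.rangeRestrict_surjective _

variable [IsAlgClosed k] (hK : IsFunctionField k K) (P : Place k K) (a b : k) {x y : K}
  (heq : y ^ 2 = x ^ 3 + algebraMap k K a * x + algebraMap k K b)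
  (hxy : IntermediateField.adjoin k ({x, y} : Set K) = ⊤)
  (hx : x ∈ L (Finsupp.single P 2 : Divisor k K)) (hvx : P.1 x = exp 2)

include hK heq hxy hx hvx in
lemma ker_evR_le (c : k) (h4 : c ^ 4 * a = a) (h6 : c ^ 6 * b = b) :
    RingHom.ker (evR k x y).toRingHom ≤
      RingHom.ker ((evR k x y).comp (θ c)).toRingHom := by
  intro p hp
  have hp' : p ∈ RingHom.ker (evR k x y) := hp
  rw [AlgHom.ker_rangeRestrict, ker_ev hK P a b heq hxy hx hvx, Ideal.mem_span_singleton] at hp'
  obtain ⟨q, rfl⟩ := hp'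
  change (evR k x y) (θ c (W a b * q)) = 0
  rw [map_mul, θ_W a b c h4 h6]
  have : W a b ∈ RingHom.ker (evR k x y) := by
    rw [AlgHom.ker_rangeRestrict, ker_ev hK P a b heq hxy hx hvx]
    exact Ideal.mem_span_singleton_self _
  rw [map_mul, map_mul, (RingHom.mem_ker).1 this, mul_zero, zero_mul]

/-- The endomorphism `y ↦ c³y, x ↦ c²x` of `k[y, x]`. -/
noncomputable def gHom (x y : K) (c : k)
    (H : RingHom.ker (evR k x y).toRingHom ≤
      RingHom.ker ((evR k x y).comp (θ c)).toRingHom) : R k x y →ₐ[k] R k x y :=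
  AlgHom.liftOfSurjective (evR k x y) (evR_surjective x y) ((evR k x y).comp (θ c)) H

omit [IsAlgClosed k] in
lemma gHom_evR (c : k) (H) (p : MvPolynomial (Fin 2) k) :
    gHom x y c H (evR k x y p) = evR k x y (θ c p) :=
  AlgHom.liftOfSurjective_apply _ _ _ _ _

omit [IsAlgClosed k] in
lemma gHom_comp {c d : k} (hcd : c * d = 1) (H H') :
    (gHom (k := k) x y c H).comp (gHom x y d H') = AlgHom.id k _ := by
  apply AlgHom.ext
  intro r
  obtain ⟨p, rfl⟩ := evR_surjective (k := k) x y r
  rw [AlgHom.comp_apply, gHom_evR, gHom_evR]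
  have := congrArg (fun f : MvPolynomial (Fin 2) k →ₐ[k] MvPolynomial (Fin 2) k => f p)
    (θ_comp_θ hcd)
  simp only [AlgHom.comp_apply, AlgHom.id_apply] at this
  rw [this]
  rfl

omit [IsAlgClosed k] in
include hxy in
lemma isFractionRing_R : IsFractionRing (R k x y) K := by
  apply IsFractionRing.of_field
  intro z
  have hz : z ∈ IntermediateField.adjoin k ({x, y} : Set K) := by rw [hxy]; trivial
  obtain ⟨r, hr, s, hs, rfl⟩ := IntermediateField.mem_adjoin_iff_div.1 hz
  have hR : Algebra.adjoin k ({x, y} : Set K) = R k x y := by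
    change _ = (aeval ![y, x] : MvPolynomial (Fin 2) k →ₐ[k] K).range
    rw [← Algebra.adjoin_range_eq_range_aeval]
    congr 1
    ext w
    simp [or_comm]
  rw [hR] at hr hs
  exact ⟨⟨r, hr⟩, ⟨s, hs⟩, rfl⟩

end construct2

section construct3

open MvPolynomial

variable [IsAlgClosed k] (hK : IsFunctionField k K) (P : Place k K) (a b : k) {x y : K}
  (heq : y ^ 2 = x ^ 3 + algebraMap k K a * x + algebraMap k K b)
  (hxy : IntermediateField.adjoin k ({x, y} : Set K) = ⊤)
  (hx : x ∈ L (Finsupp.single P 2 : Divisor k K)) (hvx : P.1 x = exp 2)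

include hK heq hxy hx hvx in
/-- Existence of the automorphism `x ↦ c²x, y ↦ c³y`. -/
theorem exists_aut (c : k) (hc : c ≠ 0) (h4 : c ^ 4 * a = a) (h6 : c ^ 6 * b = b) :
    ∃ σ : K ≃ₐ[k] K, σ x = c ^ 2 • x ∧ σ y = c ^ 3 • y ∧ ∀ z : K, P.1 (σ z) = P.1 z := by
  have h4' : c⁻¹ ^ 4 * a = a := by
    have : c⁻¹ ^ 4 * (c ^ 4 * a) = a := by
      rw [← mul_assoc, ← mul_pow, inv_mul_cancel₀ hc, one_pow, one_mul]
    rw [h4] at this
    exact this
  have h6' : c⁻¹ ^ 6 * b = b := by
    have : c⁻¹ ^ 6 * (c ^ 6 * b) = b := by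
      rw [← mul_assoc, ← mul_pow, inv_mul_cancel₀ hc, one_pow, one_mul]
    rw [h6] at this
    exact this
  have H := ker_evR_le hK P a b heq hxy hx hvx c h4 h6
  have H' := ker_evR_le hK P a b heq hxy hx hvx c⁻¹ h4' h6'
  let e : R k x y ≃ₐ[k] R k x y :=
    AlgEquiv.ofAlgHom (gHom x y c H) (gHom x y c⁻¹ H')
      (gHom_comp (mul_inv_cancel₀ hc) H H') (gHom_comp (inv_mul_cancel₀ hc) H' H)
  haveI := isFractionRing_R (k := k) hxy
  let σ : K ≃ₐ[k] K := IsFractionRing.fieldEquivOfAlgEquiv k K K e
  have hσR : ∀ p : MvPolynomial (Fin 2) k,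
      σ (aeval ![y, x] p) = aeval ![y, x] (θ c p) := by
    intro p
    have h1 : (aeval ![y, x] p : K) = algebraMap (R k x y) K (evR k x y p) := rfl
    rw [h1, IsFractionRing.fieldEquivOfAlgEquiv_algebraMap]
    change algebraMap (R k x y) K (gHom x y c H (evR k x y p)) = _
    rw [gHom_evR]
    rfl
  have hσx : σ x = c ^ 2 • x := by
    have := hσR (X 1)
    rw [θ_X1] at this
    simpa [Algebra.smul_def] using this
  have hσy : σ y = c ^ 3 • y := by
    have := hσR (X 0)
    rw [θ_X0] at this
    simpa [Algebra.smul_def] using this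
  refine ⟨σ, hσx, hσy, ?_⟩
  have hPσ : P.conj σ = P := by
    by_contra hne
    have h1 := hx (P.conj σ)
    rw [Finsupp.single_eq_of_ne hne, exp_zero, Place.conj_apply, hσx,
      P.v_smul _ _ (pow_ne_zero 2 hc), hvx] at h1
    exact absurd h1 (by rw [← exp_zero, exp_le_exp]; norm_num)
  intro z
  rw [← Place.conj_apply, hPσ]

end construct3

section count

lemma aut_ext {x y : K} (hxy : IntermediateField.adjoin k ({x, y} : Set K) = ⊤)
    (σ τ : K ≃ₐ[k] K) (h1 : σ x = τ x) (h2 : σ y = τ y) : σ = τ := by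
  let E : IntermediateField k K :=
    Subalgebra.toIntermediateField (AlgHom.equalizer (σ : K →ₐ[k] K) (τ : K →ₐ[k] K))
      (fun z hz => by
        have hz' : σ z = τ z := hz
        change σ z⁻¹ = τ z⁻¹
        rw [map_inv₀, map_inv₀, hz'])
  have hle : IntermediateField.adjoin k ({x, y} : Set K) ≤ E := by
    rw [IntermediateField.adjoin_le_iff]
    rintro w (rfl | rfl)
    · exact h1
    · exact h2
  ext z
  have : z ∈ E := hle (by rw [hxy]; trivial)
  exact this

/-- The number of `n`-th roots of unity in an algebraically closed field with `n ≠ 0`. -/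
lemma card_pow_eq_one [IsAlgClosed k] (n : ℕ) (hn : (n : k) ≠ 0) :
    Nat.card {c : k // c ^ n = 1} = n := by
  haveI : NeZero (n : k) := ⟨hn⟩
  haveI : NeZero n := ⟨by rintro rfl; simp at hn⟩
  refine (Nat.card_congr ?_).trans (HasEnoughRootsOfUnity.natCard_rootsOfUnity k n)
  exact
    { toFun := fun c => rootsOfUnity.mkOfPowEq c.1 c.2
      invFun := fun ζ => ⟨((ζ : kˣ) : k), by
        have := ζ.2
        rw [mem_rootsOfUnity] at this
        have h := congrArg Units.val this
        simpa using h⟩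
      left_inv := fun c => by
        apply Subtype.ext
        simp
      right_inv := fun ζ => by
        apply Subtype.ext
        apply Units.ext
        simp }

end count

section final

variable [IsAlgClosed k] (hK : IsFunctionField k K) (hgen : genus k K = 1)
  (h2 : (2 : k) ≠ 0) (h3 : (3 : k) ≠ 0) (P : Place k K) (a b : k) {x y : K}
  (heq : y ^ 2 = x ^ 3 + algebraMap k K a * x + algebraMap k K b)
  (hxy : IntermediateField.adjoin k ({x, y} : Set K) = ⊤)
  (hx : x ∈ L (Finsupp.single P 2 : Divisor k K)) (hvx : P.1 x = exp 2)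
  (hy : y ∈ L (Finsupp.single P 3 : Divisor k K)) (hvy : P.1 y = exp 3)

/-- The parameter set. -/
abbrev Par (a b : k) : Type _ := {c : k // c ≠ 0 ∧ c ^ 4 * a = a ∧ c ^ 6 * b = b}

include hK hgen h2 h3 heq hxy hx hvx hy hvy in
theorem card_aut_eq_card_par :
    Nat.card {σ : K ≃ₐ[k] K // ∀ z : K, P.1 (σ z) = P.1 z} = Nat.card (Par a b) := by
  have hx0 : x ≠ 0 := by rintro rfl; rw [map_zero] at hvx; exact exp_ne_zero hvx.symm
  have hy0 : y ≠ 0 := by rintro rfl; rw [map_zero] at hvy; exact exp_ne_zero hvy.symm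
  have hex := fun σ : {σ : K ≃ₐ[k] K // ∀ z : K, P.1 (σ z) = P.1 z} =>
    exists_scalar hK hgen h2 h3 P a b heq hx hvx hy hvy σ.1 σ.2
  choose c hc0 hc4 hc6 hcx hcy using hex
  have hsmul_inj : ∀ {w : K}, w ≠ 0 → ∀ {s t : k}, s • w = t • w → s = t := by
    intro w hw s t hst
    rw [Algebra.smul_def, Algebra.smul_def] at hst
    exact (algebraMap k K).injective (mul_right_cancel₀ hw hst)
  have hcubesq : ∀ {s t : k}, s ≠ 0 → s ^ 2 = t ^ 2 → s ^ 3 = t ^ 3 → s = t := by
    intro s t hs h2' h3'
    have ht : t ≠ 0 := by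
      rintro rfl
      rw [zero_pow (by norm_num)] at h2'
      exact hs (pow_eq_zero_iff (by norm_num) |>.1 h2')
    have : s * t ^ 2 = t * t ^ 2 := by
      calc s * t ^ 2 = s * s ^ 2 := by rw [h2']
        _ = s ^ 3 := by ring
        _ = t ^ 3 := h3'
        _ = t * t ^ 2 := by ring
    exact mul_right_cancel₀ (pow_ne_zero 2 ht) this
  refine Nat.card_congr (Equiv.ofBijective (fun σ => ⟨c σ, hc0 σ, hc4 σ, hc6 σ⟩) ⟨?_, ?_⟩)
  · intro σ τ hστ
    have hc : c σ = c τ := congrArg Subtype.val hστ
    apply Subtype.ext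
    apply aut_ext hxy
    · rw [hcx σ, hcx τ, hc]
    · rw [hcy σ, hcy τ, hc]
  · rintro ⟨d, hd0, hd4, hd6⟩
    obtain ⟨σ, hσx, hσy, hσP⟩ := exists_aut hK P a b heq hxy hx hvx d hd0 hd4 hd6
    refine ⟨⟨σ, hσP⟩, ?_⟩
    apply Subtype.ext
    change c ⟨σ, hσP⟩ = d
    have e2 : c ⟨σ, hσP⟩ ^ 2 = d ^ 2 := hsmul_inj hx0 ((hcx ⟨σ, hσP⟩).symm.trans hσx)
    have e3 : c ⟨σ, hσP⟩ ^ 3 = d ^ 3 := hsmul_inj hy0 ((hcy ⟨σ, hσP⟩).symm.trans hσy)
    exact hcubesq (hc0 _) e2 e3

omit [IsAlgClosed k] in
def parEquivOfAZero (hb : b ≠ 0) : Par (0 : k) b ≃ {c : k // c ^ 6 = 1} :=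
  Equiv.subtypeEquivRight (fun c => by
    constructor
    · rintro ⟨-, -, h6⟩
      have : (c ^ 6 - 1) * b = 0 := by linear_combination h6
      rcases mul_eq_zero.1 this with h | h
      · linear_combination h
      · exact absurd h hb
    · intro h
      refine ⟨?_, by simp, by rw [h, one_mul]⟩
      rintro rfl
      simp at h)

omit [IsAlgClosed k] in
def parEquivOfBZero (ha : a ≠ 0) : Par a (0 : k) ≃ {c : k // c ^ 4 = 1} :=
  Equiv.subtypeEquivRight (fun c => by
    constructor
    · rintro ⟨-, h4, -⟩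
      have : (c ^ 4 - 1) * a = 0 := by linear_combination h4
      rcases mul_eq_zero.1 this with h | h
      · linear_combination h
      · exact absurd h ha
    · intro h
      refine ⟨?_, by rw [h, one_mul], by simp⟩
      rintro rfl
      simp at h)

omit [IsAlgClosed k] in
def parEquivOfNeZero (ha : a ≠ 0) (hb : b ≠ 0) : Par a b ≃ {c : k // c ^ 2 = 1} :=
  Equiv.subtypeEquivRight (fun c => by
    constructor
    · rintro ⟨hc, h4, h6⟩
      have e4 : c ^ 4 = 1 := by
        have : (c ^ 4 - 1) * a = 0 := by linear_combination h4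
        rcases mul_eq_zero.1 this with h | h
        · linear_combination h
        · exact absurd h ha
      have e6 : c ^ 6 = 1 := by
        have : (c ^ 6 - 1) * b = 0 := by linear_combination h6
        rcases mul_eq_zero.1 this with h | h
        · linear_combination h
        · exact absurd h hb
      calc c ^ 2 = c ^ 2 * c ^ 4 := by rw [e4, mul_one]
        _ = c ^ 6 := by ring
        _ = 1 := e6
    · intro h
      refine ⟨?_, ?_, ?_⟩
      · rintro rfl
        simp at h
      · have : c ^ 4 = 1 := by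
          calc c ^ 4 = (c ^ 2) ^ 2 := by ring
            _ = 1 := by rw [h, one_pow]
        rw [this, one_mul]
      · have : c ^ 6 = 1 := by
          calc c ^ 6 = (c ^ 2) ^ 3 := by ring
            _ = 1 := by rw [h, one_pow]
        rw [this, one_mul])

open Classical in
include hK hgen h2 h3 heq hxy hx hvx hy hvy in
/-- S19397. -/
theorem card_aut (hdisc : 4 * a ^ 3 + 27 * b ^ 2 ≠ 0) :
    Nat.card {σ : K ≃ₐ[k] K // ∀ z : K, P.1 (σ z) = P.1 z} =
      if a = 0 then 6 else if b = 0 then 4 else 2 := by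
  rw [card_aut_eq_card_par hK hgen h2 h3 P a b heq hxy hx hvx hy hvy]
  have h6 : ((6 : ℕ) : k) ≠ 0 := by
    have : ((6 : ℕ) : k) = 2 * 3 := by norm_num
    rw [this]; exact mul_ne_zero h2 h3
  have h4 : ((4 : ℕ) : k) ≠ 0 := by
    have : ((4 : ℕ) : k) = 2 * 2 := by norm_num
    rw [this]; exact mul_ne_zero h2 h2
  have h2' : ((2 : ℕ) : k) ≠ 0 := by simpa using h2
  by_cases ha : a = 0
  · subst ha
    have hb : b ≠ 0 := by
      rintro rfl
      simp at hdisc
    rw [if_pos rfl, Nat.card_congr (parEquivOfAZero b hb), card_pow_eq_one 6 h6]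
  · rw [if_neg ha]
    by_cases hb : b = 0
    · subst hb
      rw [if_pos rfl, Nat.card_congr (parEquivOfBZero a ha), card_pow_eq_one 4 h4]
    · rw [if_neg hb, Nat.card_congr (parEquivOfNeZero a b ha hb), card_pow_eq_one 2 h2']

end final

end EllAut

end FunFld
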