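import Groth.Agent.Lib.Helper5.FunFld.Criterion
import Groth.Agent.Lib.Helper5.FunFld.Weil2
import Groth.Agent.Lib.Helper5.FunFld.LinSeries2
import Groth.Agent.Lib.Helper5.FunFld.Rational

/-! Embedding theorems: complete linear systems whose sections separate points and tangents
(helper5). -/

set_option autoImplicit false

namespace FunFld

open WithZero

variable {k K : Type*} [Field k] [Field K] [Algebra k K]

section

variable [IsAlgClosed k] (hK : IsFunctionField k K)

include hK in
/-- If `ℓ(D - P - Q) = ℓ(D) - 2` for all places `P`, `Q`, then the map given by a basis of `L(D)`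
is nonsingular at every place. -/
theorem isNonsingularAt_of_ell (D : Divisor k K)
    (hell : ∀ P Q : Place k K,
      ell (D - Finsupp.single P 1 - Finsupp.single Q 1) + 2 = ell D)
    {n : ℕ} (φ : Fin (n + 1) → K) (hφ : LinearIndependent k φ)
    (hspan : Submodule.span k (Set.range φ) = L D) (P : Place k K) :
    IsNonsingularAt φ P := by
  classical
  have hφ0 : ∀ i, φ i ≠ 0 := fun i => hφ.ne_zero i
  have hdeg1 : ∀ P : Place k K, P.deg = 1 := fun P => Place.deg_eq_one_of_isAlgClosed hK P
  have hstep : ∀ (E : Divisor k K) (P : Place k K),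
      (ell E : ℤ) ≤ ell (E - Finsupp.single P 1) + 1 := by
    intro E P
    have := ell_sub_le hK (E - Finsupp.single P 1) E (by
      intro R
      rw [Finsupp.sub_apply]
      have := single_nonneg P (by norm_num : (0 : ℤ) ≤ 1) R
      rw [Finsupp.zero_apply] at this
      linarith)
    rw [Divisor.deg_sub, Divisor.deg_single, hdeg1] at this
    push_cast at this
    linarith
  have h1 : ∀ P : Place k K, ell (D - Finsupp.single P 1) + 1 = ell D := by
    intro P
    have a := hstep D P
    have b := hstep (D - Finsupp.single P 1) P
    have c := hell P P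
    omega
  have hfinD := finiteDimensional_L hK D
  have hbpf : ∀ P : Place k K, ∃ f ∈ L D, P.1 f = exp (D P) := by
    intro P
    by_contra hno
    push Not at hno
    have hle : L D ≤ L (D - Finsupp.single P 1) := by
      intro f hf
      rw [mem_L_sub_single_iff hf]
      exact P.v_le_exp_pred_of_lt (lt_of_le_of_ne (hf P) (hno f hf))
    have := finiteDimensional_L hK (D - Finsupp.single P 1)
    have h2 := Submodule.finrank_mono hle
    have h3 := h1 P
    unfold ell at h3
    omega
  have hmap : mapDiv k φ = D := by
    ext P
    apply le_antisymm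
    · rw [mapDiv_apply hK]
      obtain ⟨i, hi⟩ := exists_minOrd_eq φ P
      have hi' : φ i ∈ L D := by rw [← hspan]; exact Submodule.subset_span ⟨i, rfl⟩
      have := hi' P
      rw [P.v_le_exp_iff (hφ0 i)] at this
      omega
    · obtain ⟨f, hf, hfv⟩ := hbpf P
      have hf' : f ∈ L (mapDiv k φ) := span_le_L_mapDiv hK φ (by rw [hspan]; exact hf)
      have := hf' P
      rwa [hfv, exp_le_exp] at this
  have hcard : n + 1 = ell D := by
    have := finrank_span_eq_card hφ
    rw [hspan, Fintype.card_fin] at this
    unfold ell
    omega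
  have hn : 1 ≤ n := by
    have := hell P P
    omega
  rw [isNonsingularAt_iff_codim_two hK hφ0 (nonconst_ratio_of_linearIndependent hn hφ)]
  intro Q
  rw [hmap, hspan]
  have hle : L (D - Finsupp.single P 1 - Finsupp.single Q 1) ≤ L D := L_mono (by
    intro R
    rw [Finsupp.sub_apply, Finsupp.sub_apply]
    have := single_nonneg P (by norm_num : (0 : ℤ) ≤ 1) R
    have := single_nonneg Q (by norm_num : (0 : ℤ) ≤ 1) R
    rw [Finsupp.zero_apply] at *
    linarith)
  rw [inf_eq_right.2 hle]
  exact hell P Q

include hK in
/-- Divisors of degree at least `2g + 1` are very ample. -/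
theorem isNonsingularAt_of_large_deg (D : Divisor k K)
    (hD : 2 * (genus k K : ℤ) + 1 ≤ D.deg) {n : ℕ} (φ : Fin (n + 1) → K)
    (hφ : LinearIndependent k φ) (hspan : Submodule.span k (Set.range φ) = L D)
    (P : Place k K) : IsNonsingularAt φ P := by
  have hdeg1 : ∀ P : Place k K, P.deg = 1 := fun P => Place.deg_eq_one_of_isAlgClosed hK P
  refine isNonsingularAt_of_ell hK D ?_ φ hφ hspan P
  intro P Q
  have e1 := ell_eq_of_large_deg hK (D := D) (by linarith)
  have e2 := ell_eq_of_large_deg hK (D := D - Finsupp.single P 1 - Finsupp.single Q 1) (by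
    rw [Divisor.deg_sub, Divisor.deg_sub, Divisor.deg_single, Divisor.deg_single, hdeg1, hdeg1]
    push_cast; linarith)
  rw [Divisor.deg_sub, Divisor.deg_sub, Divisor.deg_single, Divisor.deg_single, hdeg1, hdeg1]
    at e2
  push_cast at e2
  have : ((ell (D - Finsupp.single P 1 - Finsupp.single Q 1) + 2 : ℕ) : ℤ) = (ell D : ℤ) := by
    push_cast; linarith
  exact_mod_cast this

include hK in
/-- If every nonconstant function has degree at least three, `ℓ(P + Q) = 1`. -/
theorem ell_two_points_of_gonality
    (h2 : ∀ x : K, Transcendental k x →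
      2 < Module.finrank (IntermediateField.adjoin k ({x} : Set K)) K)
    (P Q : Place k K) : ell (Finsupp.single P 1 + Finsupp.single Q 1) = 1 := by
  classical
  have hdeg1 : ∀ P : Place k K, P.deg = 1 := fun P => Place.deg_eq_one_of_isAlgClosed hK P
  set E : Divisor k K := Finsupp.single P 1 + Finsupp.single Q 1 with hE
  have hE0 : 0 ≤ E := add_nonneg (single_nonneg P (by norm_num)) (single_nonneg Q (by norm_num))
  have hfin := finiteDimensional_L hK E
  have hle : L E ≤ 1 := by
    intro x hx
    by_contra hx1
    rw [Submodule.mem_one] at hx1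
    have hxr : x ∉ Set.range (algebraMap k K) := hx1
    have htr := hK.transcendental_of_notMem hxr
    have h3 := h2 x htr
    have h4 := deg_poleDiv hK hxr
    have h5 := Divisor.deg_mono (poleDiv_le_of_mem_L hK hE0 hx)
    rw [h4, hE, Divisor.deg_add, Divisor.deg_single, Divisor.deg_single, hdeg1, hdeg1] at h5
    push_cast at h5
    omega
  apply le_antisymm
  · have hz := ell_zero hK
    have hfin0 := finiteDimensional_L hK (0 : Divisor k K)
    unfold ell at hz ⊢
    have := Submodule.finrank_mono (show L E ≤ L (0 : Divisor k K) from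
      hle.trans_eq (L_zero hK).symm)
    omega
  · have := ell_mono hK hE0
    rwa [ell_zero hK] at this

include hK in
/-- The canonical map of a curve of gonality at least three is an embedding. -/
theorem isNonsingularAt_canonical
    (h2 : ∀ x : K, Transcendental k x →
      2 < Module.finrank (IntermediateField.adjoin k ({x} : Set K)) K)
    (D : Divisor k K) (hD : IsCanonical k K D) {n : ℕ} (φ : Fin (n + 1) → K)
    (hφ : LinearIndependent k φ) (hspan : Submodule.span k (Set.range φ) = L D)
    (P : Place k K) : IsNonsingularAt φ P := by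
  have hdeg1 : ∀ P : Place k K, P.deg = 1 := fun P => Place.deg_eq_one_of_isAlgClosed hK P
  refine isNonsingularAt_of_ell hK D ?_ φ hφ hspan P
  intro P Q
  have hrr := riemann_roch hK hD (Finsupp.single P 1 + Finsupp.single Q 1)
  rw [ell_two_points_of_gonality hK h2 P Q, Divisor.deg_add, Divisor.deg_single,
    Divisor.deg_single, hdeg1, hdeg1, ← sub_sub] at hrr
  push_cast at hrr
  have hc := ell_canonical hK hD
  have : ((ell (D - Finsupp.single P 1 - Finsupp.single Q 1) + 2 : ℕ) : ℤ) = (ell D : ℤ) := by
    rw [hc]; push_cast; linarith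
  exact_mod_cast this

end

end FunFld
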