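import Groth.Agent.Lib.Helper5.FunFld.Discrete
import Mathlib.RingTheory.Valuation.LocalSubring
import Mathlib.LinearAlgebra.Dimension.Free

/-! Existence of places, finiteness of residue degrees (helper5). -/

set_option autoImplicit false

namespace FunFld

open WithZero Polynomial

variable {k K : Type*} [Field k] [Field K] [Algebra k K]

namespace Place

variable (P : Place k K)

lemma mem_maximalIdeal_iff (a : P.O) : a ∈ IsLocalRing.maximalIdeal P.O ↔ P.1 (a : K) < 1 := by
  rw [ValuationSubring.valuation_lt_one_iff,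
    (Valuation.isEquiv_valuation_valuationSubring P.1).lt_one_iff_lt_one]

lemma residue_eq_zero_iff (a : P.O) : IsLocalRing.residue P.O a = 0 ↔ P.1 (a : K) < 1 := by
  rw [IsLocalRing.residue_eq_zero_iff, mem_maximalIdeal_iff]

lemma v_eq_one_of_residue_ne_zero (a : P.O) (h : IsLocalRing.residue P.O a ≠ 0) :
    P.1 (a : K) = 1 := by
  refine le_antisymm (P.mem_O_iff.1 a.2) ?_
  rw [← not_lt, ← P.residue_eq_zero_iff]
  exact h

instance : IsScalarTower k P.O (IsLocalRing.ResidueField P.O) :=
  IsScalarTower.of_algebraMap_eq' rfl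

instance : IsScalarTower k P.O K :=
  IsScalarTower.of_algebraMap_eq' rfl

lemma coe_algebraMap_O (c : k) : ((algebraMap k P.O c : P.O) : K) = algebraMap k K c := rfl

lemma coe_smul_O (c : k) (a : P.O) : ((c • a : P.O) : K) = c • (a : K) := by
  rw [Algebra.smul_def, Algebra.smul_def]; rfl

lemma residue_smul (c : k) (a : P.O) :
    IsLocalRing.residue P.O (c • a) = c • IsLocalRing.residue P.O a := by
  rw [Algebra.smul_def, Algebra.smul_def, map_mul]; rfl

/-- The residue map as a `k`-linear map. -/
noncomputable def resₗ : P.O →ₗ[k] IsLocalRing.ResidueField P.O where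
  toFun := IsLocalRing.residue P.O
  map_add' := map_add _
  map_smul' c a := P.residue_smul c a

@[simp] lemma resₗ_apply (a : P.O) : P.resₗ a = IsLocalRing.residue P.O a := rfl

lemma resₗ_surjective : Function.Surjective P.resₗ := IsLocalRing.residue_surjective

/-- Residue-class independence gives independence over `k(x)` for any `x` vanishing at `P`;
bound on the residue degree. -/
theorem card_le_finrank_of_residue_linearIndependent {x : K} (hx0 : x ≠ 0) (hx1 : P.1 x < 1)
    [FiniteDimensional (IntermediateField.adjoin k ({x} : Set K)) K]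
    {ι : Type*} [Fintype ι] (z : ι → P.O)
    (hz : LinearIndependent k (fun i => IsLocalRing.residue P.O (z i))) :
    Fintype.card ι ≤ Module.finrank (IntermediateField.adjoin k ({x} : Set K)) K := by
  refine card_le_finrank_of_window P.1 P.v_algebraMap_le hx0 hx1 (fun i => (z i : K)) 1 1 ?_
    (fun i => P.mem_O_iff.1 (z i).2) (by rwa [mul_one])
  intro a ha
  have h1 : (∑ i, a i • (z i : K)) = ((∑ i, a i • z i : P.O) : K) := by
    rw [AddSubmonoidClass.coe_finsetSum]
    exact Finset.sum_congr rfl (fun i _ => (P.coe_smul_O _ _).symm)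
  rw [h1]
  refine (P.v_eq_one_of_residue_ne_zero _ ?_).ge
  rw [map_sum]
  simp only [residue_smul]
  intro h0
  rw [Fintype.linearIndependent_iff] at hz
  exact ha (funext (hz a h0))

theorem rank_residueField_le {x : K} (hx0 : x ≠ 0) (hx1 : P.1 x < 1)
    [FiniteDimensional (IntermediateField.adjoin k ({x} : Set K)) K] :
    Module.rank k (IsLocalRing.ResidueField P.O) ≤
      (Module.finrank (IntermediateField.adjoin k ({x} : Set K)) K : ℕ) := by
  classical
  refine rank_le (fun s hs => ?_)
  choose z hz using fun i : s => IsLocalRing.residue_surjective (i : IsLocalRing.ResidueField P.O)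
  have := P.card_le_finrank_of_residue_linearIndependent hx0 hx1 z (by
    simp only [hz]; exact hs)
  simpa using this

theorem finiteDimensional_residueField (hK : IsFunctionField k K) :
    FiniteDimensional k (IsLocalRing.ResidueField P.O) := by
  obtain ⟨t, ht⟩ := P.exists_uniformizer
  have ht0 : t ≠ 0 := by
    rintro rfl
    rw [map_zero] at ht
    exact exp_ne_zero ht.symm
  have ht1 : P.1 t < 1 := by rw [ht, ← exp_zero, exp_lt_exp]; norm_num
  have := hK.finiteDimensional_adjoin' (notMem_range_of_v_lt_one _ P.v_algebraMap_le ht0 ht1)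
  rw [FiniteDimensional, ← Module.rank_lt_aleph0_iff]
  exact lt_of_le_of_lt (P.rank_residueField_le ht0 ht1) Cardinal.natCast_lt_aleph0

theorem deg_le_finrank {x : K} (hx0 : x ≠ 0) (hx1 : P.1 x < 1)
    [FiniteDimensional (IntermediateField.adjoin k ({x} : Set K)) K] :
    P.deg ≤ Module.finrank (IntermediateField.adjoin k ({x} : Set K)) K := by
  have h := P.rank_residueField_le hx0 hx1
  exact Module.finrank_le_of_rank_le h

theorem deg_pos (hK : IsFunctionField k K) : 0 < P.deg := by
  have := P.finiteDimensional_residueField hK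
  exact Module.finrank_pos

end Place

section exist

variable (hK : IsFunctionField k K)

include hK in
/-- A nonconstant element has a zero. -/
theorem exists_place_v_lt_one {x : K} (hx : x ∉ Set.range (algebraMap k K)) :
    ∃ P : Place k K, P.1 x < 1 := by
  have htr := hK.transcendental_of_notMem hx
  have hx0 : x ≠ 0 := by rintro rfl; exact hx ⟨0, map_zero _⟩
  let A : Subring K := (Algebra.adjoin k ({x} : Set K)).toSubring
  have hxA : x ∈ A := Algebra.self_mem_adjoin_singleton k x
  have hI : Ideal.span {(⟨x, hxA⟩ : A)} ≠ ⊤ := by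
    intro htop
    have h1 : (1 : A) ∈ Ideal.span {(⟨x, hxA⟩ : A)} := by rw [htop]; trivial
    rw [Ideal.mem_span_singleton'] at h1
    obtain ⟨a, ha⟩ := h1
    have haA : (a : K) ∈ (aeval (R := k) x).range := by
      rw [← Algebra.adjoin_singleton_eq_range_aeval]; exact a.2
    obtain ⟨p, hp⟩ := haA
    have hrel : aeval x (p * X - 1) = 0 := by
      rw [map_sub, map_mul, aeval_X, map_one]
      have := congrArg (Subtype.val) ha
      simp only [Subring.coe_mul, Subring.coe_one] at this
      have hp' : aeval x p = (a : K) := hp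
      rw [hp', this, sub_self]
    have hne : p * X - 1 ≠ 0 := by
      intro h0
      have := congrArg (fun q => coeff q 0) h0
      simp at this
    exact htr ⟨_, hne, hrel⟩
  obtain ⟨B, hAB, hIB⟩ := Ideal.image_subset_nonunits_valuationSubring _ hI
  have hxB : x ∈ B.nonunits := hIB ⟨⟨x, hxA⟩, Ideal.subset_span rfl, rfl⟩
  have hk : ∀ c : k, algebraMap k K c ∈ B := fun c =>
    hAB ((Algebra.adjoin k ({x} : Set K)).algebraMap_mem c)
  have hB : B ≠ ⊤ := by
    rintro rfl
    rw [ValuationSubring.mem_nonunits_iff_or] at hxB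
    rcases hxB with h | h
    · exact hx0 h
    · exact h (ValuationSubring.mem_top _)
  obtain ⟨P, hP⟩ := exists_place_of_valuationSubring hK B hk hB
  refine ⟨P, ?_⟩
  rw [ValuationSubring.mem_nonunits_iff_or] at hxB
  have hinv : x⁻¹ ∉ P.O := by
    rw [hP]; exact hxB.resolve_left hx0
  rw [P.mem_O_iff, not_le, map_inv₀, one_lt_inv₀ (by
    rw [pos_iff_ne_zero]; exact P.v_ne_zero hx0)] at hinv
  exact hinv

include hK in
theorem exists_place_ord_pos {x : K} (hx : x ∉ Set.range (algebraMap k K)) :
    ∃ P : Place k K, 0 < P.ord x := by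
  obtain ⟨P, hP⟩ := exists_place_v_lt_one hK hx
  have hx0 : x ≠ 0 := by rintro rfl; exact hx ⟨0, map_zero _⟩
  exact ⟨P, (P.v_lt_one_iff hx0).1 hP⟩

omit hK in
lemma inv_notMem_range {x : K} (hx : x ∉ Set.range (algebraMap k K)) :
    x⁻¹ ∉ Set.range (algebraMap k K) := by
  rintro ⟨c, hc⟩
  apply hx
  refine ⟨c⁻¹, ?_⟩
  rw [map_inv₀, hc, inv_inv]

include hK in
theorem exists_place_ord_neg {x : K} (hx : x ∉ Set.range (algebraMap k K)) :
    ∃ P : Place k K, P.ord x < 0 := by
  obtain ⟨P, hP⟩ := exists_place_ord_pos hK (inv_notMem_range hx)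
  rw [P.ord_inv] at hP
  exact ⟨P, by linarith⟩

include hK in
/-- A function field has at least one place. -/
theorem nonempty_place : Nonempty (Place k K) := by
  obtain ⟨⟨x, hx, -⟩, -⟩ := id hK
  have hxr : x ∉ Set.range (algebraMap k K) := by
    rintro ⟨c, rfl⟩
    exact hx (isAlgebraic_algebraMap c)
  obtain ⟨P, -⟩ := exists_place_v_lt_one hK hxr
  exact ⟨P⟩

end exist

end FunFld
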