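import Groth.Agent.Lib.Helper5.FunFld.Indep
import Mathlib.RingTheory.AlgebraicIndependent.TranscendenceBasis
import Mathlib.RingTheory.EssentialFiniteness
import Mathlib.RingTheory.Localization.Integral
import Mathlib.FieldTheory.IntermediateField.Adjoin.Basic

/-! Consequences of `IsFunctionField` (helper5). -/

set_option autoImplicit false

namespace FunFld

variable {k K : Type*} [Field k] [Field K] [Algebra k K]

namespace IsFunctionField

lemma transcendental_of_notMem (hK : IsFunctionField k K) {y : K}
    (hy : y ∉ Set.range (algebraMap k K)) : Transcendental k y := fun h => hy (hK.2 y h)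

open scoped IntermediateField.algebraAdjoinAdjoin in
lemma essFiniteType_adjoin_singleton (x : K) :
    Algebra.EssFiniteType k (IntermediateField.adjoin k ({x} : Set K)) := by
  have : Algebra.FiniteType k (Algebra.adjoin k ({x} : Set K)) :=
    .adjoin_of_finite (Set.finite_singleton x)
  have : Algebra.EssFiniteType (Algebra.adjoin k ({x} : Set K))
      (IntermediateField.adjoin k ({x} : Set K)) :=
    .of_isLocalization _ (nonZeroDivisors _)
  exact .comp _ (Algebra.adjoin k ({x} : Set K)) _

lemma essFiniteType (hK : IsFunctionField k K) : Algebra.EssFiniteType k K := by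
  obtain ⟨⟨x, -, hfin⟩, -⟩ := hK
  have := essFiniteType_adjoin_singleton (k := k) x
  exact .comp k (IntermediateField.adjoin k ({x} : Set K)) K

open scoped IntermediateField.algebraAdjoinAdjoin in
lemma trdeg_eq_one (hK : IsFunctionField k K) : Algebra.trdeg k K = 1 := by
  obtain ⟨⟨x, hx, hfin⟩, -⟩ := hK
  have hxb : IsTranscendenceBasis k (fun _ : PUnit => x) := by
    rw [isTranscendenceBasis_iff_algebraicIndependent_isAlgebraic]
    refine ⟨algebraicIndependent_unique_type_iff.2 hx, ?_⟩
    have hr : Set.range (fun _ : PUnit => x) = {x} := by ext; simp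
    rw [hr]
    have h1 : Algebra.IsAlgebraic (IntermediateField.adjoin k ({x} : Set K)) K :=
      Algebra.IsAlgebraic.of_finite _ _
    exact (IsFractionRing.comap_isAlgebraic_iff (A := Algebra.adjoin k ({x} : Set K))
      (K := IntermediateField.adjoin k ({x} : Set K)) (C := K)).2 h1
  rw [← hxb.cardinalMk_eq_trdeg]; simp

lemma isAlgebraic_adjoin (hK : IsFunctionField k K) {y : K} (hy : Transcendental k y) :
    Algebra.IsAlgebraic (IntermediateField.adjoin k ({y} : Set K)) K := by
  have hyb : IsTranscendenceBasis k (fun _ : PUnit => y) := by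
    refine AlgebraicIndependent.isTranscendenceBasis_of_trdeg_le_of_finite
      (algebraicIndependent_unique_type_iff.2 hy) ?_
    rw [hK.trdeg_eq_one]; simp
  have := hyb.isAlgebraic_field
  have hr : Set.range (fun _ : PUnit => y) = {y} := by ext; simp
  rwa [hr] at this

lemma finiteDimensional_adjoin (hK : IsFunctionField k K) {y : K} (hy : Transcendental k y) :
    FiniteDimensional (IntermediateField.adjoin k ({y} : Set K)) K := by
  have := hK.isAlgebraic_adjoin hy
  have := hK.essFiniteType
  have : Algebra.EssFiniteType (IntermediateField.adjoin k ({y} : Set K)) K :=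
    Algebra.EssFiniteType.of_comp k _ K
  exact Algebra.finite_of_essFiniteType_of_isAlgebraic

lemma finiteDimensional_adjoin' (hK : IsFunctionField k K) {y : K}
    (hy : y ∉ Set.range (algebraMap k K)) :
    FiniteDimensional (IntermediateField.adjoin k ({y} : Set K)) K :=
  hK.finiteDimensional_adjoin (hK.transcendental_of_notMem hy)

end IsFunctionField

section Val

variable {Γ₀ : Type*} [LinearOrderedCommGroupWithZero Γ₀] (v : Valuation K Γ₀)

lemma v_algebraMap_eq_one (hv : ∀ c : k, v (algebraMap k K c) ≤ 1) {c : k} (hc : c ≠ 0) :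
    v (algebraMap k K c) = 1 := by
  have h1 := hv c
  have h2 := hv c⁻¹
  have h3 : v (algebraMap k K c) * v (algebraMap k K c⁻¹) = 1 := by
    rw [← map_mul, ← map_mul, mul_inv_cancel₀ hc, map_one, map_one]
  refine le_antisymm h1 ?_
  by_contra hlt
  rw [not_le] at hlt
  exact absurd h3 (ne_of_lt (mul_lt_one_of_lt_of_le hlt h2))

lemma notMem_range_of_v_lt_one (hv : ∀ c : k, v (algebraMap k K c) ≤ 1) {x : K} (hx0 : x ≠ 0)
    (hx1 : v x < 1) : x ∉ Set.range (algebraMap k K) := by
  rintro ⟨c, rfl⟩
  have hc : c ≠ 0 := by rintro rfl; simp at hx0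
  rw [v_algebraMap_eq_one v hv hc] at hx1
  exact lt_irrefl _ hx1

end Val

end FunFld
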