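import Groth.Agent.Lib.Helper5.FunFld.Conorm
import Mathlib.FieldTheory.Galois.Basic
import Mathlib.RingTheory.Norm.Transitivity

/-! Galois action on places (helper5). -/

set_option autoImplicit false
set_option linter.unusedSectionVars false

namespace FunFld

open WithZero

variable {k K K' : Type*} [Field k] [Field K] [Field K'] [Algebra k K] [Algebra K K'] [Algebra k K']
  [IsScalarTower k K K']

/-- The conjugate place `y ↦ Q (σ y)`. -/
def Place.conj (Q : Place k K') (σ : K' ≃ₐ[K] K') : Place k K' :=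
  ⟨Q.1.comap (σ : K' →+* K'), by
    constructor
    · intro c
      rw [Valuation.comap_apply]
      have : (σ : K' →+* K') (algebraMap k K' c) = algebraMap k K' c := by
        rw [IsScalarTower.algebraMap_apply k K K']
        exact σ.commutes _
      rw [this]
      exact Q.v_algebraMap_le c
    · intro γ
      obtain ⟨y, hy⟩ := Q.surj γ
      refine ⟨σ.symm y, ?_⟩
      rw [Valuation.comap_apply]
      change Q.1 (σ (σ.symm y)) = γ
      rw [AlgEquiv.apply_symm_apply, hy]⟩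

@[simp] lemma Place.conj_apply (Q : Place k K') (σ : K' ≃ₐ[K] K') (y : K') :
    (Q.conj σ).1 y = Q.1 (σ y) := rfl

lemma Place.conj_one (Q : Place k K') : Q.conj (1 : K' ≃ₐ[K] K') = Q :=
  Place.ext' (fun _ => rfl)

lemma Place.conj_mul (Q : Place k K') (σ τ : K' ≃ₐ[K] K') :
    Q.conj (σ * τ) = (Q.conj σ).conj τ :=
  Place.ext' (fun _ => rfl)

lemma IsOverWith.conj {Q : Place k K'} {P : Place k K} {e : ℕ} (h : IsOverWith Q P e)
    (σ : K' ≃ₐ[K] K') : IsOverWith (Q.conj σ) P e := by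
  intro x
  rw [Place.conj_apply, σ.commutes]
  exact h x

lemma IsOver.conj {Q : Place k K'} {P : Place k K} (h : IsOver Q P) (σ : K' ≃ₐ[K] K') :
    IsOver (Q.conj σ) P := by
  obtain ⟨e, he⟩ := h
  exact ⟨e, he.conj σ⟩

lemma Place.ord_conj (Q : Place k K') (σ : K' ≃ₐ[K] K') (y : K') :
    (Q.conj σ).ord y = Q.ord (σ y) := rfl

section galois

variable [FiniteDimensional K K'] [IsGalois K K']

/-- The Galois group acts transitively on the places above a given place. -/
theorem exists_conj_eq {Q₁ Q₂ : Place k K'} {P : Place k K} (h₁ : IsOver Q₁ P)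
    (h₂ : IsOver Q₂ P) : ∃ σ : K' ≃ₐ[K] K', Q₁.conj σ = Q₂ := by
  classical
  by_contra hcon
  push Not at hcon
  set S₁ : Finset (Place k K') := Finset.univ.image (fun σ : K' ≃ₐ[K] K' => Q₁.conj σ) with hS₁
  set S₂ : Finset (Place k K') := Finset.univ.image (fun σ : K' ≃ₐ[K] K' => Q₂.conj σ) with hS₂
  have hdisj : ∀ Q ∈ S₁, Q ∉ S₂ := by
    intro Q hQ1 hQ2
    rw [hS₁, Finset.mem_image] at hQ1
    rw [hS₂, Finset.mem_image] at hQ2
    obtain ⟨σ, -, rfl⟩ := hQ1
    obtain ⟨τ, -, hτ⟩ := hQ2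
    apply hcon (σ * τ⁻¹)
    rw [Place.conj_mul, ← hτ, ← Place.conj_mul, mul_inv_cancel, Place.conj_one]
  obtain ⟨z, hz⟩ := Place.exists_approx_eq (S₁ ∪ S₂) (fun _ => (0 : K'))
    (fun Q => if Q ∈ S₂ then -1 else 0)
  have hz1 : ∀ σ : K' ≃ₐ[K] K', Q₁.1 (σ z) = 1 := by
    intro σ
    have hmem : Q₁.conj σ ∈ S₁ := Finset.mem_image_of_mem _ (Finset.mem_univ σ)
    have := hz _ (Finset.mem_union_left _ hmem)
    rw [if_neg (hdisj _ hmem), sub_zero, exp_zero] at this
    exact this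
  have hz2 : ∀ σ : K' ≃ₐ[K] K', Q₂.1 (σ z) = exp (-1) := by
    intro σ
    have hmem : Q₂.conj σ ∈ S₂ := Finset.mem_image_of_mem _ (Finset.mem_univ σ)
    have := hz _ (Finset.mem_union_right _ hmem)
    rw [if_pos hmem, sub_zero] at this
    exact this
  have hN := Algebra.norm_eq_prod_automorphisms K z
  obtain ⟨e₁, he₁⟩ := h₁
  obtain ⟨e₂, he₂⟩ := h₂
  have h1 : Q₁.1 (algebraMap K K' (Algebra.norm K z)) = 1 := by
    rw [hN, map_prod]
    exact Finset.prod_eq_one (fun σ _ => hz1 σ)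
  have h2 : Q₂.1 (algebraMap K K' (Algebra.norm K z)) < 1 := by
    rw [hN, map_prod]
    simp only [hz2]
    rw [Finset.prod_const, ← exp_nsmul, ← exp_zero, exp_lt_exp]
    have : 0 < (Finset.univ : Finset (K' ≃ₐ[K] K')).card := Finset.card_pos.2 ⟨1, Finset.mem_univ _⟩
    simp only [nsmul_eq_mul, mul_neg, mul_one, Left.neg_neg_iff]
    exact_mod_cast this
  rw [he₂.v_lt_one_iff] at h2
  have h3 := (he₁.v_lt_one_iff (Algebra.norm K z)).2 h2
  rw [h1] at h3
  exact lt_irrefl _ h3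

end galois

end FunFld
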