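import Groth.Agent.Lib.Helper5.FunFld.Galois
import Mathlib.RingTheory.Valuation.RamificationGroup
import Mathlib.GroupTheory.Index

/-! Decomposition groups and counting (helper5). -/

set_option autoImplicit false
set_option linter.unusedSectionVars false

namespace FunFld

open WithZero Pointwise

variable {k K K' : Type*} [Field k] [Field K] [Field K'] [Algebra k K] [Algebra K K'] [Algebra k K']
  [IsScalarTower k K K']

/-- `σ` maps the valuation ring of `Q.conj σ` isomorphically onto that of `Q`. -/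
def Place.conjOEquiv (Q : Place k K') (σ : K' ≃ₐ[K] K') : (Q.conj σ).O ≃+* Q.O where
  toFun y := ⟨σ y, Q.mem_O_iff.2 ((Q.conj σ).mem_O_iff.1 y.2)⟩
  invFun y := ⟨σ.symm y, (Q.conj σ).mem_O_iff.2 (by
    rw [Place.conj_apply, AlgEquiv.apply_symm_apply]; exact Q.mem_O_iff.1 y.2)⟩
  left_inv y := Subtype.ext (σ.symm_apply_apply _)
  right_inv y := Subtype.ext (σ.apply_symm_apply _)
  map_mul' a b := Subtype.ext (map_mul σ _ _)
  map_add' a b := Subtype.ext (map_add σ _ _)

lemma Place.deg_conj (Q : Place k K') (σ : K' ≃ₐ[K] K') : (Q.conj σ).deg = Q.deg := by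
  unfold Place.deg
  refine Algebra.finrank_eq_of_equiv_equiv (RingEquiv.refl k)
    (IsLocalRing.ResidueField.mapEquiv (Q.conjOEquiv σ)) ?_
  ext c
  change IsLocalRing.residue _ (algebraMap k Q.O c) =
    IsLocalRing.residue _ ((Q.conjOEquiv σ) (algebraMap k (Q.conj σ).O c))
  congr 1
  apply Subtype.ext
  change algebraMap k K' c = σ (algebraMap k K' c)
  rw [IsScalarTower.algebraMap_apply k K K', σ.commutes]

lemma Place.conj_O (Q : Place k K') (σ : K' ≃ₐ[K] K') : (Q.conj σ).O = σ⁻¹ • Q.O := by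
  ext y
  rw [ValuationSubring.mem_pointwise_smul_iff_inv_smul_mem, inv_inv, Place.mem_O_iff,
    Place.mem_O_iff]
  rfl

lemma Place.eq_of_O_eq {P Q : Place k K} (h : P.O = Q.O) : P = Q :=
  Place.eq_of_O_le (fun y hy => by rw [← Q.mem_O_iff, ← h, P.mem_O_iff]; exact hy)

lemma mem_decompositionSubgroup_iff (Q : Place k K') (σ : K' ≃ₐ[K] K') :
    σ ∈ Q.O.decompositionSubgroup K ↔ Q.conj σ = Q := by
  rw [← inv_mem_iff, MulAction.mem_stabilizer_iff, ← Place.conj_O]
  exact ⟨Place.eq_of_O_eq, fun h => by rw [h]⟩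

/-- The left action of the Galois group on places. -/
@[reducible] def placeAction : MulAction (K' ≃ₐ[K] K') (Place k K') where
  smul σ Q := Q.conj σ⁻¹
  one_smul Q := by
    change Q.conj (1 : K' ≃ₐ[K] K')⁻¹ = Q
    rw [inv_one, Place.conj_one]
  mul_smul σ τ Q := by
    change Q.conj (σ * τ)⁻¹ = (Q.conj τ⁻¹).conj σ⁻¹
    rw [mul_inv_rev, Place.conj_mul]

section count

variable [FiniteDimensional K K'] [IsGalois K K']

theorem card_isOver_mul_card_decomposition {Q : Place k K'} {P : Place k K} (h : IsOver Q P) :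
    Nat.card {Q' : Place k K' // IsOver Q' P} * Nat.card (Q.O.decompositionSubgroup K) =
      Module.finrank K K' := by
  let _ := placeAction (k := k) (K := K) (K' := K')
  have hstab : MulAction.stabilizer (K' ≃ₐ[K] K') Q = Q.O.decompositionSubgroup K := by
    ext σ
    rw [← inv_mem_iff (x := σ) (H := Q.O.decompositionSubgroup K), mem_decompositionSubgroup_iff,
      MulAction.mem_stabilizer_iff]
    rfl
  have horb : MulAction.orbit (K' ≃ₐ[K] K') Q = {Q' : Place k K' | IsOver Q' P} := by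
    ext Q'
    constructor
    · rintro ⟨σ, rfl⟩
      exact h.conj σ⁻¹
    · intro hQ'
      obtain ⟨σ, hσ⟩ := exists_conj_eq h hQ'
      exact ⟨σ⁻¹, by change Q.conj σ⁻¹⁻¹ = Q'; rw [inv_inv, hσ]⟩
  have h1 := MulAction.index_stabilizer (K' ≃ₐ[K] K') Q
  have h2 := (MulAction.stabilizer (K' ≃ₐ[K] K') Q).card_mul_index
  rw [IsGalois.card_aut_eq_finrank, h1, horb, hstab] at h2
  rw [← h2, mul_comm]
  congr 1

theorem IsOverWith.of_isOver {Q Q' : Place k K'} {P : Place k K} {e : ℕ} (h : IsOverWith Q P e)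
    (h' : IsOver Q' P) : IsOverWith Q' P e ∧ Q'.deg = Q.deg := by
  obtain ⟨σ, rfl⟩ := exists_conj_eq ⟨e, h⟩ h'
  exact ⟨h.conj σ, Q.deg_conj σ⟩

theorem card_decomposition_mul_deg (hK : IsFunctionField k K) {Q : Place k K'} {P : Place k K}
    {e : ℕ} (h : IsOverWith Q P e) :
    Nat.card (Q.O.decompositionSubgroup K) * P.deg = e * Q.deg := by
  classical
  have hfin := finite_isOver (K' := K') hK.isFF1 P
  have h1 := sum_ramIdx_mul_deg hK P hfin.toFinset (fun Q' => by
    rw [Set.Finite.mem_toFinset, Set.mem_ofPred_eq])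
  have h2 : ∑ Q' ∈ hfin.toFinset, ramIdx Q' P * Q'.deg = hfin.toFinset.card * (e * Q.deg) := by
    rw [Finset.sum_const_nat]
    intro Q' hQ'
    rw [Set.Finite.mem_toFinset, Set.mem_ofPred_eq] at hQ'
    obtain ⟨h3, h4⟩ := h.of_isOver hQ'
    rw [h3.ramIdx_eq, h4]
  have h3 := card_isOver_mul_card_decomposition (K := K) ⟨e, h⟩
  have h4 : Nat.card {Q' : Place k K' // IsOver Q' P} = hfin.toFinset.card := by
    rw [← Set.ncard_eq_toFinset_card _ hfin]
    exact Nat.card_coe_set_eq {Q' : Place k K' | IsOver Q' P}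
  rw [h4] at h3
  rw [h2, ← h3] at h1
  have hpos : 0 < hfin.toFinset.card := by
    rw [Finset.card_pos]
    exact ⟨Q, by rw [Set.Finite.mem_toFinset]; exact ⟨e, h⟩⟩
  have : hfin.toFinset.card * (e * Q.deg) =
      hfin.toFinset.card * (Nat.card (Q.O.decompositionSubgroup K) * P.deg) := by
    rw [h1]; ring
  exact (Nat.eq_of_mul_eq_mul_left hpos this).symm

end count

end FunFld
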