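import Groth.Agent.Lib.Helper5.FunFld.StrongApprox
import Groth.Prelude.Def_AdFn

/-! `K / (O_{{P}} + O_P)` has dimension `g` (helper5, S16099). -/

set_option autoImplicit false

namespace FunFld

open WithZero

universe u

variable {k K : Type u} [Field k] [Field K] [Algebra k K]

open Classical in
/-- The repartition with the single component `x` at `P`. -/
noncomputable def atPlace (P : Place k K) : K →ₗ[k] (Place k K → K) :=
  LinearMap.single k (fun _ : Place k K => K) P

lemma atPlace_same (P : Place k K) (x : K) : atPlace P x P = x := by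
  classical
  simp [atPlace]

lemma atPlace_of_ne {P Q : Place k K} (h : Q ≠ P) (x : K) : atPlace P x Q = 0 := by
  classical
  simp [atPlace, Pi.single_eq_of_ne h]

lemma atPlace_mem_adele (P : Place k K) (x : K) : atPlace P x ∈ adele k K := by
  classical
  refine mem_adele_of_finite_support {P} (fun Q hQ => ?_)
  exact atPlace_of_ne (by simpa using hQ) x

/-- The map `K → A/(A(0)+K)`. -/
noncomputable def gapMap (P : Place k K) : K →ₗ[k] (↥(adele k K) ⧸ ADK (0 : Divisor k K)) :=
  (ADK (0 : Divisor k K)).mkQ ∘ₗ (atPlace P).codRestrict (adele k K) (atPlace_mem_adele P)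

lemma ker_gapMap (P : Place k K) :
    LinearMap.ker (gapMap P) =
      Subalgebra.toSubmodule (AdFn.SInt ({P} : Set (Place k K))) ⊔
        Subalgebra.toSubmodule (AdFn.SInt (({P} : Set (Place k K))ᶜ)) := by
  ext x
  rw [LinearMap.mem_ker, gapMap, LinearMap.comp_apply, Submodule.mkQ_apply,
    Submodule.Quotient.mk_eq_zero, ADK, Submodule.mem_comap, Submodule.mem_sup]
  simp only [Submodule.subtype_apply, LinearMap.codRestrict_apply]
  constructor
  · rintro ⟨α, hα, β, ⟨y, rfl⟩, hsum⟩
    rw [Submodule.mem_sup]
    refine ⟨-(-y), ?_, x - y, ?_, by ring⟩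
    · rw [neg_neg, Subalgebra.mem_toSubmodule, AdFn.mem_SInt]
      intro v hv
      have hv' : v ≠ P := by simpa using hv
      have h1 := congrFun hsum v
      rw [Pi.add_apply, diag_apply, atPlace_of_ne hv'] at h1
      have h2 : y = -α v := by linear_combination h1
      rw [h2, Valuation.map_neg]
      have := hα v
      rwa [Finsupp.zero_apply, exp_zero] at this
    · rw [Subalgebra.mem_toSubmodule, AdFn.mem_SInt]
      intro v hv
      have hv' : v = P := by simpa using hv
      subst hv'
      have h1 := congrFun hsum v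
      rw [Pi.add_apply, diag_apply, atPlace_same] at h1
      have h2 : x - y = α v := by linear_combination -h1
      rw [h2]
      have := hα v
      rwa [Finsupp.zero_apply, exp_zero] at this
  · intro hx
    obtain ⟨u, hu, w, hw, rfl⟩ := Submodule.mem_sup.1 hx
    rw [Subalgebra.mem_toSubmodule, AdFn.mem_SInt] at hu hw
    refine ⟨atPlace P (u + w) - diag k K u, ?_, diag k K u, ⟨u, rfl⟩, by abel⟩
    intro v
    rw [Finsupp.zero_apply, exp_zero, Pi.sub_apply, diag_apply]
    by_cases hv : v = P
    · subst hv
      rw [atPlace_same]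
      have : u + w - u = w := by ring
      rw [this]
      exact hw v (by simp)
    · rw [atPlace_of_ne hv, zero_sub, Valuation.map_neg]
      exact hu v (by simpa using hv)

section

variable (hK : IsFunctionField k K)

include hK in
lemma gapMap_surjective (P : Place k K) : Function.Surjective (gapMap P) := by
  classical
  intro q
  obtain ⟨⟨ξ, hξ⟩, rfl⟩ := Submodule.mkQ_surjective _ q
  have hfin : {Q : Place k K | ¬ Q.1 (ξ Q) ≤ 1}.Finite := by
    have : ∀ᶠ Q : Place k K in Filter.cofinite, Q.1 (ξ Q) ≤ 1 := hξ
    rwa [Filter.eventually_cofinite] at this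
  set S : Finset (Place k K) := hfin.toFinset.erase P with hS
  have hPS : P ∉ S := Finset.notMem_erase P _
  obtain ⟨y, hy1, hy2⟩ := exists_strong_approx_le hK P S hPS ξ (fun _ => 0)
  refine ⟨ξ P - y, ?_⟩
  rw [gapMap, LinearMap.comp_apply, Submodule.mkQ_apply, Submodule.mkQ_apply,
    Submodule.Quotient.eq, ADK, Submodule.mem_comap, Submodule.mem_sup]
  refine ⟨atPlace P (ξ P - y) - ξ + diag k K y, ?_, -diag k K y, ⟨-y, by simp⟩, ?_⟩
  · intro v
    rw [Finsupp.zero_apply, exp_zero, Pi.add_apply, Pi.sub_apply, diag_apply]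
    by_cases hv : v = P
    · subst hv
      rw [atPlace_same]
      have : ξ v - y - ξ v + y = 0 := by ring
      rw [this, map_zero]
      exact zero_le_one
    · rw [atPlace_of_ne hv, zero_sub]
      have e : -ξ v + y = y - ξ v := by ring
      rw [e]
      by_cases hvS : v ∈ S
      · have := hy1 v hvS
        rwa [exp_zero] at this
      · have h1 := hy2 v hvS hv
        have h2 : v.1 (ξ v) ≤ 1 := by
          by_contra hcon
          apply hvS
          rw [hS, Finset.mem_erase]
          exact ⟨hv, by simpa using hcon⟩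
        exact (Valuation.map_sub _ _ _).trans (max_le h1 h2)
  · simp only [Submodule.subtype_apply, LinearMap.codRestrict_apply, Submodule.coe_sub]
    abel

include hK in
/-- S16099. -/
theorem finrank_gap_quotient (P : Place k K) :
    FiniteDimensional k (K ⧸ (Subalgebra.toSubmodule (AdFn.SInt ({P} : Set (Place k K))) ⊔
        Subalgebra.toSubmodule (AdFn.SInt (({P} : Set (Place k K))ᶜ)))) ∧
    Module.finrank k (K ⧸ (Subalgebra.toSubmodule (AdFn.SInt ({P} : Set (Place k K))) ⊔
        Subalgebra.toSubmodule (AdFn.SInt (({P} : Set (Place k K))ᶜ)))) = genus k K := by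
  obtain ⟨hfin, hrank⟩ := relQ_adele hK (0 : Divisor k K)
  rw [Divisor.deg_zero, ell_zero hK] at hrank
  have hrank' : Module.finrank k (↥(adele k K) ⧸ ADK (0 : Divisor k K)) = genus k K := by
    have : (Module.finrank k (↥(adele k K) ⧸ ADK (0 : Divisor k K)) : ℤ) = genus k K := by
      rw [hrank]; push_cast; ring
    exact_mod_cast this
  let e1 := (gapMap P).quotKerEquivOfSurjective (gapMap_surjective hK P)
  let e2 := Submodule.quotEquivOfEq _ _ (ker_gapMap P)
  let e := e2.symm.trans e1
  exact ⟨Module.Finite.equiv e.symm, by rw [LinearEquiv.finrank_eq e, hrank']⟩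

end

end FunFld
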