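import Groth.Agent.Lib.Helper5.FunFld.GapQuot

/-! Completed versions (helper5, S16100, S16098). -/

set_option autoImplicit false

namespace AdFn

open WithZero FunFld

universe u

variable {k K : Type u} [Field k] [Field K] [Algebra k K]

/-- `K + Ô_v = K_v`. -/
lemma exists_sub_toKv_mem_Ov (v : Place k K) (z : Kv v) : ∃ x : K, z - toKv v x ∈ Ov v := by
  have hopen : IsOpen {y : Kv v | z - y ∈ Ov v} :=
    (isOpen_Ov v).preimage (continuous_const.sub continuous_id)
  have hne : ({y : Kv v | z - y ∈ Ov v}).Nonempty := ⟨z, by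
    change z - z ∈ Ov v
    rw [sub_self]; exact (Ov v).zero_mem⟩
  obtain ⟨x, hx⟩ :=
    (UniformSpace.Completion.denseRange_coe (α := WithVal v.1)).exists_mem_open hopen hne
  exact ⟨WithVal.ofVal x, hx⟩

lemma span_Ov_le (v : Place k K) {w : Kv v} (hw : w ∈ Submodule.span k (Ov v : Set (Kv v))) :
    w ∈ Ov v := by
  induction hw using Submodule.span_induction with
  | mem x hx => exact hx
  | zero => exact (Ov v).zero_mem
  | add x y _ _ hx hy => exact add_mem hx hy
  | smul c x _ hx =>
    rw [Algebra.smul_def]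
    refine mul_mem ?_ hx
    rw [IsScalarTower.algebraMap_apply k K (Kv v)]
    exact (toKv_mem_Ov v _).2 (v.2.1 c)

/-- The submodule of S16100. -/
noncomputable abbrev gapSub (P : Place k K) : Submodule k (Kv P) :=
  Subalgebra.toSubmodule ((SInt ({P} : Set (Place k K))).map
      (IsScalarTower.toAlgHom k K (Kv P))) ⊔
    Submodule.span k (Ov P : Set (Kv P))

/-- `K → K_P / (O_{{P}} + Ô_P)`. -/
noncomputable def gapMapC (P : Place k K) : K →ₗ[k] (Kv P ⧸ gapSub P) :=
  (gapSub P).mkQ ∘ₗ (IsScalarTower.toAlgHom k K (Kv P)).toLinearMap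

lemma gapMapC_surjective (P : Place k K) : Function.Surjective (gapMapC P) := by
  intro q
  obtain ⟨z, rfl⟩ := Submodule.mkQ_surjective _ q
  obtain ⟨x, hx⟩ := exists_sub_toKv_mem_Ov P z
  refine ⟨x, ?_⟩
  rw [gapMapC, LinearMap.comp_apply, Submodule.mkQ_apply, Submodule.mkQ_apply,
    Submodule.Quotient.eq]
  refine Submodule.mem_sup_right (Submodule.subset_span ?_)
  have : (IsScalarTower.toAlgHom k K (Kv P)).toLinearMap x - z = -(z - toKv P x) := by
    simp
  rw [this]
  exact neg_mem hx

lemma ker_gapMapC (P : Place k K) :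
    LinearMap.ker (gapMapC P) =
      Subalgebra.toSubmodule (SInt ({P} : Set (Place k K))) ⊔
        Subalgebra.toSubmodule (SInt (({P} : Set (Place k K))ᶜ)) := by
  ext x
  rw [LinearMap.mem_ker, gapMapC, LinearMap.comp_apply, Submodule.mkQ_apply,
    Submodule.Quotient.mk_eq_zero, Submodule.mem_sup, Submodule.mem_sup]
  constructor
  · rintro ⟨u', hu', w, hw, hsum⟩
    rw [Subalgebra.mem_toSubmodule, Subalgebra.mem_map] at hu'
    obtain ⟨u, hu, rfl⟩ := hu'
    refine ⟨u, hu, x - u, ?_, by ring⟩
    rw [Subalgebra.mem_toSubmodule, mem_SInt]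
    intro v hv
    have hv' : v = P := by simpa using hv
    subst hv'
    rw [← toKv_mem_Ov]
    have : toKv v (x - u) = w := by
      rw [map_sub]
      have h1 : (IsScalarTower.toAlgHom k K (Kv v)) u + w = toKv v x := hsum
      have h2 : (IsScalarTower.toAlgHom k K (Kv v)) u = toKv v u := rfl
      rw [h2] at h1
      rw [← h1]; ring
    rw [this]
    exact span_Ov_le v hw
  · rintro ⟨u, hu, w, hw, rfl⟩
    refine ⟨toKv P u, ?_, toKv P w, ?_, ?_⟩
    · rw [Subalgebra.mem_toSubmodule, Subalgebra.mem_map]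
      exact ⟨u, hu, rfl⟩
    · refine Submodule.subset_span ((toKv_mem_Ov P w).2 ?_)
      rw [Subalgebra.mem_toSubmodule, mem_SInt] at hw
      exact hw P (by simp)
    · change toKv P u + toKv P w = toKv P (u + w)
      rw [map_add]

/-- S16100. -/
theorem finrank_gap_quotient_completion (hK : IsFunctionField k K) (P : Place k K) :
    FiniteDimensional k (Kv P ⧸ gapSub P) ∧
      Module.finrank k (Kv P ⧸ gapSub P) = genus k K := by
  obtain ⟨hfin, hrank⟩ := FunFld.finrank_gap_quotient hK P
  let e1 := (gapMapC P).quotKerEquivOfSurjective (gapMapC_surjective P)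
  let e2 := Submodule.quotEquivOfEq _ _ (ker_gapMapC P)
  let e := e2.symm.trans e1
  exact ⟨Module.Finite.equiv e, by rw [← LinearEquiv.finrank_eq e, hrank]⟩

/-- S16098. -/
theorem adeleRing_eq_diag_add_integral (hK : IsFunctionField k K) [HasFinitePoles k K]
    (S : Set (Place k K)) (hS : S.Nonempty) :
    (∀ a : AdeleRing k K, ∃ f : K, ∀ v : Place k K, v ∉ S →
        AdeleRing.proj v (a - AdeleRing.diag f) ∈ Ov v) ∧
    (∀ b : AdeleRing k K, (∀ v : Place k K, v ∉ S → AdeleRing.proj v b = 0) →
        ((∃ f : K, ∀ v : Place k K, AdeleRing.proj v (b - AdeleRing.diag f) ∈ Ov v) ↔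
          ∃ f ∈ SInt S, ∀ v ∈ S, AdeleRing.proj v b - toKv v f ∈ Ov v)) := by
  classical
  constructor
  · intro a
    obtain ⟨Pinf, hPinf⟩ := hS
    have hfin : {v : Place k K | ¬ a.1 v ∈ Ov v}.Finite := by
      have := a.2
      rwa [Filter.eventually_cofinite] at this
    choose x hx using fun v : Place k K => exists_sub_toKv_mem_Ov v (a.1 v)
    set S' : Finset (Place k K) := hfin.toFinset.erase Pinf with hS'
    have hPS : Pinf ∉ S' := Finset.notMem_erase Pinf _
    obtain ⟨f, hf1, hf2⟩ := exists_strong_approx_le hK Pinf S' hPS x (fun _ => 0)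
    refine ⟨f, fun v hv => ?_⟩
    have hvP : v ≠ Pinf := fun h => hv (h ▸ hPinf)
    rw [map_sub, AdeleRing.proj_diag, AdeleRing.proj_apply]
    by_cases hvS : v ∈ S'
    · have h1 := hf1 v hvS
      rw [exp_zero] at h1
      have h2 : toKv v (f - x v) ∈ Ov v := (toKv_mem_Ov v _).2 h1
      have : a.1 v - toKv v f = (a.1 v - toKv v (x v)) - toKv v (f - x v) := by
        rw [map_sub]; ring
      rw [this]
      exact sub_mem (hx v) h2
    · have h1 := hf2 v hvS hvP
      have h2 : a.1 v ∈ Ov v := by
        by_contra hcon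
        apply hvS
        rw [hS', Finset.mem_erase]
        exact ⟨hvP, by simpa using hcon⟩
      exact sub_mem h2 ((toKv_mem_Ov v f).2 h1)
  · intro b hb
    constructor
    · rintro ⟨f, hf⟩
      refine ⟨f, ?_, fun v _ => ?_⟩
      · rw [mem_SInt]
        intro v hv
        have := hf v
        rw [map_sub, hb v hv, zero_sub, AdeleRing.proj_diag] at this
        rw [← toKv_mem_Ov]
        simpa using neg_mem this
      · have := hf v
        rwa [map_sub, AdeleRing.proj_diag] at this
    · rintro ⟨f, hfS, hf⟩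
      refine ⟨f, fun v => ?_⟩
      rw [map_sub, AdeleRing.proj_diag]
      by_cases hv : v ∈ S
      · exact hf v hv
      · rw [hb v hv, zero_sub]
        exact neg_mem ((toKv_mem_Ov v f).2 (hfS v hv))

end AdFn
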