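import Groth.Agent.Lib.Helper5.FunFld.LinSeries2

/-! Gap numbers at a place (helper5). -/

set_option autoImplicit false

namespace FunFld

open WithZero

variable {k K : Type*} [Field k] [Field K] [Algebra k K]

/-- `n` is a gap at `P`: no function has a pole of exact order `n` at `P` and no other pole. -/
def IsGap (P : Place k K) (n : ℤ) : Prop :=
  L (Finsupp.single P n : Divisor k K) = L (Finsupp.single P (n - 1))

lemma L_single_mono (P : Place k K) {m n : ℤ} (h : m ≤ n) :
    L (Finsupp.single P m : Divisor k K) ≤ L (Finsupp.single P n) :=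
  L_mono (single_mono P h)

/-- Non-gaps: existence of a function with exact pole order. -/
lemma not_isGap_iff (P : Place k K) (n : ℤ) :
    ¬ IsGap P n ↔ ∃ x ∈ L (Finsupp.single P n : Divisor k K), P.1 x = exp n := by
  classical
  constructor
  · intro h
    have hle := L_single_mono (k := k) P (show n - 1 ≤ n by omega)
    have : ¬ L (Finsupp.single P n : Divisor k K) ≤ L (Finsupp.single P (n - 1)) := by
      intro hge
      exact h (le_antisymm hge hle)
    rw [SetLike.not_le_iff_exists] at this
    obtain ⟨x, hx, hx'⟩ := this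
    exact ⟨x, hx, v_eq_of_mem_L_single hx hx'⟩
  · rintro ⟨x, hx, hv⟩ hgap
    rw [IsGap] at hgap
    rw [hgap] at hx
    have := hx P
    rw [Finsupp.single_eq_same, hv, exp_le_exp] at this
    omega

/-- Non-gaps are closed under addition. -/
lemma not_isGap_add {P : Place k K} {a b : ℤ} (ha : ¬ IsGap P a) (hb : ¬ IsGap P b) :
    ¬ IsGap P (a + b) := by
  classical
  rw [not_isGap_iff] at ha hb ⊢
  obtain ⟨x, hx, hvx⟩ := ha
  obtain ⟨y, hy, hvy⟩ := hb
  refine ⟨x * y, ?_, by rw [map_mul, hvx, hvy, exp_add]⟩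
  intro Q
  rw [map_mul]
  by_cases hQ : Q = P
  · subst hQ
    rw [Finsupp.single_eq_same, hvx, hvy, exp_add]
  · rw [Finsupp.single_eq_of_ne hQ, exp_zero]
    have h1 := v_le_one_of_mem_L_single hQ hx
    have h2 := v_le_one_of_mem_L_single hQ hy
    calc Q.1 x * Q.1 y ≤ 1 * 1 := mul_le_mul' h1 h2
      _ = 1 := one_mul 1

/-- If `n` is a gap then the gaps make up at least half of `1, …, n-1`. -/
theorem gaps_below_gap (P : Place k K) (n : ℕ) (hn : 1 ≤ n) (hgap : IsGap P (n : ℤ)) :
    n - 1 ≤ 2 * Set.ncard {m : ℕ | 1 ≤ m ∧ m < n ∧ IsGap P (m : ℤ)} := by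
  classical
  set G := (Finset.Ico 1 n).filter (fun m : ℕ => IsGap P (m : ℤ)) with hG
  set NG := (Finset.Ico 1 n).filter (fun m : ℕ => ¬ IsGap P (m : ℤ)) with hNG
  have hset : {m : ℕ | 1 ≤ m ∧ m < n ∧ IsGap P (m : ℤ)} = ↑G := by
    ext m
    simp [hG, and_assoc]
  rw [hset, Set.ncard_coe_finset]
  have hsum : G.card + NG.card = n - 1 := by
    rw [hG, hNG, Finset.card_filter_add_card_filter_not, Nat.card_Ico]
  have hle : NG.card ≤ G.card := by
    refine Finset.card_le_card_of_injOn (fun a => n - a) ?_ ?_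
    · intro a ha
      rw [Finset.mem_coe, hNG, Finset.mem_filter, Finset.mem_Ico] at ha
      rw [Finset.mem_coe, hG, Finset.mem_filter, Finset.mem_Ico]
      dsimp only
      have ha1 := ha.1.1
      have ha2 := ha.1.2
      refine ⟨⟨by omega, by omega⟩, ?_⟩
      by_contra hng
      have := not_isGap_add ha.2 hng
      apply this
      have e : (a : ℤ) + ((n - a : ℕ) : ℤ) = n := by
        rw [Nat.cast_sub (by omega)]; ring
      rw [e]
      exact hgap
    · intro a ha b hb hab
      rw [Finset.mem_coe, hNG, Finset.mem_filter, Finset.mem_Ico] at ha hb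
      dsimp only at hab
      have ha1 := ha.1.2
      have hb1 := hb.1.2
      omega
  omega

section count

variable (hK : IsFunctionField k K)

open scoped Classical in
/-- The number of gaps at `P` among `1, …, N`. -/
noncomputable def gapCount (P : Place k K) (N : ℕ) : ℕ :=
  ((Finset.Icc 1 N).filter (fun m : ℕ => IsGap P (m : ℤ))).card

lemma ncard_gaps_le (P : Place k K) (N : ℕ) :
    Set.ncard {m : ℕ | 1 ≤ m ∧ m ≤ N ∧ IsGap P (m : ℤ)} = gapCount P N := by
  classical
  have hset : {m : ℕ | 1 ≤ m ∧ m ≤ N ∧ IsGap P (m : ℤ)} =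
      ↑((Finset.Icc 1 N).filter (fun m : ℕ => IsGap P (m : ℤ))) := by
    ext m
    simp [and_assoc]
  rw [hset, Set.ncard_coe_finset]
  rfl

open scoped Classical in
lemma gapCount_succ (P : Place k K) (N : ℕ) :
    gapCount P (N + 1) = gapCount P N + (if IsGap P ((N + 1 : ℕ) : ℤ) then 1 else 0) := by
  classical
  unfold gapCount
  have : Finset.Icc 1 (N + 1) = insert (N + 1) (Finset.Icc 1 N) := by
    ext m
    simp only [Finset.mem_Icc, Finset.mem_insert]
    omega
  rw [this, Finset.filter_insert]
  split_ifs with h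
  · rw [Finset.card_insert_of_notMem (by simp)]
  · rfl

lemma gapCount_mono (P : Place k K) {n N : ℕ} (h : n ≤ N) : gapCount P n ≤ gapCount P N := by
  classical
  unfold gapCount
  refine Finset.card_le_card (Finset.filter_subset_filter _ ?_)
  intro m hm
  rw [Finset.mem_Icc] at hm ⊢
  omega

/-- A jump of the gap count exhibits a gap. -/
lemma exists_gap_of_gapCount_lt (P : Place k K) {n N : ℕ} (h : gapCount P n < gapCount P N) :
    ∃ m : ℕ, n < m ∧ m ≤ N ∧ IsGap P (m : ℤ) := by
  classical
  by_contra hno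
  push Not at hno
  have : gapCount P N ≤ gapCount P n := by
    unfold gapCount
    refine Finset.card_le_card ?_
    intro m hm
    rw [Finset.mem_filter, Finset.mem_Icc] at hm ⊢
    refine ⟨⟨hm.1.1, ?_⟩, hm.2⟩
    by_contra hlt
    exact hno m (by omega) hm.1.2 hm.2
  omega

/-- If some gap exceeds `n`, gaps make up at least half of `1, …, n`. -/
theorem le_two_mul_gapCount (P : Place k K) (n : ℕ) (h : ∃ m : ℕ, n < m ∧ IsGap P (m : ℤ)) :
    n ≤ 2 * gapCount P n := by
  classical
  set m := Nat.find h with hm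
  have hm1 : n < m ∧ IsGap P (m : ℤ) := Nat.find_spec h
  have hmin : ∀ m' : ℕ, m' < m → ¬ (n < m' ∧ IsGap P (m' : ℤ)) := fun m' h' => Nat.find_min h h'
  have h1 := gaps_below_gap P m (by omega) hm1.2
  have h2 : Set.ncard {m' : ℕ | 1 ≤ m' ∧ m' < m ∧ IsGap P (m' : ℤ)} = gapCount P n := by
    rw [← ncard_gaps_le]
    congr 1
    ext m'
    simp only [Set.mem_ofPred_eq]
    constructor
    · rintro ⟨h1, h2, h3⟩
      refine ⟨h1, ?_, h3⟩
      by_contra hlt
      exact hmin m' h2 ⟨by omega, h3⟩
    · rintro ⟨h1, h2, h3⟩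
      exact ⟨h1, by omega, h3⟩
  rw [h2] at h1
  omega

include hK in
/-- `ℓ(NP) + #gaps ≤ N = N + 1` at a place of degree one. -/
theorem ell_add_gapCount (P : Place k K) (hP : P.deg = 1) (N : ℕ) :
    ell (Finsupp.single P (N : ℤ) : Divisor k K) + gapCount P N = N + 1 := by
  classical
  induction N with
  | zero =>
    simp only [Nat.cast_zero, Finsupp.single_zero]
    rw [ell_zero hK]
    simp [gapCount]
  | succ N ih =>
    rw [gapCount_succ]
    have hle := ell_sub_le hK (Finsupp.single P (N : ℤ) : Divisor k K)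
      (Finsupp.single P ((N + 1 : ℕ) : ℤ)) (single_mono P (by push_cast; omega))
    rw [Divisor.deg_single, Divisor.deg_single, hP] at hle
    have e2 : ((N + 1 : ℕ) : ℤ) * ((1 : ℕ) : ℤ) - (N : ℤ) * ((1 : ℕ) : ℤ) = 1 := by push_cast; ring
    rw [e2] at hle
    have hmono := ell_mono hK (single_mono (k := k) P (show (N : ℤ) ≤ ((N + 1 : ℕ) : ℤ) by
      push_cast; omega))
    have hfin := finiteDimensional_L hK (Finsupp.single P ((N + 1 : ℕ) : ℤ) : Divisor k K)
    split_ifs with hgap
    · rw [IsGap] at hgap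
      have e : ((N + 1 : ℕ) : ℤ) - 1 = (N : ℤ) := by push_cast; ring
      rw [e] at hgap
      have : ell (Finsupp.single P ((N + 1 : ℕ) : ℤ) : Divisor k K) =
          ell (Finsupp.single P (N : ℤ) : Divisor k K) := by
        unfold ell; rw [hgap]
      omega
    · have hlt : ell (Finsupp.single P (N : ℤ) : Divisor k K) <
          ell (Finsupp.single P ((N + 1 : ℕ) : ℤ) : Divisor k K) := by
        refine lt_of_le_of_ne hmono ?_
        intro heq
        apply hgap
        rw [IsGap]
        have e : ((N + 1 : ℕ) : ℤ) - 1 = (N : ℤ) := by push_cast; ring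
        rw [e]
        symm
        exact Submodule.eq_of_le_of_finrank_eq (L_single_mono P (by push_cast; omega)) heq
      omega

include hK in
/-- Weierstrass gap theorem: there are exactly `g` gaps, all at most `2g - 1`. -/
theorem gapCount_eq_genus (P : Place k K) (hP : P.deg = 1) {N : ℕ}
    (hN : 2 * (genus k K : ℤ) - 1 ≤ N) : gapCount P N = genus k K := by
  have h1 := ell_add_gapCount hK P hP N
  have h2 := ell_eq_of_large_deg hK (D := (Finsupp.single P (N : ℤ) : Divisor k K)) (by
    rw [Divisor.deg_single, hP]; simpa using hN)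
  rw [Divisor.deg_single, hP] at h2
  push_cast at h2
  omega

end count

end FunFld
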