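import Groth.Agent.Lib.Helper5.FunFld.StrongApprox

/-! Genus one (helper5). -/

set_option autoImplicit false

namespace FunFld

open WithZero

variable {k K : Type*} [Field k] [Field K] [Algebra k K]

section

variable (hK : IsFunctionField k K)

include hK in
/-- In genus one with a rational point `P₀`, every degree-zero class is `P - P₀` for a unique
rational place `P`. -/
theorem existsUnique_place_of_genus_one (hg : genus k K = 1) (P₀ : Place k K) (hP : P₀.deg = 1)
    (D : Divisor k K) (hD : D.deg = 0) :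
    ∃! P : Place k K, P.deg = 1 ∧
      ∃ x : K, x ≠ 0 ∧ D = Finsupp.single P 1 - Finsupp.single P₀ 1 + div k x := by
  have hdeg1 : (D + Finsupp.single P₀ 1).deg = 1 := by
    rw [Divisor.deg_add, Divisor.deg_single, hD, hP]; norm_num
  have hell : (ell (D + Finsupp.single P₀ 1) : ℤ) = 1 := by
    rw [ell_eq_of_large_deg hK (by rw [hg, hdeg1]; norm_num), hdeg1, hg]; norm_num
  have hpos : 0 < ell (D + Finsupp.single P₀ 1) := by
    have : (0 : ℤ) < ell (D + Finsupp.single P₀ 1) := by omega
    exact_mod_cast this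
  obtain ⟨z, hz0, hz⟩ := (ell_pos_iff hK _).1 hpos
  obtain ⟨P, hP1, hPeq⟩ := exists_single_of_nonneg_of_deg_one hK hz (by
    rw [Divisor.deg_add, deg_div hK, hdeg1]; norm_num)
  refine ⟨P, ⟨hP1, z⁻¹, inv_ne_zero hz0, ?_⟩, ?_⟩
  · rw [div_inv hK, ← hPeq]; abel
  · rintro P' ⟨hP'1, x', hx'0, hx'⟩
    have hrel : Finsupp.single P' 1 - Finsupp.single P 1 = div k (z⁻¹ * x'⁻¹) := by
      rw [div_mul hK (inv_ne_zero hz0) (inv_ne_zero hx'0), div_inv hK, div_inv hK]
      have h1 : D = Finsupp.single P 1 - Finsupp.single P₀ 1 + -div k z := by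
        rw [← hPeq]; abel
      have h2 : Finsupp.single P' 1 = D + Finsupp.single P₀ 1 - div k x' := by
        rw [hx']; abel
      rw [h2, h1]; abel
    exact eq_of_single_sub_single_eq_div hK (by omega) hP'1 hP1
      (mul_ne_zero (inv_ne_zero hz0) (inv_ne_zero hx'0)) hrel

end

end FunFld
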