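import Groth.Agent.Lib.Helper5.FunFld.Criterion

/-! Nonsingularity via a hyperplane of intersection multiplicity one (helper5). -/

set_option autoImplicit false

namespace FunFld

open WithZero

variable {k K : Type*} [Field k] [Field K] [Algebra k K] {ι : Type*}

section

variable [IsAlgClosed k] (hK : IsFunctionField k K) [Fintype ι] [Nonempty ι]

include hK in
theorem isNonsingularAt_iff_hyperplane {φ : ι → K} (hφ : ∀ i, φ i ≠ 0)
    (hnc : ∀ j, ∃ i, φ i / φ j ∉ Set.range (algebraMap k K)) (P : Place k K) :
    IsNonsingularAt φ P ↔ ∃ f ∈ Submodule.span k (Set.range φ), f ≠ 0 ∧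
      ∑ᶠ Q ∈ {Q : Place k K | SameImage φ P Q}, (mapDiv k φ Q + Q.ord f) = 1 := by
  classical
  have hWL := span_le_L_mapDiv (k := k) hK φ
  constructor
  · intro hns
    have hdom := ((isNonsingularAt_iff_param hK hφ hnc P).1 hns).1
    obtain ⟨-, f0, hf0W, hf0v⟩ := (isNonsingularAt_iff_sep hK hφ hnc P).1 hns
    have hf0 : f0 ≠ 0 := by
      rintro rfl
      rw [map_zero] at hf0v
      exact exp_ne_zero hf0v.symm
    refine ⟨f0, hf0W, hf0, ?_⟩
    have hfib : {Q : Place k K | SameImage φ P Q} = {P} := by
      ext Q
      rw [Set.mem_ofPred_eq, Set.mem_singleton_iff]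
      constructor
      · intro h
        exact hdom Q (fun z hz => ((sameImage_iff hK φ hφ P Q).1 h z hz).1)
      · rintro rfl
        exact sameImage_self hK hφ Q
    rw [hfib, finsum_mem_singleton]
    rw [P.v_eq_exp_neg_ord hf0, exp_inj] at hf0v
    omega
  · rintro ⟨f, hfW, hf0, hsum⟩
    set D := mapDiv k φ with hD
    set t : Place k K → ℤ := fun Q => D Q + Q.ord f with ht
    have ht0 : ∀ Q, 0 ≤ t Q := by
      intro Q
      have := hWL hfW Q
      rw [Q.v_le_exp_iff hf0] at this
      rw [ht]; simp only; omega
    have ht1 : ∀ Q, 1 ≤ t Q ↔ Q.1 f < exp (D Q) := by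
      intro Q
      rw [Q.v_lt_exp_iff hf0, ht]; simp only
      constructor <;> intro h <;> omega
    have hsupp : (Function.support t).Finite := by
      refine ((D.support.finite_toSet).union (finite_support_ord hK f)).subset ?_
      intro Q hQ
      rw [Function.mem_support, ht] at hQ
      simp only at hQ
      by_contra hno
      rw [Set.mem_union, not_or] at hno
      have h1 : D Q = 0 := by
        by_contra h
        exact hno.1 (Finset.mem_coe.2 (Finsupp.mem_support_iff.2 h))
      have h2 : Q.ord f = 0 := by
        by_contra h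
        exact hno.2 (Function.mem_support.2 h)
      exact hQ (by rw [h1, h2, add_zero])
    have hfin : ({Q : Place k K | SameImage φ P Q} ∩ Function.support t).Finite :=
      hsupp.subset Set.inter_subset_right
    rw [finsum_mem_eq_sum t hfin] at hsum
    have hPmem : ∀ Q, Q ∈ hfin.toFinset ↔ SameImage φ P Q ∧ t Q ≠ 0 := by
      intro Q
      rw [Set.Finite.mem_toFinset, Set.mem_inter_iff, Set.mem_ofPred_eq, Function.mem_support]
    have hP1 : 1 ≤ t P := by
      by_contra hlt
      have hall : ∀ Q ∈ hfin.toFinset, t Q = 0 := by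
        intro Q hQ
        have hQs := ((hPmem Q).1 hQ).1
        have := SameImage.v_lt_iff hK hφ hQs hfW
        rw [← ht1, ← ht1] at this
        have := ht0 Q
        omega
      rw [Finset.sum_eq_zero hall] at hsum
      exact zero_ne_one hsum
    have hfibge : ∀ Q, SameImage φ P Q → 1 ≤ t Q := by
      intro Q hQs
      have := SameImage.v_lt_iff hK hφ hQs hfW
      rw [← ht1, ← ht1] at this
      exact this.1 hP1
    have hPin : P ∈ hfin.toFinset := (hPmem P).2 ⟨sameImage_self hK hφ P, by omega⟩
    have hfib : ∀ Q, SameImage φ P Q → Q = P := by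
      intro Q hQs
      by_contra hne
      have hQin : Q ∈ hfin.toFinset := (hPmem Q).2 ⟨hQs, by have := hfibge Q hQs; omega⟩
      have hsub : ({P, Q} : Finset (Place k K)) ⊆ hfin.toFinset := by
        intro R hR
        rw [Finset.mem_insert, Finset.mem_singleton] at hR
        rcases hR with rfl | rfl
        · exact hPin
        · exact hQin
      have := Finset.sum_le_sum_of_subset_of_nonneg hsub (f := t) (fun R _ _ => ht0 R)
      rw [Finset.sum_pair (Ne.symm hne), hsum] at this
      have := hfibge Q hQs
      omega
    have htP : t P = 1 := by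
      have := Finset.single_le_sum (f := t) (fun R _ => ht0 R) hPin
      rw [hsum] at this
      omega
    rw [isNonsingularAt_iff_sep hK hφ hnc]
    constructor
    · intro Q hQP
      by_contra hno
      exact hQP (hfib Q (sameImage_of_not_sep hK hφ P Q hno))
    · refine ⟨f, hfW, ?_⟩
      rw [P.v_eq_exp_neg_ord hf0]
      congr 1
      have : mapDiv k φ P + P.ord f = 1 := htP
      omega

end

end FunFld
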