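import Groth.Agent.Lib.Helper5.FunFld.Basic
import Mathlib.FieldTheory.IntermediateField.Adjoin.Algebra
import Mathlib.RingTheory.Localization.Module
import Mathlib.Algebra.Polynomial.AlgebraMap
import Mathlib.Algebra.Polynomial.Degree.Lemmas
import Mathlib.LinearAlgebra.Dimension.Finite

/-! Linear independence over `k(x)` from valuation estimates (helper5). -/

set_option autoImplicit false

namespace FunFld

open Polynomial

variable {k K : Type*} [Field k] [Field K] [Algebra k K]

section Val

variable {Γ₀ : Type*} [LinearOrderedCommGroupWithZero Γ₀] (v : Valuation K Γ₀)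

lemma v_aeval_le_one (hv : ∀ c : k, v (algebraMap k K c) ≤ 1) {x : K} (hx : v x ≤ 1)
    (p : k[X]) : v (aeval x p) ≤ 1 := by
  rw [aeval_eq_sum_range]
  refine Valuation.map_sum_le v (fun i _ => ?_)
  rw [Algebra.smul_def, map_mul, map_pow]
  exact mul_le_one' (hv _) (pow_le_one' hx _)

/-- Core independence lemma: a family `z` whose `k`-combinations have valuation in a window
narrower than `v x` admits no nontrivial polynomial relation `∑ φ i (x) z i = 0`. -/
theorem eq_zero_of_sum_aeval_mul_eq_zero (hv : ∀ c : k, v (algebraMap k K c) ≤ 1) {x : K}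
    (hx0 : x ≠ 0) (hx1 : v x < 1) {ι : Type*} [Fintype ι] (z : ι → K) (m M : Γ₀)
    (hm : ∀ a : ι → k, a ≠ 0 → m ≤ v (∑ i, a i • z i)) (hM : ∀ i, v (z i) ≤ M)
    (hmM : v x * M < m) (φ : ι → k[X]) (h : ∑ i, aeval x (φ i) * z i = 0) : φ = 0 := by
  classical
  induction hN : ∑ i, (φ i).natDegree using Nat.strong_induction_on generalizing φ with
  | _ N ih =>
  by_cases ha : (fun i => (φ i).coeff 0) = 0
  · -- all constant terms vanish: divide by `X`
    have hφ : ∀ i, φ i = X * (φ i).divX := by
      intro i
      have := divX_mul_X_add (φ i)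
      have h0 : (φ i).coeff 0 = 0 := congrFun ha i
      rw [h0, map_zero, add_zero] at this
      rw [mul_comm]; exact this.symm
    by_contra hne
    have hrel : ∑ i, aeval x ((φ i).divX) * z i = 0 := by
      have : x * ∑ i, aeval x ((φ i).divX) * z i = 0 := by
        rw [Finset.mul_sum, ← h]
        refine Finset.sum_congr rfl (fun i _ => ?_)
        conv_rhs => rw [hφ i]
        rw [map_mul, aeval_X, mul_assoc]
      exact (mul_eq_zero.1 this).resolve_left hx0
    have hlt : ∑ i, ((φ i).divX).natDegree < N := by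
      rw [← hN]
      obtain ⟨j, hj⟩ : ∃ j, φ j ≠ 0 := by
        by_contra hall
        exact hne (funext fun i => not_not.1 (not_exists.1 hall i))
      refine Finset.sum_lt_sum (fun i _ => ?_) ⟨j, Finset.mem_univ _, ?_⟩
      · rw [natDegree_divX_eq_natDegree_tsub_one]; exact Nat.sub_le _ _
      · rw [natDegree_divX_eq_natDegree_tsub_one]
        have hdiv : (φ j).divX ≠ 0 := by
          intro h0; apply hj; rw [hφ j, h0, mul_zero]
        have : 0 < (φ j).natDegree := by
          rw [hφ j, natDegree_X_mul hdiv]; exact Nat.succ_pos _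
        omega
    have := ih _ hlt (fun i => (φ i).divX) hrel rfl
    apply hne
    funext i
    rw [hφ i]
    have : (φ i).divX = 0 := congrFun this i
    rw [this, mul_zero]; rfl
  · exfalso
    have hsum : ∑ i, (fun i => (φ i).coeff 0) i • z i =
        -(x * ∑ i, aeval x ((φ i).divX) * z i) := by
      rw [eq_neg_iff_add_eq_zero, ← h, Finset.mul_sum, ← Finset.sum_add_distrib]
      refine Finset.sum_congr rfl (fun i _ => ?_)
      conv_rhs => rw [← divX_mul_X_add (φ i)]
      rw [map_add, map_mul, aeval_X, aeval_C, Algebra.smul_def]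
      ring
    have h1 := hm _ ha
    rw [hsum, Valuation.map_neg, map_mul] at h1
    have h2 : v (∑ i, aeval x ((φ i).divX) * z i) ≤ M := by
      refine Valuation.map_sum_le v (fun i _ => ?_)
      rw [map_mul]
      calc v (aeval x (φ i).divX) * v (z i) ≤ 1 * M :=
            mul_le_mul' (v_aeval_le_one v hv hx1.le _) (hM i)
        _ = M := one_mul _
    have h3 : v x * v (∑ i, aeval x ((φ i).divX) * z i) ≤ v x * M := mul_le_mul_right h2 _
    exact absurd (lt_of_le_of_lt (h1.trans h3) hmM) (lt_irrefl _)

open scoped IntermediateField.algebraAdjoinAdjoin in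
/-- Under the hypotheses of the core lemma, `z` is linearly independent over `k(x)`. -/
theorem linearIndependent_adjoin_of_window (hv : ∀ c : k, v (algebraMap k K c) ≤ 1) {x : K}
    (hx0 : x ≠ 0) (hx1 : v x < 1) {ι : Type*} [Fintype ι] (z : ι → K) (m M : Γ₀)
    (hm : ∀ a : ι → k, a ≠ 0 → m ≤ v (∑ i, a i • z i)) (hM : ∀ i, v (z i) ≤ M)
    (hmM : v x * M < m) : LinearIndependent (IntermediateField.adjoin k ({x} : Set K)) z := by
  rw [← LinearIndependent.iff_fractionRing (Algebra.adjoin k ({x} : Set K))
    (IntermediateField.adjoin k ({x} : Set K))]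
  rw [Fintype.linearIndependent_iff]
  intro g hg
  have hex : ∀ i, ∃ p : k[X], aeval x p = (g i : K) := by
    intro i
    have h1 : (g i : K) ∈ (aeval (R := k) x).range := by
      rw [← Algebra.adjoin_singleton_eq_range_aeval]; exact (g i).2
    exact h1
  choose φ hφ using hex
  have hrel : ∑ i, aeval x (φ i) * z i = 0 := by
    rw [← hg]
    refine Finset.sum_congr rfl (fun i _ => ?_)
    rw [hφ i]; rfl
  have h0 := eq_zero_of_sum_aeval_mul_eq_zero v hv hx0 hx1 z m M hm hM hmM φ hrel
  intro i
  apply Subtype.ext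
  rw [← hφ i, h0]; simp

theorem card_le_finrank_of_window (hv : ∀ c : k, v (algebraMap k K c) ≤ 1) {x : K}
    (hx0 : x ≠ 0) (hx1 : v x < 1)
    [FiniteDimensional (IntermediateField.adjoin k ({x} : Set K)) K]
    {ι : Type*} [Fintype ι] (z : ι → K) (m M : Γ₀)
    (hm : ∀ a : ι → k, a ≠ 0 → m ≤ v (∑ i, a i • z i)) (hM : ∀ i, v (z i) ≤ M)
    (hmM : v x * M < m) :
    Fintype.card ι ≤ Module.finrank (IntermediateField.adjoin k ({x} : Set K)) K :=
  (linearIndependent_adjoin_of_window v hv hx0 hx1 z m M hm hM hmM).fintype_card_le_finrank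

end Val

end FunFld
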