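import Groth.Agent.Lib.Helper5.FunFld.Indep

/-! Linear independence over `k(x)` from independence modulo `x W` (helper5). -/

set_option autoImplicit false

namespace FunFld

open Polynomial

variable {k K : Type*} [Field k] [Field K] [Algebra k K]

lemma aeval_mul_mem_of_mul_mem {x : K} (W : Submodule k K) (hW : ∀ w ∈ W, x * w ∈ W)
    (p : k[X]) {w : K} (hw : w ∈ W) : aeval x p * w ∈ W := by
  have hpow : ∀ n : ℕ, x ^ n * w ∈ W := by
    intro n
    induction n with
    | zero => simpa using hw
    | succ n ih => rw [pow_succ', mul_assoc]; exact hW _ ih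
  rw [aeval_eq_sum_range, Finset.sum_mul]
  refine Submodule.sum_mem _ (fun i _ => ?_)
  rw [smul_mul_assoc]
  exact Submodule.smul_mem _ _ (hpow i)

/-- If `W` is a `k`-subspace of `K` stable under multiplication by `x`, a finite family in `W`
which is `k`-linearly independent modulo `x W` admits no nontrivial polynomial relation. -/
theorem eq_zero_of_sum_aeval_mul_eq_zero_of_mod {x : K} (hx0 : x ≠ 0) (W : Submodule k K)
    (hW : ∀ w ∈ W, x * w ∈ W) {ι : Type*} [Fintype ι] (z : ι → K) (hz : ∀ i, z i ∈ W)
    (hind : ∀ a : ι → k, (∃ w ∈ W, ∑ i, a i • z i = x * w) → a = 0)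
    (φ : ι → k[X]) (h : ∑ i, aeval x (φ i) * z i = 0) : φ = 0 := by
  classical
  induction hN : ∑ i, (φ i).natDegree using Nat.strong_induction_on generalizing φ with
  | _ N ih =>
  by_cases ha : (fun i => (φ i).coeff 0) = 0
  · have hφ : ∀ i, φ i = X * (φ i).divX := by
      intro i
      have := divX_mul_X_add (φ i)
      have h0 : (φ i).coeff 0 = 0 := congrFun ha i
      rw [h0, map_zero, add_zero] at this
      rw [mul_comm]; exact this.symm
    by_contra hne
    have hrel : ∑ i, aeval x ((φ i).divX) * z i = 0 := by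
      have : x * ∑ i, aeval x ((φ i).divX) * z i = 0 := by
        rw [Finset.mul_sum, ← h]
        refine Finset.sum_congr rfl (fun i _ => ?_)
        conv_rhs => rw [hφ i]
        rw [map_mul, aeval_X, mul_assoc]
      exact (mul_eq_zero.1 this).resolve_left hx0
    have hlt : ∑ i, ((φ i).divX).natDegree < N := by
      rw [← hN]
      obtain ⟨j, hj⟩ : ∃ j, φ j ≠ 0 := by
        by_contra hall
        exact hne (funext fun i => not_not.1 (not_exists.1 hall i))
      refine Finset.sum_lt_sum (fun i _ => ?_) ⟨j, Finset.mem_univ _, ?_⟩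
      · rw [natDegree_divX_eq_natDegree_tsub_one]; exact Nat.sub_le _ _
      · rw [natDegree_divX_eq_natDegree_tsub_one]
        have hdiv : (φ j).divX ≠ 0 := by
          intro h0; apply hj; rw [hφ j, h0, mul_zero]
        have : 0 < (φ j).natDegree := by
          rw [hφ j, natDegree_X_mul hdiv]; exact Nat.succ_pos _
        omega
    have := ih _ hlt (fun i => (φ i).divX) hrel rfl
    apply hne
    funext i
    rw [hφ i]
    have : (φ i).divX = 0 := congrFun this i
    rw [this, mul_zero]; rfl
  · exfalso
    apply ha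
    apply hind
    refine ⟨-∑ i, aeval x ((φ i).divX) * z i, ?_, ?_⟩
    · refine Submodule.neg_mem _ (Submodule.sum_mem _ (fun i _ => ?_))
      exact aeval_mul_mem_of_mul_mem W hW _ (hz i)
    · rw [mul_neg, eq_neg_iff_add_eq_zero, ← h, Finset.mul_sum, ← Finset.sum_add_distrib]
      refine Finset.sum_congr rfl (fun i _ => ?_)
      conv_rhs => rw [← divX_mul_X_add (φ i)]
      rw [map_add, map_mul, aeval_X, aeval_C, Algebra.smul_def]
      ring

open scoped IntermediateField.algebraAdjoinAdjoin in
theorem linearIndependent_adjoin_of_mod {x : K} (hx0 : x ≠ 0) (W : Submodule k K)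
    (hW : ∀ w ∈ W, x * w ∈ W) {ι : Type*} [Fintype ι] (z : ι → K) (hz : ∀ i, z i ∈ W)
    (hind : ∀ a : ι → k, (∃ w ∈ W, ∑ i, a i • z i = x * w) → a = 0) :
    LinearIndependent (IntermediateField.adjoin k ({x} : Set K)) z := by
  rw [← LinearIndependent.iff_fractionRing (Algebra.adjoin k ({x} : Set K))
    (IntermediateField.adjoin k ({x} : Set K))]
  rw [Fintype.linearIndependent_iff]
  intro g hg
  have hex : ∀ i, ∃ p : k[X], aeval x p = (g i : K) := by
    intro i
    have h1 : (g i : K) ∈ (aeval (R := k) x).range := by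
      rw [← Algebra.adjoin_singleton_eq_range_aeval]; exact (g i).2
    exact h1
  choose φ hφ using hex
  have hrel : ∑ i, aeval x (φ i) * z i = 0 := by
    rw [← hg]
    refine Finset.sum_congr rfl (fun i _ => ?_)
    rw [hφ i]; rfl
  have h0 := eq_zero_of_sum_aeval_mul_eq_zero_of_mod hx0 W hW z hz hind φ hrel
  intro i
  apply Subtype.ext
  rw [← hφ i, h0]; simp

theorem card_le_finrank_of_mod {x : K} (hx0 : x ≠ 0)
    [FiniteDimensional (IntermediateField.adjoin k ({x} : Set K)) K] (W : Submodule k K)
    (hW : ∀ w ∈ W, x * w ∈ W) {ι : Type*} [Fintype ι] (z : ι → K) (hz : ∀ i, z i ∈ W)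
    (hind : ∀ a : ι → k, (∃ w ∈ W, ∑ i, a i • z i = x * w) → a = 0) :
    Fintype.card ι ≤ Module.finrank (IntermediateField.adjoin k ({x} : Set K)) K :=
  (linearIndependent_adjoin_of_mod hx0 W hW z hz hind).fintype_card_le_finrank

end FunFld
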