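import Groth.Agent.Lib.Helper5.FunFld.Div
import Mathlib.LinearAlgebra.FiniteDimensional.Lemmas
import Mathlib.RingTheory.Finiteness.Finsupp

/-! Riemann–Roch spaces: finiteness and the basic dimension estimate (helper5). -/

set_option autoImplicit false

namespace FunFld

open WithZero

variable {k K : Type*} [Field k] [Field K] [Algebra k K]

lemma mem_L {D : Divisor k K} {x : K} : x ∈ L D ↔ ∀ P : Place k K, P.1 x ≤ exp (D P) := Iff.rfl

lemma L_mono {D₁ D₂ : Divisor k K} (h : D₁ ≤ D₂) : L D₁ ≤ L D₂ := fun _ hx P =>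
  (hx P).trans (exp_le_exp.2 (h P))

namespace Divisor

lemma deg_zero : (0 : Divisor k K).deg = 0 := by simp [Divisor.deg]

lemma deg_add (D₁ D₂ : Divisor k K) : (D₁ + D₂).deg = D₁.deg + D₂.deg := by
  unfold Divisor.deg
  exact Finsupp.sum_add_index' (fun _ => by simp) (fun _ _ _ => by ring)

lemma deg_neg (D : Divisor k K) : (-D).deg = -D.deg := by
  have h := deg_add D (-D)
  rw [add_neg_cancel, deg_zero] at h
  linarith

lemma deg_sub (D₁ D₂ : Divisor k K) : (D₁ - D₂).deg = D₁.deg - D₂.deg := by
  rw [sub_eq_add_neg, deg_add, deg_neg]; ring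

lemma deg_single (P : Place k K) (n : ℤ) :
    Divisor.deg (Finsupp.single P n : Divisor k K) = n * P.deg := by
  unfold Divisor.deg
  rw [Finsupp.sum_single_index]; simp

lemma deg_nsmul (n : ℕ) (D : Divisor k K) : (n • D).deg = n * D.deg := by
  induction n with
  | zero => simp [deg_zero]
  | succ n ih => rw [succ_nsmul, deg_add, ih]; push_cast; ring

/-- Induction principle for effective divisors. -/
theorem induction_nonneg {p : Divisor k K → Prop} (h0 : p 0)
    (hadd : ∀ (E : Divisor k K) (P : Place k K), 0 ≤ E → p E → p (E + Finsupp.single P 1)) :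
    ∀ E : Divisor k K, 0 ≤ E → p E := by
  classical
  intro E
  induction E using Finsupp.induction with
  | zero => exact fun _ => h0
  | single_add a b f ha hb ih =>
    intro hE
    have hf : 0 ≤ f := by
      intro Q
      by_cases hQ : Q = a
      · subst hQ
        rw [Finsupp.notMem_support_iff.1 ha]; rfl
      · have := hE Q
        rwa [Finsupp.add_apply, Finsupp.single_eq_of_ne hQ, zero_add] at this
    have hb0 : 0 ≤ b := by
      have := hE a
      rwa [Finsupp.add_apply, Finsupp.single_eq_same, Finsupp.notMem_support_iff.1 ha,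
        add_zero] at this
    have hpf := ih hf
    have key : ∀ n : ℕ, p (f + Finsupp.single a (n : ℤ)) ∧ 0 ≤ f + Finsupp.single a (n : ℤ) := by
      intro n
      induction n with
      | zero => simpa using ⟨hpf, hf⟩
      | succ n ihn =>
        have e : f + Finsupp.single a ((n + 1 : ℕ) : ℤ) =
            (f + Finsupp.single a (n : ℤ)) + Finsupp.single a 1 := by
          rw [add_assoc, ← Finsupp.single_add]; push_cast; rfl
        rw [e]
        refine ⟨hadd _ a ihn.2 ihn.1, add_nonneg ihn.2 ?_⟩
        intro Q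
        by_cases hQ : Q = a
        · subst hQ; simp
        · rw [Finsupp.single_eq_of_ne hQ]; rfl
    obtain ⟨n, rfl⟩ := Int.eq_ofNat_of_zero_le hb0
    rw [add_comm]
    exact (key n).1

end Divisor

section step

variable (D : Divisor k K) (P : Place k K)

/-- The "leading coefficient" map `L(D + P) → F_P`, with kernel `L(D)`. -/
theorem exists_linearMap_L_step :
    ∃ φ : L (D + Finsupp.single P 1) →ₗ[k] IsLocalRing.ResidueField P.O,
      ∀ y : L (D + Finsupp.single P 1), φ y = 0 ↔ (y : K) ∈ L D := by
  classical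
  obtain ⟨t, ht⟩ := P.exists_v_eq (-(D P + 1))
  have hmem : ∀ y : L (D + Finsupp.single P 1), t * (y : K) ∈ P.O := by
    intro y
    rw [P.mem_O_iff, map_mul, ht]
    have := y.2 P
    rw [Finsupp.add_apply, Finsupp.single_eq_same] at this
    calc exp (-(D P + 1)) * P.1 (y : K) ≤ exp (-(D P + 1)) * exp (D P + 1) :=
          mul_le_mul_right this _
      _ = 1 := by rw [← exp_add]; simp
  let ψ : L (D + Finsupp.single P 1) →ₗ[k] P.O :=
    { toFun := fun y => ⟨t * (y : K), hmem y⟩
      map_add' := fun y z => by
        apply Subtype.ext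
        simp [mul_add]
      map_smul' := fun c y => by
        apply Subtype.ext
        rw [RingHom.id_apply, P.coe_smul_O]
        simp [mul_smul_comm] }
  refine ⟨P.resₗ.comp ψ, fun y => ?_⟩
  rw [LinearMap.comp_apply, Place.resₗ_apply, P.residue_eq_zero_iff]
  change P.1 (t * (y : K)) < 1 ↔ _
  rw [map_mul, ht]
  have hy := y.2
  constructor
  · intro h Q
    by_cases hQ : Q = P
    · subst hQ
      have h1 : Q.1 (y : K) < exp (D Q) * exp 1 := by
        have := mul_lt_mul_of_pos_left h (a := exp (D Q + 1)) exp_pos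
        rw [← mul_assoc, ← exp_add, mul_one] at this
        simpa [exp_add] using this
      exact (lt_mul_exp_iff_le exp_ne_zero).1 h1
    · have := hy Q
      rwa [Finsupp.add_apply, Finsupp.single_eq_of_ne hQ, add_zero] at this
  · intro h
    have h1 : P.1 (y : K) < exp (D P) * exp 1 := (lt_mul_exp_iff_le exp_ne_zero).2 (h P)
    calc exp (-(D P + 1)) * P.1 (y : K) < exp (-(D P + 1)) * (exp (D P) * exp 1) :=
          mul_lt_mul_of_pos_left h1 exp_pos
      _ = 1 := by rw [← exp_add, ← exp_add]; simp

include D P in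
/-- One step of the dimension estimate. -/
theorem finiteDimensional_L_step (hK : IsFunctionField k K) (hfin : FiniteDimensional k (L D)) :
    FiniteDimensional k (L (D + Finsupp.single P 1)) ∧
      ell (D + Finsupp.single P 1) ≤ ell D + P.deg := by
  obtain ⟨φ, hφ⟩ := exists_linearMap_L_step D P
  have hle : L D ≤ L (D + Finsupp.single P 1) := L_mono (by
    intro Q
    by_cases hQ : Q = P
    · subst hQ; simp
    · simp [Finsupp.single_eq_of_ne hQ])
  have hker : LinearMap.ker φ = Submodule.comap (L (D + Finsupp.single P 1)).subtype (L D) := by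
    ext y
    rw [LinearMap.mem_ker, hφ]; rfl
  let e : LinearMap.ker φ ≃ₗ[k] L D :=
    (LinearEquiv.ofEq _ _ hker).trans (Submodule.comapSubtypeEquivOfLe hle)
  have h1 : FiniteDimensional k (LinearMap.ker φ) := Module.Finite.equiv e.symm
  have := P.finiteDimensional_residueField hK
  have h2 : FiniteDimensional k (L (D + Finsupp.single P 1) ⧸ LinearMap.ker φ) :=
    Module.Finite.equiv (φ.quotKerEquivRange).symm
  have h3 : FiniteDimensional k (L (D + Finsupp.single P 1)) :=
    Module.Finite.of_submodule_quotient (LinearMap.ker φ)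
  refine ⟨h3, ?_⟩
  have h4 := LinearMap.finrank_range_add_finrank_ker φ
  have h5 : Module.finrank k (LinearMap.ker φ) = ell D := LinearEquiv.finrank_eq e
  have h6 : Module.finrank k (LinearMap.range φ) ≤ P.deg := Submodule.finrank_le _
  unfold ell at *
  omega

end step

section finiteness

variable (hK : IsFunctionField k K)

include hK in
/-- Elements without poles are constant. -/
theorem L_zero : L (0 : Divisor k K) = 1 := by
  ext x
  rw [Submodule.mem_one]
  constructor
  · intro hx
    by_contra hx'
    have hx' : x ∉ Set.range (algebraMap k K) := hx'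
    have hx0 : x ≠ 0 := by rintro rfl; exact hx' ⟨0, map_zero _⟩
    obtain ⟨P, hP⟩ := exists_place_ord_neg hK hx'
    have := hx P
    rw [Finsupp.zero_apply, exp_zero, P.v_le_one_iff hx0] at this
    omega
  · rintro ⟨c, rfl⟩ P
    rw [Finsupp.zero_apply, exp_zero]
    exact P.v_algebraMap_le c

include hK in
theorem ell_zero : ell (0 : Divisor k K) = 1 := by
  rw [ell, L_zero hK, Submodule.one_eq_span]
  exact finrank_span_singleton one_ne_zero

include hK in
theorem finiteDimensional_L_zero : FiniteDimensional k (L (0 : Divisor k K)) := by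
  rw [L_zero hK, Submodule.one_eq_span]
  exact FiniteDimensional.span_singleton k (1 : K)

include hK in
theorem finiteDimensional_L_add_of_nonneg (D : Divisor k K) (hD : FiniteDimensional k (L D)) :
    ∀ E : Divisor k K, 0 ≤ E → (FiniteDimensional k (L (D + E)) ∧
      (ell (D + E) : ℤ) ≤ ell D + E.deg) := by
  refine Divisor.induction_nonneg ?_ ?_
  · rw [add_zero]
    refine ⟨hD, ?_⟩
    rw [Divisor.deg_zero (k := k) (K := K), add_zero]
  · intro E P _ ⟨h1, h2⟩
    have := finiteDimensional_L_step (D + E) P hK h1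
    rw [← add_assoc]
    refine ⟨this.1, ?_⟩
    rw [Divisor.deg_add, Divisor.deg_single]
    have h3 : (ell (D + E + Finsupp.single P 1) : ℤ) ≤ ell (D + E) + P.deg := by
      exact_mod_cast this.2
    linarith

include hK in
/-- `L(D)` is finite-dimensional. -/
theorem finiteDimensional_L (D : Divisor k K) : FiniteDimensional k (L D) := by
  have h0 := finiteDimensional_L_zero hK
  have hpos : (0 : Divisor k K) ≤ D ⊔ 0 := le_sup_right
  have := (finiteDimensional_L_add_of_nonneg hK 0 h0 (D ⊔ 0) hpos).1
  rw [zero_add] at this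
  exact Submodule.finiteDimensional_of_le (L_mono (le_sup_left : D ≤ D ⊔ 0))

include hK in
/-- `ℓ(D₂) - ℓ(D₁) ≤ deg D₂ - deg D₁` for `D₁ ≤ D₂`. -/
theorem ell_sub_le (D₁ D₂ : Divisor k K) (h : D₁ ≤ D₂) :
    (ell D₂ : ℤ) - ell D₁ ≤ D₂.deg - D₁.deg := by
  have hE : (0 : Divisor k K) ≤ D₂ - D₁ := sub_nonneg.2 h
  have := (finiteDimensional_L_add_of_nonneg hK D₁ (finiteDimensional_L hK D₁) _ hE).2
  rw [add_sub_cancel, Divisor.deg_sub] at this
  linarith

include hK in
theorem ell_mono {D₁ D₂ : Divisor k K} (h : D₁ ≤ D₂) : ell D₁ ≤ ell D₂ := by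
  have := finiteDimensional_L hK D₂
  exact Submodule.finrank_mono (L_mono h)

include hK in
theorem ell_le_deg_add_one {D : Divisor k K} (hD : 0 ≤ D) : (ell D : ℤ) ≤ D.deg + 1 := by
  have := ell_sub_le hK 0 D hD
  rw [ell_zero hK, Divisor.deg_zero] at this
  push_cast at this
  linarith

end finiteness

end FunFld
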