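import Groth.Agent.Lib.Helper5.FunFld.Degree

/-! Consequences of `deg (x) = 0` for the spaces `L(D)` (helper5). -/

set_option autoImplicit false

namespace FunFld

open WithZero

variable {k K : Type*} [Field k] [Field K] [Algebra k K]

section

variable (hK : IsFunctionField k K)

include hK in
lemma mem_L_iff_div {D : Divisor k K} {x : K} (hx : x ≠ 0) : x ∈ L D ↔ 0 ≤ D + div k x := by
  rw [mem_L]
  constructor
  · intro h P
    have := (P.v_le_exp_iff hx).1 (h P)
    rw [Finsupp.add_apply, div_apply hK]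
    change (0 : ℤ) ≤ _
    omega
  · intro h P
    rw [P.v_le_exp_iff hx]
    have := h P
    rw [Finsupp.add_apply, div_apply hK] at this
    change (0 : ℤ) ≤ _ at this
    omega

include hK in
/-- `x y ∈ L(D) ↔ y ∈ L(D + (x))`. -/
theorem mul_mem_L_iff (D : Divisor k K) {x : K} (y : K) (hx : x ≠ 0) :
    x * y ∈ L D ↔ y ∈ L (D + div k x) := by
  rcases eq_or_ne y 0 with rfl | hy
  · simp
  · rw [mem_L_iff_div hK (mul_ne_zero hx hy), mem_L_iff_div hK hy, div_mul hK hx hy, add_assoc]

include hK in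
/-- `L(D) = 0` when `deg D < 0`. -/
theorem L_eq_bot_of_deg_neg {D : Divisor k K} (h : D.deg < 0) : L D = ⊥ := by
  rw [Submodule.eq_bot_iff]
  intro x hx
  by_contra hx0
  have h1 := (mem_L_iff_div hK hx0).1 hx
  have h2 := Divisor.deg_nonneg h1
  rw [Divisor.deg_add, deg_div hK, add_zero] at h2
  omega

include hK in
theorem ell_eq_zero_of_deg_neg {D : Divisor k K} (h : D.deg < 0) : ell D = 0 := by
  rw [ell, L_eq_bot_of_deg_neg hK h]; simp

include hK in
theorem L_ne_bot_iff (D : Divisor k K) : L D ≠ ⊥ ↔ ∃ x : K, x ≠ 0 ∧ 0 ≤ D + div k x := by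
  rw [Submodule.ne_bot_iff]
  constructor
  · rintro ⟨x, hx, hx0⟩
    exact ⟨x, hx0, (mem_L_iff_div hK hx0).1 hx⟩
  · rintro ⟨x, hx0, hx⟩
    exact ⟨x, (mem_L_iff_div hK hx0).2 hx, hx0⟩

include hK in
theorem ell_pos_iff (D : Divisor k K) : 0 < ell D ↔ ∃ x : K, x ≠ 0 ∧ 0 ≤ D + div k x := by
  have := finiteDimensional_L hK D
  rw [← L_ne_bot_iff hK, ell, Module.finrank_pos_iff, Submodule.nontrivial_iff_ne_bot]

include hK in
/-- Same divisor implies proportional. -/
theorem exists_smul_eq_of_ord_eq {x y : K} (hx : x ≠ 0) (hy : y ≠ 0)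
    (h : ∀ P : Place k K, P.ord x = P.ord y) : ∃ c : k, x = c • y := by
  have hmem : x / y ∈ L (0 : Divisor k K) := by
    intro P
    rw [Finsupp.zero_apply, exp_zero, P.v_le_one_iff (div_ne_zero hx hy), P.ord_div hx hy, h P]
    omega
  rw [L_zero hK, Submodule.mem_one] at hmem
  obtain ⟨c, hc⟩ := hmem
  refine ⟨c, ?_⟩
  rw [Algebra.smul_def, hc, div_mul_cancel₀ _ hy]

include hK in
/-- Linearly equivalent divisors have isomorphic `L`-spaces. -/
theorem ell_add_div (D : Divisor k K) {x : K} (hx : x ≠ 0) : ell (D + div k x) = ell D := by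
  let f : L (D + div k x) →ₗ[k] L D :=
    { toFun := fun y => ⟨x * y, (mul_mem_L_iff hK D y hx).2 y.2⟩
      map_add' := fun a b => by apply Subtype.ext; simp [mul_add]
      map_smul' := fun c a => by apply Subtype.ext; simp [mul_smul_comm] }
  have hinj : Function.Injective f := by
    intro a b hab
    have := congrArg Subtype.val hab
    simp only [f, LinearMap.coe_mk, AddHom.coe_mk] at this
    exact Subtype.ext (mul_left_cancel₀ hx this)
  have hsurj : Function.Surjective f := by
    intro z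
    refine ⟨⟨x⁻¹ * z, ?_⟩, ?_⟩
    · rw [← mul_mem_L_iff hK D _ hx, mul_inv_cancel_left₀ hx]; exact z.2
    · apply Subtype.ext
      simp only [f, LinearMap.coe_mk, AddHom.coe_mk]
      exact mul_inv_cancel_left₀ hx _
  exact LinearEquiv.finrank_eq (LinearEquiv.ofBijective f ⟨hinj, hsurj⟩)

end

end FunFld
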