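import Groth.Agent.Lib.Helper5.FunFld.MapDiv
import Groth.Agent.Lib.Helper5.FunFld.Genus0

/-! The local ring of a projective map at a place (helper5). -/

set_option autoImplicit false

namespace FunFld

open WithZero

variable {k K : Type*} [Field k] [Field K] [Algebra k K] {ι : Type*}

/-- `j` indexes a nonzero entry of least order at `P`. -/
def IsLeast (φ : ι → K) (P : Place k K) (j : ι) : Prop :=
  φ j ≠ 0 ∧ ∀ i, P.1 (φ i) ≤ P.1 (φ j)

/-- The affine coordinate ring with respect to the entry `j`. -/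
def affRing (k : Type*) [Field k] [Algebra k K] (φ : ι → K) (j : ι) : Subalgebra k K :=
  Algebra.adjoin k (Set.range fun i => φ i / φ j)

lemma inLocRing_iff (φ : ι → K) (P : Place k K) (z : K) :
    InLocRing φ P z ↔ ∃ j, IsLeast φ P j ∧ ∃ u ∈ affRing k φ j, ∃ w ∈ affRing k φ j,
      P.1 w = 1 ∧ z * w = u := by
  constructor
  · rintro ⟨j, h1, h2, h3⟩; exact ⟨j, ⟨h1, h2⟩, h3⟩
  · rintro ⟨j, ⟨h1, h2⟩, h3⟩; exact ⟨j, h1, h2, h3⟩

lemma ratio_mem_affRing (φ : ι → K) (j i : ι) : φ i / φ j ∈ affRing k φ j :=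
  Algebra.subset_adjoin ⟨i, rfl⟩

lemma IsLeast.v_ratio_le {φ : ι → K} {P : Place k K} {j : ι} (hj : IsLeast φ P j) (i : ι) :
    P.1 (φ i / φ j) ≤ 1 := by
  rw [map_div₀]
  exact div_le_one_of_le₀ (hj.2 i) zero_le

/-- Elements of the affine ring at a least-order index are integral at `P`. -/
lemma IsLeast.v_le_one_of_mem {φ : ι → K} {P : Place k K} {j : ι} (hj : IsLeast φ P j) {a : K}
    (ha : a ∈ affRing k φ j) : P.1 a ≤ 1 := by
  change a ∈ Algebra.adjoin k _ at ha
  induction ha using Algebra.adjoin_induction with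
  | mem x hx => obtain ⟨i, rfl⟩ := hx; exact hj.v_ratio_le i
  | algebraMap r => exact P.v_algebraMap_le r
  | add x y _ _ hx hy => exact (P.1.map_add x y).trans (max_le hx hy)
  | mul x y _ _ hx hy => rw [map_mul]; exact mul_le_one' hx hy

lemma InLocRing.v_le_one {φ : ι → K} {P : Place k K} {z : K} (h : InLocRing φ P z) :
    P.1 z ≤ 1 := by
  obtain ⟨j, hj, u, hu, w, hw, hw1, hzw⟩ := (inLocRing_iff φ P z).1 h
  have := hj.v_le_one_of_mem hu
  rw [← hzw, map_mul, hw1, mul_one] at this
  exact this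

/-- Change of the reference index: an element of the affine ring at `j'` becomes an element of
the affine ring at `j` after multiplication by a power of `φ j' / φ j`. -/
lemma exists_pow_mul_mem_affRing (φ : ι → K) {j j' : ι} (hj : φ j ≠ 0) (hj' : φ j' ≠ 0) {a : K}
    (ha : a ∈ affRing k φ j') :
    ∃ N : ℕ, ∀ M : ℕ, N ≤ M → a * (φ j' / φ j) ^ M ∈ affRing k φ j := by
  have hs : φ j' / φ j ∈ affRing k φ j := ratio_mem_affRing φ j j'
  change a ∈ Algebra.adjoin k _ at ha
  induction ha using Algebra.adjoin_induction with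
  | mem x hx =>
    obtain ⟨i, rfl⟩ := hx
    refine ⟨1, fun M hM => ?_⟩
    obtain ⟨M', rfl⟩ : ∃ M', M = M' + 1 := ⟨M - 1, by omega⟩
    have : φ i / φ j' * (φ j' / φ j) ^ (M' + 1) = (φ i / φ j) * (φ j' / φ j) ^ M' := by
      rw [pow_succ]; field_simp
    rw [this]
    exact Subalgebra.mul_mem _ (ratio_mem_affRing φ j i) (Subalgebra.pow_mem _ hs _)
  | algebraMap r =>
    refine ⟨0, fun M _ => ?_⟩
    exact Subalgebra.mul_mem _ (Subalgebra.algebraMap_mem _ r) (Subalgebra.pow_mem _ hs _)
  | add x y _ _ hx hy =>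
    obtain ⟨N1, h1⟩ := hx
    obtain ⟨N2, h2⟩ := hy
    refine ⟨max N1 N2, fun M hM => ?_⟩
    rw [add_mul]
    exact Subalgebra.add_mem _ (h1 M (le_trans (le_max_left _ _) hM))
      (h2 M (le_trans (le_max_right _ _) hM))
  | mul x y _ _ hx hy =>
    obtain ⟨N1, h1⟩ := hx
    obtain ⟨N2, h2⟩ := hy
    refine ⟨N1 + N2, fun M hM => ?_⟩
    have : x * y * (φ j' / φ j) ^ M = (x * (φ j' / φ j) ^ N1) * (y * (φ j' / φ j) ^ (M - N1)) := by
      rw [mul_mul_mul_comm, ← pow_add]
      congr 2; omega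
    rw [this]
    exact Subalgebra.mul_mem _ (h1 N1 le_rfl) (h2 (M - N1) (by omega))

/-- The local ring does not depend on the index of least order used. -/
lemma InLocRing.exists_of_isLeast {φ : ι → K} {P : Place k K} {z : K} (h : InLocRing φ P z)
    {j : ι} (hj : IsLeast φ P j) :
    ∃ u ∈ affRing k φ j, ∃ w ∈ affRing k φ j, P.1 w = 1 ∧ z * w = u := by
  obtain ⟨j', hj', u, hu, w, hw, hw1, hzw⟩ := (inLocRing_iff φ P z).1 h
  obtain ⟨N1, h1⟩ := exists_pow_mul_mem_affRing φ hj.1 hj'.1 hu
  obtain ⟨N2, h2⟩ := exists_pow_mul_mem_affRing φ hj.1 hj'.1 hw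
  set s := φ j' / φ j with hs
  have hs1 : P.1 s = 1 := by
    rw [hs, map_div₀, le_antisymm (hj.2 j') (hj'.2 j)]
    exact div_self (P.v_ne_zero hj.1)
  refine ⟨u * s ^ (max N1 N2), h1 _ (le_max_left _ _), w * s ^ (max N1 N2),
    h2 _ (le_max_right _ _), ?_, ?_⟩
  · rw [map_mul, map_pow, hw1, hs1, one_pow, one_mul]
  · rw [← hzw]; ring

lemma Place.v_le_exp_neg_one_of_lt_one (P : Place k K) {x : K} (h : P.1 x < 1) :
    P.1 x ≤ exp (-1) := by
  rcases eq_or_ne x 0 with rfl | hx
  · simp
  · rw [P.v_lt_one_iff hx] at h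
    rw [P.v_le_exp_iff hx]
    omega

/-- Common residues: if the ratios have the same residues at `P` and `Q`, so has every element
of the affine ring. -/
lemma exists_common_residue {φ : ι → K} {P Q : Place k K} {j : ι} (hjP : IsLeast φ P j)
    (hjQ : IsLeast φ Q j) (c : ι → k)
    (hcP : ∀ i, P.1 (φ i / φ j - algebraMap k K (c i)) < 1)
    (hcQ : ∀ i, Q.1 (φ i / φ j - algebraMap k K (c i)) < 1) {a : K} (ha : a ∈ affRing k φ j) :
    ∃ a0 : k, P.1 (a - algebraMap k K a0) < 1 ∧ Q.1 (a - algebraMap k K a0) < 1 := by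
  change a ∈ Algebra.adjoin k _ at ha
  induction ha using Algebra.adjoin_induction with
  | mem x hx => obtain ⟨i, rfl⟩ := hx; exact ⟨c i, hcP i, hcQ i⟩
  | algebraMap r => exact ⟨r, by simp, by simp⟩
  | add x y _ _ hx hy =>
    obtain ⟨x0, hx1, hx2⟩ := hx
    obtain ⟨y0, hy1, hy2⟩ := hy
    refine ⟨x0 + y0, ?_, ?_⟩
    · have : x + y - algebraMap k K (x0 + y0) =
          (x - algebraMap k K x0) + (y - algebraMap k K y0) := by rw [map_add]; ring
      rw [this]
      exact lt_of_le_of_lt (P.1.map_add _ _) (max_lt hx1 hy1)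
    · have : x + y - algebraMap k K (x0 + y0) =
          (x - algebraMap k K x0) + (y - algebraMap k K y0) := by rw [map_add]; ring
      rw [this]
      exact lt_of_le_of_lt (Q.1.map_add _ _) (max_lt hx2 hy2)
  | mul x y hxm hym hx hy =>
    obtain ⟨x0, hx1, hx2⟩ := hx
    obtain ⟨y0, hy1, hy2⟩ := hy
    refine ⟨x0 * y0, ?_, ?_⟩
    · have : x * y - algebraMap k K (x0 * y0) =
          x * (y - algebraMap k K y0) + (x - algebraMap k K x0) * algebraMap k K y0 := by
        rw [map_mul]; ring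
      rw [this]
      refine lt_of_le_of_lt (P.1.map_add _ _) (max_lt ?_ ?_)
      · rw [map_mul]
        exact mul_lt_one_of_nonneg_of_lt_one_right (hjP.v_le_one_of_mem hxm) zero_le hy1
      · rw [map_mul]
        exact mul_lt_one_of_nonneg_of_lt_one_left zero_le hx1 (P.v_algebraMap_le y0)
    · have : x * y - algebraMap k K (x0 * y0) =
          x * (y - algebraMap k K y0) + (x - algebraMap k K x0) * algebraMap k K y0 := by
        rw [map_mul]; ring
      rw [this]
      refine lt_of_le_of_lt (Q.1.map_add _ _) (max_lt ?_ ?_)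
      · rw [map_mul]
        exact mul_lt_one_of_nonneg_of_lt_one_right (hjQ.v_le_one_of_mem hxm) zero_le hy2
      · rw [map_mul]
        exact mul_lt_one_of_nonneg_of_lt_one_left zero_le hx2 (Q.v_algebraMap_le y0)

/-- An integral element is a non-unit iff its residue vanishes. -/
lemma Place.v_lt_one_iff_of_residue (P : Place k K) {a : K} {a0 : k}
    (h : P.1 (a - algebraMap k K a0) < 1) : P.1 a < 1 ↔ a0 = 0 := by
  constructor
  · intro ha
    by_contra h0
    have h1 : P.1 (algebraMap k K a0) = 1 := P.v_algebraMap h0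
    have : algebraMap k K a0 = a - (a - algebraMap k K a0) := by ring
    rw [this] at h1
    have h2 := lt_of_le_of_lt (Valuation.map_sub P.1 a (a - algebraMap k K a0)) (max_lt ha h)
    rw [h1] at h2
    exact lt_irrefl _ h2
  · rintro rfl
    simpa using h

/-- A tuple of nonzero functions over a finite index type has an entry of least order. -/
lemma exists_isLeast [Finite ι] [Nonempty ι] (φ : ι → K) (hφ : ∀ i, φ i ≠ 0) (P : Place k K) :
    ∃ j, IsLeast φ P j := by
  classical
  have := Fintype.ofFinite ι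
  obtain ⟨j, -, hj⟩ := Finset.exists_max_image Finset.univ (fun i => P.1 (φ i))
    Finset.univ_nonempty
  exact ⟨j, hφ j, fun i => hj i (Finset.mem_univ i)⟩

lemma inLocRing_of_mem_affRing {φ : ι → K} {P : Place k K} {j : ι} (hj : IsLeast φ P j) {a : K}
    (ha : a ∈ affRing k φ j) : InLocRing φ P a :=
  (inLocRing_iff φ P a).2 ⟨j, hj, a, ha, 1, Subalgebra.one_mem _, map_one _, mul_one a⟩

section sameimage

variable [IsAlgClosed k] (hK : IsFunctionField k K)

include hK in
/-- The fibre of a projective map over the image of `P`, in terms of the local ring. -/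
theorem sameImage_iff [Finite ι] [Nonempty ι] (φ : ι → K) (hφ : ∀ i, φ i ≠ 0)
    (P Q : Place k K) :
    SameImage φ P Q ↔
      ∀ z : K, InLocRing φ P z → (Q.1 z ≤ 1 ∧ (Q.1 z < 1 ↔ P.1 z < 1)) := by
  constructor
  · rintro ⟨j, hj0, hjP, hjQ, hc⟩ z hz
    have hlP : IsLeast φ P j := ⟨hj0, hjP⟩
    have hlQ : IsLeast φ Q j := ⟨hj0, hjQ⟩
    choose c hcP hcQ using hc
    obtain ⟨u, hu, w, hw, hw1, hzw⟩ := hz.exists_of_isLeast hlP
    obtain ⟨u0, hu1, hu2⟩ := exists_common_residue hlP hlQ c hcP hcQ hu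
    obtain ⟨w0, hw1', hw2⟩ := exists_common_residue hlP hlQ c hcP hcQ hw
    have hw0 : w0 ≠ 0 := by
      intro h0
      have := (P.v_lt_one_iff_of_residue hw1').2 h0
      rw [hw1] at this
      exact lt_irrefl _ this
    have hQw : Q.1 w = 1 := by
      refine le_antisymm (hlQ.v_le_one_of_mem hw) ?_
      by_contra hlt
      rw [not_le] at hlt
      exact hw0 ((Q.v_lt_one_iff_of_residue hw2).1 hlt)
    have hQz : Q.1 z = Q.1 u := by rw [← hzw, map_mul, hQw, mul_one]
    have hPz : P.1 z = P.1 u := by rw [← hzw, map_mul, hw1, mul_one]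
    refine ⟨by rw [hQz]; exact hlQ.v_le_one_of_mem hu, ?_⟩
    rw [hQz, hPz, Q.v_lt_one_iff_of_residue hu2, P.v_lt_one_iff_of_residue hu1]
  · intro h
    obtain ⟨j, hj⟩ := exists_isLeast φ hφ P
    have hψ : ∀ i, InLocRing φ P (φ i / φ j) := fun i =>
      inLocRing_of_mem_affRing hj (ratio_mem_affRing φ j i)
    have hQle : ∀ i, Q.1 (φ i) ≤ Q.1 (φ j) := by
      intro i
      have := (h _ (hψ i)).1
      rw [map_div₀] at this
      have hpos : 0 < Q.1 (φ j) := pos_iff_ne_zero.2 (Q.v_ne_zero hj.1)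
      rwa [div_le_one₀ hpos] at this
    refine ⟨j, hj.1, hj.2, hQle, fun i => ?_⟩
    obtain ⟨c, hc⟩ := P.exists_const_sub_lt (Place.deg_eq_one_of_isAlgClosed hK P)
      (hj.v_ratio_le i)
    refine ⟨c, hc, ?_⟩
    have hmem : φ i / φ j - algebraMap k K c ∈ affRing k φ j :=
      Subalgebra.sub_mem _ (ratio_mem_affRing φ j i) (Subalgebra.algebraMap_mem _ c)
    exact (h _ (inLocRing_of_mem_affRing hj hmem)).2.2 hc

end sameimage

section spans

lemma div_mem_span_ratio (φ : ι → K) (j : ι) {f : K} (hf : f ∈ Submodule.span k (Set.range φ)) :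
    f / φ j ∈ Submodule.span k (Set.range fun i => φ i / φ j) := by
  induction hf using Submodule.span_induction with
  | mem x hx => obtain ⟨i, rfl⟩ := hx; exact Submodule.subset_span ⟨i, rfl⟩
  | zero => rw [zero_div]; exact Submodule.zero_mem _
  | add x y _ _ hx hy => rw [add_div]; exact Submodule.add_mem _ hx hy
  | smul c x _ hx => rw [smul_div_assoc]; exact Submodule.smul_mem _ c hx

lemma mul_mem_span_of_mem_span_ratio (φ : ι → K) {j : ι} (hj : φ j ≠ 0) {l : K}
    (hl : l ∈ Submodule.span k (Set.range fun i => φ i / φ j)) :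
    l * φ j ∈ Submodule.span k (Set.range φ) := by
  induction hl using Submodule.span_induction with
  | mem x hx =>
    obtain ⟨i, rfl⟩ := hx
    rw [div_mul_cancel₀ _ hj]
    exact Submodule.subset_span ⟨i, rfl⟩
  | zero => rw [zero_mul]; exact Submodule.zero_mem _
  | add x y _ _ hx hy => rw [add_mul]; exact Submodule.add_mem _ hx hy
  | smul c x _ hx => rw [smul_mul_assoc]; exact Submodule.smul_mem _ c hx

lemma span_ratio_le_affRing (φ : ι → K) (j : ι) :
    Submodule.span k (Set.range fun i => φ i / φ j) ≤ Subalgebra.toSubmodule (affRing k φ j) := by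
  rw [Submodule.span_le]
  rintro _ ⟨i, rfl⟩
  exact ratio_mem_affRing φ j i

/-- For a normalized effective map, the entries of least order at `P` are units at `P`. -/
lemma IsLeast.v_eq_one_of_effective {φ : ι → K} {P : Place k K} {j : ι} (hj : IsLeast φ P j)
    (heff : (1 : K) ∈ Submodule.span k (Set.range φ)) (hnorm : ∀ i, P.1 (φ i) ≤ 1) :
    P.1 (φ j) = 1 := by
  refine le_antisymm (hnorm j) ?_
  by_contra hlt
  rw [not_le] at hlt
  have hall : ∀ f ∈ Submodule.span k (Set.range φ), P.1 f < 1 := by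
    intro f hf
    induction hf using Submodule.span_induction with
    | mem x hx => obtain ⟨i, rfl⟩ := hx; exact lt_of_le_of_lt (hj.2 i) hlt
    | zero => simp
    | add x y _ _ hx hy => exact lt_of_le_of_lt (P.1.map_add _ _) (max_lt hx hy)
    | smul c x _ hx =>
      rw [Algebra.smul_def, map_mul]
      exact mul_lt_one_of_nonneg_of_lt_one_right (P.v_algebraMap_le c) zero_le hx
  have := hall 1 heff
  rw [map_one] at this
  exact lt_irrefl _ this

lemma exists_isLeast_of_effective [Finite ι] {φ : ι → K} {P : Place k K}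
    (heff : (1 : K) ∈ Submodule.span k (Set.range φ)) (hnorm : ∀ i, P.1 (φ i) ≤ 1) :
    ∃ j, IsLeast φ P j ∧ P.1 (φ j) = 1 := by
  by_contra hno
  push Not at hno
  have hlt : ∀ i, P.1 (φ i) < 1 := by
    intro i
    refine lt_of_le_of_ne (hnorm i) ?_
    intro h1
    have hi0 : φ i ≠ 0 := by
      intro h0; rw [h0, map_zero] at h1; exact zero_ne_one h1
    exact hno i ⟨hi0, fun i' => by rw [h1]; exact hnorm i'⟩ h1
  have hall : ∀ f ∈ Submodule.span k (Set.range φ), P.1 f < 1 := by
    intro f hf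
    induction hf using Submodule.span_induction with
    | mem x hx => obtain ⟨i, rfl⟩ := hx; exact hlt i
    | zero => simp
    | add x y _ _ hx hy => exact lt_of_le_of_lt (P.1.map_add _ _) (max_lt hx hy)
    | smul c x _ hx =>
      rw [Algebra.smul_def, map_mul]
      exact mul_lt_one_of_nonneg_of_lt_one_right (P.v_algebraMap_le c) zero_le hx
  have := hall 1 heff
  rw [map_one] at this
  exact lt_irrefl _ this

/-- Modulo the square of the maximal ideal, the affine ring is spanned by the ratios. -/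
lemma exists_span_approx {φ : ι → K} {P : Place k K} (hP : P.deg = 1) {j : ι}
    (hj : IsLeast φ P j) {a : K} (ha : a ∈ affRing k φ j) :
    ∃ l ∈ Submodule.span k (Set.range fun i => φ i / φ j), P.1 (a - l) ≤ exp (-2) := by
  have hone : (1 : K) ∈ Submodule.span k (Set.range fun i => φ i / φ j) := by
    refine Submodule.subset_span ⟨j, ?_⟩
    exact div_self hj.1
  have hint : ∀ l ∈ Submodule.span k (Set.range fun i => φ i / φ j), P.1 l ≤ 1 :=
    fun l hl => hj.v_le_one_of_mem (span_ratio_le_affRing φ j hl)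
  change a ∈ Algebra.adjoin k _ at ha
  induction ha using Algebra.adjoin_induction with
  | mem x hx => exact ⟨x, Submodule.subset_span hx, by simp⟩
  | algebraMap r =>
    refine ⟨r • (1 : K), Submodule.smul_mem _ r hone, ?_⟩
    rw [Algebra.smul_def, mul_one, sub_self, map_zero]; exact zero_le
  | add x y _ _ hx hy =>
    obtain ⟨l1, hl1, h1⟩ := hx
    obtain ⟨l2, hl2, h2⟩ := hy
    refine ⟨l1 + l2, Submodule.add_mem _ hl1 hl2, ?_⟩
    have : x + y - (l1 + l2) = (x - l1) + (y - l2) := by ring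
    rw [this]
    exact (P.1.map_add _ _).trans (max_le h1 h2)
  | mul x y hxm hym hx hy =>
    obtain ⟨l1, hl1, h1⟩ := hx
    obtain ⟨l2, hl2, h2⟩ := hy
    obtain ⟨a0, ha0⟩ := P.exists_const_sub_lt hP (hint l1 hl1)
    obtain ⟨b0, hb0⟩ := P.exists_const_sub_lt hP (hint l2 hl2)
    refine ⟨(a0 * b0) • (1 : K) + a0 • (l2 - b0 • (1 : K)) + b0 • (l1 - a0 • (1 : K)), ?_, ?_⟩
    · refine Submodule.add_mem _ (Submodule.add_mem _ (Submodule.smul_mem _ _ hone) ?_) ?_
      · exact Submodule.smul_mem _ _ (Submodule.sub_mem _ hl2 (Submodule.smul_mem _ _ hone))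
      · exact Submodule.smul_mem _ _ (Submodule.sub_mem _ hl1 (Submodule.smul_mem _ _ hone))
    · have e : x * y - ((a0 * b0) • (1 : K) + a0 • (l2 - b0 • (1 : K)) +
          b0 • (l1 - a0 • (1 : K))) =
          x * (y - l2) + (x - l1) * l2 +
            (l1 - algebraMap k K a0) * (l2 - algebraMap k K b0) := by
        simp only [Algebra.smul_def, mul_one, map_mul]
        ring
      rw [e]
      have hx1 : P.1 x ≤ 1 := hj.v_le_one_of_mem hxm
      refine (P.1.map_add _ _).trans (max_le ((P.1.map_add _ _).trans (max_le ?_ ?_)) ?_)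
      · rw [map_mul]
        calc P.1 x * P.1 (y - l2) ≤ 1 * exp (-2) := mul_le_mul' hx1 h2
          _ = exp (-2) := one_mul _
      · rw [map_mul]
        calc P.1 (x - l1) * P.1 l2 ≤ exp (-2) * 1 := mul_le_mul' h1 (hint l2 hl2)
          _ = exp (-2) := mul_one _
      · rw [map_mul]
        calc _ ≤ exp (-1) * exp (-1) :=
              mul_le_mul' (P.v_le_exp_neg_one_of_lt_one ha0) (P.v_le_exp_neg_one_of_lt_one hb0)
          _ = exp (-2) := by rw [← exp_add]; norm_num

end spans

section param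

variable [IsAlgClosed k] (hK : IsFunctionField k K)

include hK in
/-- The local ring of a normalized effective map has a local parameter iff its span has. -/
theorem exists_param_inLocRing_iff [Finite ι] (φ : ι → K) (P : Place k K)
    (heff : (1 : K) ∈ Submodule.span k (Set.range φ)) (hnorm : ∀ i, P.1 (φ i) ≤ 1) :
    (∃ t : K, InLocRing φ P t ∧ P.1 t = exp (-1)) ↔
      ∃ t ∈ Submodule.span k (Set.range φ), P.1 t = exp (-1) := by
  have hdP := Place.deg_eq_one_of_isAlgClosed hK P
  constructor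
  · rintro ⟨t, ht, htv⟩
    obtain ⟨j, hj, u, hu, w, hw, hw1, hzw⟩ := (inLocRing_iff φ P t).1 ht
    have hφj := hj.v_eq_one_of_effective heff hnorm
    obtain ⟨l, hl, hlv⟩ := exists_span_approx hdP hj hu
    have huv : P.1 u = exp (-1) := by rw [← hzw, map_mul, hw1, mul_one, htv]
    have hlv' : P.1 l = exp (-1) := by
      have : l = u - (u - l) := by ring
      rw [this, Valuation.map_sub_eq_of_lt_left, huv]
      rw [huv]
      exact lt_of_le_of_lt hlv (by rw [exp_lt_exp]; norm_num)
    refine ⟨l * φ j, mul_mem_span_of_mem_span_ratio φ hj.1 hl, ?_⟩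
    rw [map_mul, hlv', hφj, mul_one]
  · rintro ⟨t, ht, htv⟩
    obtain ⟨j, hj, hφj⟩ := exists_isLeast_of_effective heff hnorm
    refine ⟨t, (inLocRing_iff φ P t).2 ⟨j, hj, t / φ j, ?_, 1 / φ j, ?_, ?_, ?_⟩, htv⟩
    · exact span_ratio_le_affRing φ j (div_mem_span_ratio φ j ht)
    · exact span_ratio_le_affRing φ j (div_mem_span_ratio φ j heff)
    · rw [map_div₀, map_one, hφj, _root_.div_one]
    · rw [mul_one_div]

end param

end FunFld
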