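import Groth.Agent.Lib.Helper5.FunFld.Criterion
import Groth.Agent.Lib.Helper5.FunFld.Weil2
import Groth.Agent.Lib.Helper5.FunFld.Degree
import Mathlib.RingTheory.PowerBasis
import Mathlib.RingTheory.AlgebraTower

/-! Plane models: generic coordinates, independence of reduced monomials, and the genus bound
(helper5). -/

set_option autoImplicit false

namespace FunFld

open WithZero

variable {k K : Type*} [Field k] [Field K] [Algebra k K]

section indep

variable (hK : IsFunctionField k K)

include hK in
/-- If `K = k(x, y)` with `x` transcendental, then `y` generates `K` over `k(x)` and its minimal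
polynomial has degree `[K : k(x)]`. -/
lemma natDegree_minpoly_eq_finrank {x y : K} (hx : Transcendental k x)
    (hxy : IntermediateField.adjoin k ({x, y} : Set K) = ⊤) :
    (minpoly (IntermediateField.adjoin k ({x} : Set K)) y).natDegree =
      Module.finrank (IntermediateField.adjoin k ({x} : Set K)) K := by
  set F := IntermediateField.adjoin k ({x} : Set K) with hF
  have hfd : FiniteDimensional F K := hK.finiteDimensional_adjoin hx
  have hint : IsIntegral F y := IsIntegral.of_finite F y
  have htop : IntermediateField.adjoin F ({y} : Set K) = ⊤ := by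
    have h1 := IntermediateField.adjoin_adjoin_left k ({x} : Set K) ({y} : Set K)
    have h2 : ({x} ∪ {y} : Set K) = {x, y} := by
      ext z; simp [or_comm]
    rw [h2, hxy] at h1
    rw [eq_top_iff]
    intro z _
    have : z ∈ (IntermediateField.adjoin F ({y} : Set K)).restrictScalars k := by
      rw [h1]; trivial
    exact this
  rw [← IntermediateField.adjoin.finrank hint, htop, IntermediateField.finrank_top']

include hK in
/-- The monomials `x^i y^j`, `j < [K : k(x)]`, are linearly independent over `k`. -/
theorem linearIndependent_monomials {x y : K} (hx : Transcendental k x)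
    (hxy : IntermediateField.adjoin k ({x, y} : Set K) = ⊤) {n : ℕ}
    (hn : n = Module.finrank (IntermediateField.adjoin k ({x} : Set K)) K) :
    LinearIndependent k (fun p : ℕ × Fin n => x ^ p.1 * y ^ (p.2 : ℕ)) := by
  set F := IntermediateField.adjoin k ({x} : Set K) with hF
  have hdeg := natDegree_minpoly_eq_finrank hK hx hxy
  rw [← hF, ← hn] at hdeg
  subst hdeg
  let g : F := IntermediateField.AdjoinSimple.gen k x
  have hg : (g : K) = x := IntermediateField.AdjoinSimple.coe_gen k x
  have hgtr : Transcendental k g := by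
    intro halg
    apply hx
    have := halg.algebraMap (A := K)
    rwa [show algebraMap F K g = x from hg] at this
  have hb : LinearIndependent k (fun i : ℕ => g ^ i) := by
    have h1 : LinearIndependent k (fun i : ℕ => (Polynomial.monomial i (1 : k))) := by
      have := (Polynomial.basisMonomials k).linearIndependent
      rwa [Polynomial.coe_basisMonomials] at this
    have h2 := h1.map' (Polynomial.aeval g).toLinearMap
      (LinearMap.ker_eq_bot.2 (transcendental_iff_injective.1 hgtr))
    have h3 : (fun i : ℕ => g ^ i) =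
        (⇑(Polynomial.aeval g).toLinearMap ∘ fun i => (Polynomial.monomial i) (1 : k)) := by
      funext i
      simp [Polynomial.aeval_monomial]
    rw [h3]
    exact h2
  have hc := linearIndependent_pow (K := F) y
  have := linearIndependent_smul hb hc
  convert this using 1
  ext p
  rw [Algebra.smul_def, map_pow]
  rfl

end indep

section coords

variable [IsAlgClosed k] (hK : IsFunctionField k K)

include hK in
/-- Generic affine coordinates of a plane model: `x'` has pole divisor exactly the divisor of the
map, and `1, x', y'` span the same space as `1, x, y`. -/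
theorem exists_generic_coords (x y : K) (hxy : IntermediateField.adjoin k ({x, y} : Set K) = ⊤) :
    ∃ x' y' : K, x' ∈ Submodule.span k (Set.range ![(1 : K), x, y]) ∧
      y' ∈ Submodule.span k (Set.range ![(1 : K), x, y]) ∧
      Submodule.span k (Set.range ![(1 : K), x', y']) =
        Submodule.span k (Set.range ![(1 : K), x, y]) ∧
      IntermediateField.adjoin k ({x', y'} : Set K) = ⊤ ∧
      x' ∉ Set.range (algebraMap k K) ∧
      poleDiv (k := k) x' = mapDiv k ![(1 : K), x, y] := by
  classical
  set φ : Fin 3 → K := ![(1 : K), x, y] with hφ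
  set D := mapDiv k φ with hD
  set W := Submodule.span k (Set.range φ) with hW
  have hD0 : 0 ≤ D := mapDiv_nonneg_of_one hK φ (j0 := 0) rfl
  have h1W : (1 : K) ∈ W := Submodule.subset_span ⟨0, rfl⟩
  have hxW : x ∈ W := Submodule.subset_span ⟨1, rfl⟩
  have hyW : y ∈ W := Submodule.subset_span ⟨2, rfl⟩
  obtain ⟨s, hsW, hs⟩ := exists_generic_section hK φ
  obtain ⟨c, hc⟩ := (Submodule.mem_span_range_iff_exists_fun k).1 hsW
  rw [Fin.sum_univ_three] at hc
  have hc' : s = algebraMap k K (c 0) + c 1 • x + c 2 • y := by
    rw [← hc, hφ]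
    simp [Algebra.smul_def]
  -- s is not constant
  have hsnc : s ∉ Set.range (algebraMap k K) := by
    rintro ⟨a, rfl⟩
    -- then `D = 0`, so `x` and `y` are constants
    have hDz : D = 0 := by
      ext P
      by_contra hne
      have h1 := hs P hne
      have h2 : P.1 (algebraMap k K a) ≤ 1 := P.v_algebraMap_le a
      rw [h1, ← exp_zero, exp_le_exp] at h2
      have h3 := hD0 P
      rw [Finsupp.zero_apply] at h3
      exact hne (le_antisymm h2 h3)
    have hxc : ∀ z ∈ W, z ∈ Set.range (algebraMap k K) := by
      intro z hz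
      have h1 := span_le_L_mapDiv hK φ hz
      rw [← hD, hDz, L_zero hK, Submodule.mem_one] at h1
      exact h1
    obtain ⟨⟨t, ht, -⟩, -⟩ := hK
    apply ht
    have htmem : t ∈ IntermediateField.adjoin k ({x, y} : Set K) := by rw [hxy]; trivial
    have hbot : IntermediateField.adjoin k ({x, y} : Set K) = ⊥ := by
      rw [IntermediateField.adjoin_eq_bot_iff]
      intro z hz
      show z ∈ (⊥ : IntermediateField k K)
      rw [IntermediateField.mem_bot]
      rcases hz with rfl | rfl
      · exact hxc _ hxW
      · exact hxc _ hyW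
    rw [hbot, IntermediateField.mem_bot] at htmem
    obtain ⟨a', rfl⟩ := htmem
    exact isAlgebraic_algebraMap a'
  have hpole : poleDiv (k := k) s = D := by
    ext P
    rw [poleDiv_apply hK]
    have hs0 : s ≠ 0 := by rintro rfl; exact hsnc ⟨0, map_zero _⟩
    by_cases hP : D P = 0
    · have h1 := span_le_L_mapDiv hK φ hsW P
      rw [← hD, hP, exp_zero, P.v_le_one_iff hs0] at h1
      rw [hP]
      exact max_eq_right (by omega)
    · have h1 := hs P hP
      rw [P.v_eq_exp_neg_ord hs0, exp_inj] at h1
      have h3 := hD0 P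
      rw [Finsupp.zero_apply] at h3
      rw [h1]
      exact max_eq_left h3
  by_cases hc2 : c 2 = 0
  · have hc1 : c 1 ≠ 0 := by
      intro hc1
      apply hsnc
      rw [hc', hc1, hc2, zero_smul, zero_smul, add_zero, add_zero]
      exact ⟨_, rfl⟩
    have hxs : x = (c 1)⁻¹ • (s - algebraMap k K (c 0)) := by
      rw [hc', hc2, zero_smul, add_zero, add_sub_cancel_left, smul_smul, inv_mul_cancel₀ hc1,
        one_smul]
    refine ⟨s, y, hsW, hyW, ?_, ?_, hsnc, hpole⟩
    · apply le_antisymm
      · rw [Submodule.span_le]
        rintro _ ⟨i, rfl⟩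
        fin_cases i
        · exact h1W
        · exact hsW
        · exact hyW
      · rw [Submodule.span_le]
        have h1' : (1 : K) ∈ Submodule.span k (Set.range ![(1 : K), s, y]) :=
          Submodule.subset_span ⟨0, rfl⟩
        have hs' : s ∈ Submodule.span k (Set.range ![(1 : K), s, y]) :=
          Submodule.subset_span ⟨1, rfl⟩
        have hy' : y ∈ Submodule.span k (Set.range ![(1 : K), s, y]) :=
          Submodule.subset_span ⟨2, rfl⟩
        rintro _ ⟨i, rfl⟩
        fin_cases i
        · exact h1'
        · show x ∈ _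
          rw [hxs]
          refine Submodule.smul_mem _ _ (Submodule.sub_mem _ hs' ?_)
          rw [Algebra.algebraMap_eq_smul_one]
          exact Submodule.smul_mem _ _ h1'
        · exact hy'
    · rw [eq_top_iff, ← hxy, IntermediateField.adjoin_le_iff]
      have hs' : s ∈ IntermediateField.adjoin k ({s, y} : Set K) :=
        IntermediateField.subset_adjoin k _ (by simp)
      have hy' : y ∈ IntermediateField.adjoin k ({s, y} : Set K) :=
        IntermediateField.subset_adjoin k _ (by simp)
      rintro z (rfl | rfl)
      · rw [hxs]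
        exact IntermediateField.smul_mem _
          (sub_mem hs' (IntermediateField.algebraMap_mem _ _))
      · exact hy'
  · have hys : y = (c 2)⁻¹ • (s - algebraMap k K (c 0) - c 1 • x) := by
      have : s - algebraMap k K (c 0) - c 1 • x = c 2 • y := by rw [hc']; ring
      rw [this, smul_smul, inv_mul_cancel₀ hc2, one_smul]
    refine ⟨s, x, hsW, hxW, ?_, ?_, hsnc, hpole⟩
    · apply le_antisymm
      · rw [Submodule.span_le]
        rintro _ ⟨i, rfl⟩
        fin_cases i
        · exact h1W
        · exact hsW
        · exact hxW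
      · rw [Submodule.span_le]
        have h1' : (1 : K) ∈ Submodule.span k (Set.range ![(1 : K), s, x]) :=
          Submodule.subset_span ⟨0, rfl⟩
        have hs' : s ∈ Submodule.span k (Set.range ![(1 : K), s, x]) :=
          Submodule.subset_span ⟨1, rfl⟩
        have hx' : x ∈ Submodule.span k (Set.range ![(1 : K), s, x]) :=
          Submodule.subset_span ⟨2, rfl⟩
        rintro _ ⟨i, rfl⟩
        fin_cases i
        · exact h1'
        · exact hx'
        · show y ∈ _
          rw [hys]
          refine Submodule.smul_mem _ _ (Submodule.sub_mem _ (Submodule.sub_mem _ hs' ?_)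
            (Submodule.smul_mem _ _ hx'))
          rw [Algebra.algebraMap_eq_smul_one]
          exact Submodule.smul_mem _ _ h1'
    · rw [eq_top_iff, ← hxy, IntermediateField.adjoin_le_iff]
      have hs' : s ∈ IntermediateField.adjoin k ({s, x} : Set K) :=
        IntermediateField.subset_adjoin k _ (by simp)
      have hx' : x ∈ IntermediateField.adjoin k ({s, x} : Set K) :=
        IntermediateField.subset_adjoin k _ (by simp)
      rintro z (rfl | rfl)
      · exact hx'
      · rw [hys]
        exact IntermediateField.smul_mem _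
          (sub_mem (sub_mem hs' (IntermediateField.algebraMap_mem _ _))
            (IntermediateField.smul_mem _ hx'))

end coords

section count

/-- Products of sections. -/
lemma mul_mem_L_add {A B : Divisor k K} {a b : K} (ha : a ∈ L A) (hb : b ∈ L B) :
    a * b ∈ L (A + B) := by
  intro P
  rw [map_mul, Finsupp.add_apply, exp_add]
  exact mul_le_mul' (ha P) (hb P)

lemma pow_mem_L_nsmul {A : Divisor k K} {a : K} (ha : a ∈ L A) (n : ℕ) : a ^ n ∈ L (n • A) := by
  intro P
  rw [map_pow, Finsupp.smul_apply, exp_nsmul]
  exact pow_le_pow_left' (ha P) n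

lemma monomial_mem_L {D : Divisor k K} (hD : 0 ≤ D) {x y : K} (hx : x ∈ L D) (hy : y ∈ L D)
    {i j m : ℕ} (hij : i + j ≤ m) : x ^ i * y ^ j ∈ L (m • D) := by
  have h1 := mul_mem_L_add (pow_mem_L_nsmul hx i) (pow_mem_L_nsmul hy j)
  rw [← add_smul] at h1
  refine L_mono ?_ h1
  intro P
  rw [Finsupp.smul_apply, Finsupp.smul_apply]
  have := hD P
  rw [Finsupp.zero_apply] at this
  have h2 : ((i + j : ℕ) : ℤ) ≤ (m : ℤ) := by exact_mod_cast hij
  simp only [nsmul_eq_mul]
  push_cast at h2 ⊢
  nlinarith

/-- `2 ∑_{j<n} (m + 1 - j) = 2 n (m + 1) - n (n - 1)` for `n ≤ m + 1`. -/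
lemma two_mul_sum_range_sub (m n : ℕ) (hn : n ≤ m + 1) :
    2 * ∑ j ∈ Finset.range n, ((m + 1 - j : ℕ) : ℤ) + (n : ℤ) * (n - 1) = 2 * n * (m + 1) := by
  induction n with
  | zero => simp
  | succ n ih =>
    have ih' := ih (by omega)
    rw [Finset.sum_range_succ, mul_add]
    have : ((m + 1 - n : ℕ) : ℤ) = (m : ℤ) + 1 - n := by
      rw [Nat.cast_sub (by omega)]; push_cast; ring
    rw [this]
    push_cast
    linarith

end count

section bound

variable (hK : IsFunctionField k K)

include hK in
/-- The number of reduced monomials of degree at most `m` bounds `ℓ(m D)` from below. -/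
theorem sum_le_ell_nsmul {x y : K} (hx : Transcendental k x)
    (hxy : IntermediateField.adjoin k ({x, y} : Set K) = ⊤) {D : Divisor k K} (hD : 0 ≤ D)
    (hxD : x ∈ L D) (hyD : y ∈ L D) (m : ℕ) :
    ∑ j ∈ Finset.range (Module.finrank (IntermediateField.adjoin k ({x} : Set K)) K),
      (m + 1 - j) ≤ ell (m • D) := by
  classical
  set n := Module.finrank (IntermediateField.adjoin k ({x} : Set K)) K with hn
  have hli := linearIndependent_monomials hK hx hxy hn
  let e : (Σ j : Fin n, Fin (m + 1 - j)) → ℕ × Fin n := fun p => (p.2, p.1)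
  have he : Function.Injective e := by
    rintro ⟨j, i⟩ ⟨j', i'⟩ h
    simp only [e, Prod.mk.injEq] at h
    obtain ⟨h1, h2⟩ := h
    subst h2
    have : i = i' := Fin.ext h1
    subst this
    rfl
  have hli' := hli.comp e he
  have hmem : ∀ p : (Σ j : Fin n, Fin (m + 1 - j)),
      x ^ (e p).1 * y ^ ((e p).2 : ℕ) ∈ L (m • D) := by
    rintro ⟨j, i⟩
    apply monomial_mem_L hD hxD hyD
    simp only [e]
    have := i.2
    omega
  let v : (Σ j : Fin n, Fin (m + 1 - j)) → ↥(L (m • D)) := fun p => ⟨_, hmem p⟩
  have hv : LinearIndependent k v := by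
    apply LinearIndependent.of_comp (L (m • D)).subtype
    exact hli'
  have hfin := finiteDimensional_L hK (m • D)
  have := hv.fintype_card_le_finrank
  rw [Fintype.card_sigma] at this
  simp only [Fintype.card_fin] at this
  rw [Finset.sum_fin_eq_sum_range] at this
  unfold ell
  refine le_trans (le_of_eq ?_) this
  refine Finset.sum_congr rfl (fun j hj => ?_)
  rw [dif_pos (Finset.mem_range.1 hj)]

include hK in
/-- The genus of a plane model of degree `d` is at most `(d - 1)(d - 2)/2`. -/
theorem two_mul_genus_le_of_plane [IsAlgClosed k] (x y : K)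
    (hxy : IntermediateField.adjoin k ({x, y} : Set K) = ⊤) :
    2 * (genus k K : ℤ) ≤ ((mapDiv k ![(1 : K), x, y]).deg - 1) *
      ((mapDiv k ![(1 : K), x, y]).deg - 2) := by
  obtain ⟨x', y', hx'W, hy'W, -, hxy', hx'nc, hpole⟩ := exists_generic_coords hK x y hxy
  set D := mapDiv k ![(1 : K), x, y] with hD
  have hD0 : 0 ≤ D := mapDiv_nonneg_of_one hK _ (j0 := 0) rfl
  have hWL := span_le_L_mapDiv (k := k) hK ![(1 : K), x, y]
  have hx'tr := hK.transcendental_of_notMem hx'nc
  have hdeg := deg_poleDiv hK hx'nc
  rw [hpole] at hdeg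
  set n := Module.finrank (IntermediateField.adjoin k ({x'} : Set K)) K with hn
  -- choose `m` large
  set g := genus k K with hg
  obtain ⟨m, hm1, hm2⟩ : ∃ m : ℕ, n ≤ m + 1 ∧ 2 * (g : ℤ) - 1 ≤ (m • D).deg := by
    have hnpos : 0 < n := by
      have := hK.finiteDimensional_adjoin hx'tr
      exact Module.finrank_pos
    refine ⟨n + 2 * g, by omega, ?_⟩
    rw [Divisor.deg_nsmul, hdeg]
    push_cast
    have : (1 : ℤ) ≤ n := by exact_mod_cast hnpos
    nlinarith
  have h1 := sum_le_ell_nsmul hK hx'tr hxy' hD0 (hWL hx'W) (hWL hy'W) m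
  have h2 := ell_eq_of_large_deg hK hm2
  rw [Divisor.deg_nsmul, hdeg] at h2
  have h3 := two_mul_sum_range_sub m n hm1
  have h4 : (∑ j ∈ Finset.range n, ((m + 1 - j : ℕ) : ℤ)) ≤ (ell (m • D) : ℤ) := by
    have : ((∑ j ∈ Finset.range n, (m + 1 - j) : ℕ) : ℤ) ≤ (ell (m • D) : ℤ) := by
      exact_mod_cast h1
    rwa [Nat.cast_sum] at this
  rw [hdeg]
  nlinarith

end bound

end FunFld
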