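import Groth.Agent.Lib.Helper5.FunFld.Plane1
import Groth.Agent.Lib.Helper5.FunFld.Discrete
import Groth.Agent.Lib.Helper5.FunFld.Genus0
import Mathlib.RingTheory.Valuation.LocalSubring
import Mathlib.FieldTheory.Minpoly.IsIntegrallyClosed
import Mathlib.FieldTheory.RatFunc.AsPolynomial

/-! Plane models: integrality via places and the monic relation of total degree `d`
(helper5). -/

set_option autoImplicit false

namespace FunFld

open WithZero Polynomial

variable {k K : Type*} [Field k] [Field K] [Algebra k K]

section integral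

variable (hK : IsFunctionField k K)

include hK in
/-- An element integral at every place where a subalgebra is integral, is integral over that
subalgebra. -/
theorem isIntegral_of_forall_place (R : Subalgebra k K) (z : K)
    (h : ∀ P : Place k K, (∀ r ∈ R, P.1 r ≤ 1) → P.1 z ≤ 1) : IsIntegral R z := by
  by_contra hz
  have hzR : z ∉ (integralClosure R K).toSubring := hz
  obtain ⟨V, hV, hzV⟩ := Subring.exists_le_valuationSubring_of_isIntegrallyClosedIn hzR
  have hRV : ∀ r ∈ R, r ∈ V := by
    intro r hr
    apply hV
    show IsIntegral R r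
    exact isIntegral_algebraMap (R := R) (A := K) (x := ⟨r, hr⟩)
  have hkV : ∀ c : k, algebraMap k K c ∈ V := fun c => hRV _ (R.algebraMap_mem c)
  have hVtop : V ≠ ⊤ := by
    rintro rfl
    exact hzV trivial
  obtain ⟨P, hP⟩ := exists_place_of_valuationSubring hK V hkV hVtop
  have hPV : ∀ w : K, w ∈ V ↔ P.1 w ≤ 1 := by
    intro w
    rw [← hP]
    exact Valuation.mem_valuationSubring_iff _ _
  exact hzV ((hPV z).2 (h P (fun r hr => (hPV r).1 (hRV r hr))))

end integral

section pole

/-- At a pole of `t`, a nonzero polynomial in `t` has the valuation of its leading term. -/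
lemma Place.v_aeval_of_pole (P : Place k K) {t : K} (ht : 1 < P.1 t) {f : k[X]} (hf : f ≠ 0) :
    P.1 (aeval t f) = P.1 t ^ f.natDegree := by
  have hlc : f.leadingCoeff ≠ 0 := leadingCoeff_ne_zero.2 hf
  have hpos : 0 < P.1 t := lt_trans zero_lt_one ht
  have hsplit : aeval t f = aeval t f.eraseLead +
      algebraMap k K f.leadingCoeff * t ^ f.natDegree := by
    conv_lhs => rw [← eraseLead_add_monomial_natDegree_leadingCoeff f]
    rw [map_add, aeval_monomial]
  rw [hsplit]
  have h1 : P.1 (algebraMap k K f.leadingCoeff * t ^ f.natDegree) = P.1 t ^ f.natDegree := by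
    rw [map_mul, P.v_algebraMap hlc, one_mul, map_pow]
  have h2 : P.1 (aeval t f.eraseLead) < P.1 t ^ f.natDegree := by
    rw [aeval_eq_sum_range]
    refine Valuation.map_sum_lt _ (pow_ne_zero _ hpos.ne') (fun i hi => ?_)
    rw [Finset.mem_range] at hi
    rw [Algebra.smul_def, map_mul, map_pow]
    by_cases hc : f.eraseLead.coeff i = 0
    · rw [hc, map_zero, map_zero, zero_mul]
      exact pow_pos hpos _
    · have hi' : i < f.natDegree := by
        have h3 := le_natDegree_of_ne_zero hc
        have h4 := eraseLead_natDegree_le f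
        by_contra hge
        rw [not_lt] at hge
        have h5 : i = f.natDegree := by
          rcases Nat.eq_zero_or_pos f.natDegree with h0 | hpos'
          · omega
          · omega
        rw [h5, eraseLead_coeff_natDegree] at hc
        exact hc rfl
      calc P.1 (algebraMap k K (f.eraseLead.coeff i)) * P.1 t ^ i ≤ 1 * P.1 t ^ i :=
            mul_le_mul' (P.v_algebraMap_le _) le_rfl
        _ = P.1 t ^ i := one_mul _
        _ < P.1 t ^ f.natDegree := pow_lt_pow_right₀ ht hi'
  rw [Valuation.map_add_eq_of_lt_right _ (by rw [h1]; exact h2), h1]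

end pole

section relation

variable (hK : IsFunctionField k K)

open scoped IntermediateField.algebraAdjoinAdjoin in
include hK in
/-- **Integrality.** If `K = k(t, z)` and `z` is regular wherever `t` is, then `z` satisfies a
monic equation of degree `[K : k(t)]` with coefficients in `k[t]`. -/
theorem exists_monic_relation {t z : K} (ht : Transcendental k t)
    (htz : IntermediateField.adjoin k ({t, z} : Set K) = ⊤)
    (hreg : ∀ P : Place k K, P.1 t ≤ 1 → P.1 z ≤ 1) :
    ∃ a : ℕ → k[X], z ^ (Module.finrank (IntermediateField.adjoin k ({t} : Set K)) K) +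
      ∑ i ∈ Finset.range (Module.finrank (IntermediateField.adjoin k ({t} : Set K)) K),
        aeval t (a i) * z ^ i = 0 := by
  set R := Algebra.adjoin k ({t} : Set K) with hR
  set F := IntermediateField.adjoin k ({t} : Set K) with hF
  set n := Module.finrank F K with hn
  have hzint : IsIntegral R z := isIntegral_of_forall_place hK R z
    (fun P hP => hreg P (hP t (Algebra.self_mem_adjoin_singleton k t)))
  have hic : IsIntegrallyClosed R :=
    IsIntegrallyClosed.of_equiv (Polynomial.algEquivOfTranscendental k t ht).toRingEquiv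
  have hmin := minpoly.isIntegrallyClosed_eq_field_fractions' F hzint
  have hmonic := minpoly.monic hzint
  have hdeg : (minpoly R z).natDegree = n := by
    have := natDegree_minpoly_eq_finrank hK ht htz
    rw [← hF, hmin, hmonic.natDegree_map] at this
    exact this
  have hroot := minpoly.aeval R z
  rw [aeval_eq_sum_range, hdeg, Finset.sum_range_succ] at hroot
  have hlead : (minpoly R z).coeff n = 1 := by
    rw [← hdeg]; exact hmonic.coeff_natDegree
  rw [hlead, one_smul] at hroot
  have hcoeff : ∀ i, ∃ q : k[X], aeval t q = (((minpoly R z).coeff i : R) : K) := by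
    intro i
    have h1 : ∀ w : K, w ∈ R → ∃ q : k[X], aeval t q = w := by
      intro w hw
      rw [hR, Algebra.adjoin_singleton_eq_range_aeval] at hw
      exact hw
    exact h1 _ ((minpoly R z).coeff i).2
  choose a ha using hcoeff
  refine ⟨a, ?_⟩
  rw [add_comm, ← hroot]
  congr 1
  refine Finset.sum_congr rfl (fun i _ => ?_)
  rw [ha i]
  rfl

include hK in
/-- **The plane relation.** If `t` has pole divisor `D`, `z ∈ L(D)` and `K = k(t, z)`, then
`z` satisfies a monic equation of degree `n = [K : k(t)]` over `k[t]` of total degree `n`. -/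
theorem exists_monic_relation_deg {t z : K} (ht : t ∉ Set.range (algebraMap k K))
    (htz : IntermediateField.adjoin k ({t, z} : Set K) = ⊤)
    (hz : z ∈ L (poleDiv (k := k) t)) :
    ∃ a : ℕ → k[X],
      (∀ i, i < Module.finrank (IntermediateField.adjoin k ({t} : Set K)) K →
        (a i).natDegree ≤ Module.finrank (IntermediateField.adjoin k ({t} : Set K)) K - i) ∧
      z ^ (Module.finrank (IntermediateField.adjoin k ({t} : Set K)) K) +
        ∑ i ∈ Finset.range (Module.finrank (IntermediateField.adjoin k ({t} : Set K)) K),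
          aeval t (a i) * z ^ i = 0 := by
  classical
  have httr := hK.transcendental_of_notMem ht
  have ht0 : t ≠ 0 := by rintro rfl; exact ht ⟨0, map_zero _⟩
  set F := IntermediateField.adjoin k ({t} : Set K) with hF
  set n := Module.finrank F K with hn
  have hzle : ∀ P : Place k K, P.1 z ≤ max (P.1 t) 1 := by
    intro P
    refine (hz P).trans ?_
    rw [poleDiv_apply hK, P.v_eq_exp_neg_ord ht0]
    rcases le_total (-P.ord t) 0 with h | h
    · rw [max_eq_right h, exp_zero]; exact le_max_right _ _
    · rw [max_eq_left h]; exact le_max_left _ _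
  have hreg1 : ∀ P : Place k K, P.1 t ≤ 1 → P.1 z ≤ 1 := by
    intro P hP
    exact (hzle P).trans (max_le hP le_rfl)
  obtain ⟨a, ha⟩ := exists_monic_relation hK httr htz hreg1
  rw [← hF, ← hn] at ha
  -- the chart at infinity
  set τ := t⁻¹ with hτ
  set u := z * t⁻¹ with hu
  have hτnc : τ ∉ Set.range (algebraMap k K) := inv_notMem_range ht
  have hτtr := hK.transcendental_of_notMem hτnc
  have hFτ : IntermediateField.adjoin k ({τ} : Set K) = F := adjoin_inv_eq t
  have hτu : IntermediateField.adjoin k ({τ, u} : Set K) = ⊤ := by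
    rw [eq_top_iff, ← htz, IntermediateField.adjoin_le_iff]
    have h1 : τ ∈ IntermediateField.adjoin k ({τ, u} : Set K) :=
      IntermediateField.subset_adjoin k _ (by simp)
    have h2 : u ∈ IntermediateField.adjoin k ({τ, u} : Set K) :=
      IntermediateField.subset_adjoin k _ (by simp)
    have h3 : t ∈ IntermediateField.adjoin k ({τ, u} : Set K) := by
      have := inv_mem h1
      rwa [hτ, inv_inv] at this
    rintro w (rfl | rfl)
    · exact h3
    · have := mul_mem h2 h3
      rwa [hu, inv_mul_cancel_right₀ ht0] at this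
  have hreg2 : ∀ P : Place k K, P.1 τ ≤ 1 → P.1 u ≤ 1 := by
    intro P hP
    have htpos : 0 < P.1 t := pos_iff_ne_zero.2 (P.v_ne_zero ht0)
    rw [hτ, map_inv₀, inv_le_one₀ htpos] at hP
    rw [hu, map_mul, map_inv₀, ← div_eq_mul_inv, div_le_one₀ htpos]
    exact (hzle P).trans (max_le le_rfl hP)
  obtain ⟨b, hb⟩ := exists_monic_relation hK hτtr hτu hreg2
  rw [hFτ, ← hn] at hb
  -- multiply the second relation by `t ^ n`
  have hb' : z ^ n + ∑ i ∈ Finset.range n, (aeval τ (b i) * t ^ (n - i)) * z ^ i = 0 := by
    have := congrArg (fun w => w * t ^ n) hb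
    simp only [zero_mul, add_mul, Finset.sum_mul] at this
    rw [← this]
    congr 1
    · rw [hu, mul_pow, mul_assoc, ← mul_pow, inv_mul_cancel₀ ht0, one_pow, mul_one]
    · refine Finset.sum_congr rfl (fun i hi => ?_)
      rw [Finset.mem_range] at hi
      have : t ^ n = t ^ (n - i) * t ^ i := by rw [← pow_add]; congr 1; omega
      rw [this, hu, mul_pow]
      have h3 : (t⁻¹) ^ i * t ^ i = 1 := by rw [← mul_pow, inv_mul_cancel₀ ht0, one_pow]
      symm
      calc aeval τ (b i) * (z ^ i * t⁻¹ ^ i) * (t ^ (n - i) * t ^ i)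
          = aeval τ (b i) * t ^ (n - i) * z ^ i * (t⁻¹ ^ i * t ^ i) := by ring
        _ = _ := by rw [h3, mul_one]
  -- compare coefficients
  have hdegz := natDegree_minpoly_eq_finrank hK httr htz
  rw [← hF, ← hn] at hdegz
  have hli := linearIndependent_pow (K := F) z
  rw [hdegz] at hli
  have htF : t ∈ F := IntermediateField.mem_adjoin_simple_self k t
  have hcF : ∀ i, aeval t (a i) - aeval τ (b i) * t ^ (n - i) ∈ F := by
    intro i
    refine sub_mem ?_ (mul_mem ?_ (pow_mem htF _))
    · exact IntermediateField.algebra_adjoin_le_adjoin k _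
        (Polynomial.aeval_mem_adjoin_singleton k t)
    · rw [← hFτ]
      exact IntermediateField.algebra_adjoin_le_adjoin k _
        (Polynomial.aeval_mem_adjoin_singleton k τ)
  have hzero : ∀ i : Fin n, (⟨_, hcF i⟩ : F) = 0 := by
    have hsum : ∑ i : Fin n, (⟨_, hcF i⟩ : F) • z ^ (i : ℕ) = 0 := by
      have h1 : ∑ i ∈ Finset.range n,
          (aeval t (a i) - aeval τ (b i) * t ^ (n - i)) * z ^ i = 0 := by
        have := congrArg₂ (fun p q => p - q) ha hb'
        simp only [sub_zero, add_sub_add_left_eq_sub] at this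
        rw [← Finset.sum_sub_distrib] at this
        rw [← this]
        refine Finset.sum_congr rfl (fun i _ => ?_)
        ring
      rw [← h1, Finset.sum_range]
      rfl
    exact Fintype.linearIndependent_iff.1 hli _ hsum
  have heq : ∀ i, i < n → aeval t (a i) = aeval τ (b i) * t ^ (n - i) := by
    intro i hi
    have := congrArg (fun w : F => (w : K)) (hzero ⟨i, hi⟩)
    simp only at this
    exact sub_eq_zero.1 this
  refine ⟨a, ?_, ha⟩
  intro i hi
  obtain ⟨P, hP⟩ := exists_place_ord_neg hK ht
  have hPt : 1 < P.1 t := by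
    rw [P.v_eq_exp_neg_ord ht0, ← exp_zero, exp_lt_exp]; omega
  have hPτ : P.1 τ ≤ 1 := by
    rw [hτ, map_inv₀]
    exact (inv_lt_one_of_one_lt₀ hPt).le
  rcases eq_or_ne (a i) 0 with h0 | h0
  · rw [h0, natDegree_zero]; exact Nat.zero_le _
  · have h1 := P.v_aeval_of_pole hPt h0
    rw [heq i hi, map_mul, map_pow] at h1
    have h2 : P.1 (aeval τ (b i)) ≤ 1 := P.v_aeval_le_one hPτ (b i)
    have h3 : P.1 t ^ (a i).natDegree ≤ P.1 t ^ (n - i) := by
      rw [← h1]
      calc P.1 (aeval τ (b i)) * P.1 t ^ (n - i) ≤ 1 * P.1 t ^ (n - i) := mul_le_mul' h2 le_rfl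
        _ = _ := one_mul _
    exact (pow_le_pow_iff_right₀ hPt).1 h3

end relation

end FunFld
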