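import Groth.Agent.Lib.Helper5.FunFld.Plane2

/-! Plane models: the spaces `W^m` of forms of degree `m` and their dimension (helper5). -/

set_option autoImplicit false

namespace FunFld

open WithZero Polynomial

variable {k K : Type*} [Field k] [Field K] [Algebra k K]

section powers

/-- Powers of a space of sections are sections of the multiple. -/
lemma pow_le_L_nsmul {W : Submodule k K} {D : Divisor k K} (hW : W ≤ L D) (m : ℕ) :
    W ^ m ≤ L (m • D) := by
  induction m with
  | zero =>
    rw [pow_zero, zero_smul, Submodule.one_eq_span, Submodule.span_le]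
    rintro _ rfl P
    rw [map_one, Finsupp.zero_apply, exp_zero]
  | succ m ih =>
    rw [pow_succ, Submodule.mul_le]
    intro a ha b hb
    have := mul_mem_L_add (ih ha) (hW hb)
    rwa [← succ_nsmul] at this

lemma pow_le_pow_of_one_mem {W : Submodule k K} (h1 : (1 : K) ∈ W) {a b : ℕ} (hab : a ≤ b) :
    W ^ a ≤ W ^ b := by
  obtain ⟨c, rfl⟩ := Nat.exists_eq_add_of_le hab
  rw [pow_add]
  intro w hw
  have := Submodule.mul_mem_mul hw (Submodule.pow_mem_pow W h1 c)
  rwa [one_pow, mul_one] at this

end powers

section reduced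

/-- The reduced monomials `t^i z^j`, `j < n`, of degree at most `m`. -/
def Zset (t z : K) (n m : ℕ) : Set K := {w | ∃ i j, j < n ∧ i + j ≤ m ∧ w = t ^ i * z ^ j}

lemma span_Zset_le_pow {W : Submodule k K} (h1 : (1 : K) ∈ W) {t z : K} (ht : t ∈ W)
    (hz : z ∈ W) (n m : ℕ) : Submodule.span k (Zset t z n m) ≤ W ^ m := by
  rw [Submodule.span_le]
  rintro _ ⟨i, j, -, hij, rfl⟩
  have h := Submodule.mul_mem_mul (Submodule.pow_mem_pow W ht i) (Submodule.pow_mem_pow W hz j)
  rw [← pow_add] at h
  exact pow_le_pow_of_one_mem h1 hij h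

/-- With a monic relation of total degree `n`, all forms of degree `m` are combinations of
reduced monomials. -/
lemma pow_le_span_Zset {t z : K} {n : ℕ} (hn : 0 < n) (a : ℕ → k[X])
    (hdeg : ∀ i, i < n → (a i).natDegree ≤ n - i)
    (hrel : z ^ n + ∑ i ∈ Finset.range n, aeval t (a i) * z ^ i = 0) (m : ℕ) :
    (Submodule.span k (Set.range ![(1 : K), t, z])) ^ m ≤ Submodule.span k (Zset t z n m) := by
  induction m with
  | zero =>
    rw [pow_zero, Submodule.one_eq_span, Submodule.span_le]
    rintro _ rfl
    exact Submodule.subset_span ⟨0, 0, hn, le_rfl, by simp⟩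
  | succ m ih =>
    rw [pow_succ, Submodule.mul_le]
    intro u hu b hb
    have hu' := ih hu
    clear hu
    obtain ⟨c, rfl⟩ := (Submodule.mem_span_range_iff_exists_fun k).1 hb
    rw [Fin.sum_univ_three]
    simp only [Matrix.cons_val_zero, Matrix.cons_val_one, Matrix.cons_val_two, Matrix.tail_cons,
      Matrix.head_cons]
    -- the three generators
    have key : ∀ x ∈ Zset t z n m, x * 1 ∈ Submodule.span k (Zset t z n (m + 1)) ∧
        x * t ∈ Submodule.span k (Zset t z n (m + 1)) ∧
        x * z ∈ Submodule.span k (Zset t z n (m + 1)) := by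
      rintro _ ⟨i, j, hj, hij, rfl⟩
      refine ⟨?_, ?_, ?_⟩
      · exact Submodule.subset_span ⟨i, j, hj, by omega, by ring⟩
      · exact Submodule.subset_span ⟨i + 1, j, hj, by omega, by ring⟩
      · by_cases hj' : j + 1 < n
        · exact Submodule.subset_span ⟨i, j + 1, hj', by omega, by ring⟩
        · have hjn : j + 1 = n := by omega
          have hzn : z ^ n = -∑ l ∈ Finset.range n, aeval t (a l) * z ^ l :=
            eq_neg_of_add_eq_zero_left hrel
          have : t ^ i * z ^ j * z =
              -∑ l ∈ Finset.range n, t ^ i * (aeval t (a l) * z ^ l) := by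
            rw [mul_assoc, ← pow_succ, hjn, hzn, mul_neg, Finset.mul_sum]
          rw [this]
          refine Submodule.neg_mem _ (Submodule.sum_mem _ (fun l hl => ?_))
          rw [Finset.mem_range] at hl
          rw [aeval_eq_sum_range, Finset.sum_mul, Finset.mul_sum]
          refine Submodule.sum_mem _ (fun r hr => ?_)
          rw [Finset.mem_range] at hr
          have hr' := hdeg l hl
          have : t ^ i * ((a l).coeff r • t ^ r * z ^ l) =
              (a l).coeff r • (t ^ (i + r) * z ^ l) := by
            rw [smul_mul_assoc, mul_smul_comm, pow_add, mul_assoc]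
          rw [this]
          exact Submodule.smul_mem _ _ (Submodule.subset_span ⟨i + r, l, hl, by omega, rfl⟩)
    induction hu' using Submodule.span_induction with
    | zero => rw [zero_mul]; exact Submodule.zero_mem _
    | add x y _ _ hx hy => rw [add_mul]; exact Submodule.add_mem _ hx hy
    | smul c' x _ hx => rw [smul_mul_assoc]; exact Submodule.smul_mem _ c' hx
    | mem x hx =>
      obtain ⟨h1, h2, h3⟩ := key x hx
      rw [mul_add, mul_add, mul_smul_comm, mul_smul_comm, mul_smul_comm]
      exact Submodule.add_mem _ (Submodule.add_mem _ (Submodule.smul_mem _ _ h1)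
        (Submodule.smul_mem _ _ h2)) (Submodule.smul_mem _ _ h3)

end reduced

section count

variable (hK : IsFunctionField k K)

include hK in
/-- The reduced monomials of degree at most `m` form a basis of their span. -/
theorem finrank_span_Zset {t z : K} (ht : Transcendental k t)
    (htz : IntermediateField.adjoin k ({t, z} : Set K) = ⊤) {n : ℕ}
    (hn : n = Module.finrank (IntermediateField.adjoin k ({t} : Set K)) K) (m : ℕ) :
    Module.finrank k (Submodule.span k (Zset t z n m)) =
      ∑ j ∈ Finset.range n, (m + 1 - j) := by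
  classical
  have hli := linearIndependent_monomials hK ht htz hn
  let e : (Σ j : Fin n, Fin (m + 1 - j)) → ℕ × Fin n := fun p => (p.2, p.1)
  have he : Function.Injective e := by
    rintro ⟨j, i⟩ ⟨j', i'⟩ h
    simp only [e, Prod.mk.injEq] at h
    obtain ⟨h1, h2⟩ := h
    subst h2
    have : i = i' := Fin.ext h1
    subst this
    rfl
  have hli' := hli.comp e he
  have hrange : Set.range ((fun p : ℕ × Fin n => t ^ p.1 * z ^ (p.2 : ℕ)) ∘ e) =
      Zset t z n m := by
    ext w
    constructor
    · rintro ⟨⟨j, i⟩, rfl⟩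
      refine ⟨i, j, j.2, ?_, rfl⟩
      have := i.2
      omega
    · rintro ⟨i, j, hj, hij, rfl⟩
      exact ⟨⟨⟨j, hj⟩, ⟨i, by simp only; omega⟩⟩, rfl⟩
  rw [← hrange, finrank_span_eq_card hli', Fintype.card_sigma]
  simp only [Fintype.card_fin]
  rw [Finset.sum_fin_eq_sum_range]
  refine Finset.sum_congr rfl (fun j hj => ?_)
  rw [dif_pos (Finset.mem_range.1 hj)]

include hK in
/-- **Hilbert function of a plane model.** In generic coordinates, the space of forms of
degree `m` has dimension `∑_{j<n} (m + 1 - j)`. -/
theorem finrank_pow_span {t z : K} (ht : t ∉ Set.range (algebraMap k K))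
    (htz : IntermediateField.adjoin k ({t, z} : Set K) = ⊤)
    (hz : z ∈ L (poleDiv (k := k) t)) (m : ℕ) :
    Module.finrank k ↥((Submodule.span k (Set.range ![(1 : K), t, z])) ^ m) =
      ∑ j ∈ Finset.range (Module.finrank (IntermediateField.adjoin k ({t} : Set K)) K),
        (m + 1 - j) := by
  have httr := hK.transcendental_of_notMem ht
  set n := Module.finrank (IntermediateField.adjoin k ({t} : Set K)) K with hn
  have hnpos : 0 < n := by
    have := hK.finiteDimensional_adjoin httr
    exact Module.finrank_pos
  obtain ⟨a, hdeg, hrel⟩ := exists_monic_relation_deg hK ht htz hz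
  set W := Submodule.span k (Set.range ![(1 : K), t, z]) with hW
  have h1W : (1 : K) ∈ W := Submodule.subset_span ⟨0, rfl⟩
  have htW : t ∈ W := Submodule.subset_span ⟨1, rfl⟩
  have hzW : z ∈ W := Submodule.subset_span ⟨2, rfl⟩
  have heq : W ^ m = Submodule.span k (Zset t z n m) :=
    le_antisymm (pow_le_span_Zset hnpos a hdeg hrel m) (span_Zset_le_pow h1W htW hzW n m)
  rw [heq]
  exact finrank_span_Zset hK httr htz hn m

end count

section equality

variable [IsAlgClosed k] (hK : IsFunctionField k K)

include hK in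
/-- For large `m`, the forms of degree `m` fill `L(m D)` exactly when the genus attains the
plane-curve bound. -/
theorem plane_pow_eq_L_iff (x y : K)
    (hxy : IntermediateField.adjoin k ({x, y} : Set K) = ⊤) (m : ℕ)
    (hm1 : (mapDiv k ![(1 : K), x, y]).deg ≤ m + 1)
    (hm2 : 2 * (genus k K : ℤ) - 1 ≤ m * (mapDiv k ![(1 : K), x, y]).deg) :
    (Submodule.span k (Set.range ![(1 : K), x, y])) ^ m = L (m • mapDiv k ![(1 : K), x, y]) ↔
      2 * (genus k K : ℤ) = ((mapDiv k ![(1 : K), x, y]).deg - 1) *
        ((mapDiv k ![(1 : K), x, y]).deg - 2) := by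
  obtain ⟨t, z, htW, hzW, hspan, htz, htnc, hpole⟩ := exists_generic_coords hK x y hxy
  set D := mapDiv k ![(1 : K), x, y] with hD
  set W := Submodule.span k (Set.range ![(1 : K), x, y]) with hW
  have hWL : W ≤ L D := span_le_L_mapDiv (k := k) hK ![(1 : K), x, y]
  have hdeg := deg_poleDiv hK htnc
  rw [hpole] at hdeg
  set n := Module.finrank (IntermediateField.adjoin k ({t} : Set K)) K with hn
  have hzL : z ∈ L (poleDiv (k := k) t) := by rw [hpole]; exact hWL hzW
  have hfr := finrank_pow_span hK htnc htz hzL m
  rw [hspan, ← hn] at hfr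
  have hle : W ^ m ≤ L (m • D) := pow_le_L_nsmul hWL m
  have hfin := finiteDimensional_L hK (m • D)
  have hell := ell_eq_of_large_deg hK (D := m • D) (by
    rw [Divisor.deg_nsmul]; exact hm2)
  rw [Divisor.deg_nsmul, hdeg] at hell
  rw [hdeg] at hm1 hm2 ⊢
  have hm1' : n ≤ m + 1 := by exact_mod_cast hm1
  have hsum := two_mul_sum_range_sub m n hm1'
  have hfr' : (Module.finrank k ↥(W ^ m) : ℤ) = ∑ j ∈ Finset.range n, ((m + 1 - j : ℕ) : ℤ) := by
    rw [hfr]; push_cast; rfl
  constructor
  · intro heq
    have h1 : (Module.finrank k ↥(W ^ m) : ℤ) = ell (m • D) := by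
      rw [heq]; rfl
    rw [hfr', hell] at h1
    nlinarith
  · intro hg
    apply Submodule.eq_of_le_of_finrank_eq hle
    have : (Module.finrank k ↥(W ^ m) : ℤ) = (Module.finrank k ↥(L (m • D)) : ℤ) := by
      rw [hfr']
      have : (Module.finrank k ↥(L (m • D)) : ℤ) = (m : ℤ) * n + 1 - genus k K := hell
      rw [this]
      nlinarith
    exact_mod_cast this

end equality

end FunFld
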