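import Groth.Agent.Lib.Helper5.FunFld.Plane4

/-! Nonsingular projective maps are projectively normal in large degrees (helper5). -/

set_option autoImplicit false

namespace FunFld

open WithZero Polynomial

variable {k K : Type*} [Field k] [Field K] [Algebra k K] {ι : Type*}

/-- The affine coordinate ring of the chart where the section `s` does not vanish. -/
def chartRing (k : Type*) [Field k] [Algebra k K] (φ : ι → K) (s : K) : Subalgebra k K :=
  Algebra.adjoin k (Set.range fun i => φ i / s)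

lemma ratio_mem_chartRing (φ : ι → K) (s : K) (i : ι) : φ i / s ∈ chartRing k φ s :=
  Algebra.subset_adjoin ⟨i, rfl⟩

/-- Change of chart: from the chart of the entry `j` to the chart of the section `s`. -/
lemma exists_pow_mul_mem_chartRing (φ : ι → K) {j : ι} {s : K} (hs : s ≠ 0) (hj : φ j ≠ 0) {a : K}
    (ha : a ∈ affRing k φ j) :
    ∃ N : ℕ, ∀ M : ℕ, N ≤ M → a * (φ j / s) ^ M ∈ chartRing k φ s := by
  have hsr : φ j / s ∈ chartRing k φ s := ratio_mem_chartRing φ s j
  change a ∈ Algebra.adjoin k _ at ha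
  induction ha using Algebra.adjoin_induction with
  | mem x hx =>
    obtain ⟨i, rfl⟩ := hx
    refine ⟨1, fun M hM => ?_⟩
    obtain ⟨M', rfl⟩ : ∃ M', M = M' + 1 := ⟨M - 1, by omega⟩
    have : φ i / φ j * (φ j / s) ^ (M' + 1) = (φ i / s) * (φ j / s) ^ M' := by
      rw [pow_succ]; field_simp
    rw [this]
    exact Subalgebra.mul_mem _ (ratio_mem_chartRing φ s i) (Subalgebra.pow_mem _ hsr _)
  | algebraMap r =>
    refine ⟨0, fun M _ => ?_⟩
    exact Subalgebra.mul_mem _ (Subalgebra.algebraMap_mem _ r) (Subalgebra.pow_mem _ hsr _)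
  | add x y _ _ hx hy =>
    obtain ⟨N1, h1⟩ := hx
    obtain ⟨N2, h2⟩ := hy
    refine ⟨max N1 N2, fun M hM => ?_⟩
    rw [add_mul]
    exact Subalgebra.add_mem _ (h1 M (le_trans (le_max_left _ _) hM))
      (h2 M (le_trans (le_max_right _ _) hM))
  | mul x y _ _ hx hy =>
    obtain ⟨N1, h1⟩ := hx
    obtain ⟨N2, h2⟩ := hy
    refine ⟨N1 + N2, fun M hM => ?_⟩
    have : x * y * (φ j / s) ^ M = (x * (φ j / s) ^ N1) * (y * (φ j / s) ^ (M - N1)) := by
      rw [mul_mul_mul_comm, ← pow_add]
      congr 2; omega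
    rw [this]
    exact Subalgebra.mul_mem _ (h1 N1 le_rfl) (h2 (M - N1) (by omega))

/-- Elements of the chart ring of `s` are quotients of forms by powers of `s`. -/
lemma exists_mul_pow_mem_pow (φ : ι → K) {s : K} (hs : s ≠ 0)
    (hsW : s ∈ Submodule.span k (Set.range φ)) {a : K} (ha : a ∈ chartRing k φ s) :
    ∃ N : ℕ, ∀ M : ℕ, N ≤ M → a * s ^ M ∈ (Submodule.span k (Set.range φ)) ^ M := by
  set W := Submodule.span k (Set.range φ) with hW
  have hsM : ∀ M, s ^ M ∈ W ^ M := fun M => Submodule.pow_mem_pow W hsW M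
  change a ∈ Algebra.adjoin k _ at ha
  induction ha using Algebra.adjoin_induction with
  | mem x hx =>
    obtain ⟨i, rfl⟩ := hx
    refine ⟨1, fun M hM => ?_⟩
    obtain ⟨M', rfl⟩ : ∃ M', M = M' + 1 := ⟨M - 1, by omega⟩
    have : φ i / s * s ^ (M' + 1) = s ^ M' * φ i := by
      rw [pow_succ]; field_simp
    rw [this, pow_succ]
    exact Submodule.mul_mem_mul (hsM M') (Submodule.subset_span ⟨i, rfl⟩)
  | algebraMap r =>
    refine ⟨0, fun M _ => ?_⟩
    rw [← Algebra.smul_def]
    exact Submodule.smul_mem _ r (hsM M)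
  | add x y _ _ hx hy =>
    obtain ⟨N1, h1⟩ := hx
    obtain ⟨N2, h2⟩ := hy
    refine ⟨max N1 N2, fun M hM => ?_⟩
    rw [add_mul]
    exact Submodule.add_mem _ (h1 M (le_trans (le_max_left _ _) hM))
      (h2 M (le_trans (le_max_right _ _) hM))
  | mul x y _ _ hx hy =>
    obtain ⟨N1, h1⟩ := hx
    obtain ⟨N2, h2⟩ := hy
    refine ⟨N1 + N2, fun M hM => ?_⟩
    have : x * y * s ^ M = (x * s ^ N1) * (y * s ^ (M - N1)) := by
      rw [mul_mul_mul_comm, ← pow_add]
      congr 2; omega
    rw [this]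
    have hM' : W ^ M = W ^ N1 * W ^ (M - N1) := by
      rw [← pow_add]; congr 1; omega
    rw [hM']
    exact Submodule.mul_mem_mul (h1 N1 le_rfl) (h2 (M - N1) (by omega))

/-- An element of the span is bounded, at any place, by the entry of least order. -/
lemma IsLeast.v_le_of_mem_span {φ : ι → K} {P : Place k K} {j : ι} (hj : IsLeast φ P j) {s : K}
    (hs : s ∈ Submodule.span k (Set.range φ)) : P.1 s ≤ P.1 (φ j) := by
  induction hs using Submodule.span_induction with
  | mem x hx => obtain ⟨i, rfl⟩ := hx; exact hj.2 i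
  | zero => rw [map_zero]; exact zero_le
  | add x y _ _ hx hy => exact (P.1.map_add x y).trans (max_le hx hy)
  | smul c x _ hx =>
    rw [Algebra.smul_def, map_mul]
    calc P.1 (algebraMap k K c) * P.1 x ≤ 1 * P.1 (φ j) := mul_le_mul' (P.v_algebraMap_le c) hx
      _ = _ := one_mul _

section conductor

variable [IsAlgClosed k] (hK : IsFunctionField k K)

include hK in
/-- If the map is nonsingular everywhere, a function regular on the whole chart of the section
`s` lies in the coordinate ring of that chart. -/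
theorem mem_chartRing_of_regular (φ : ι → K) (hns : ∀ P : Place k K, IsNonsingularAt φ P)
    {s : K} (hs0 : s ≠ 0) (hsW : s ∈ Submodule.span k (Set.range φ))
    (hfrac : ∀ z : K, ∃ u ∈ chartRing k φ s, ∃ w ∈ chartRing k φ s, w ≠ 0 ∧ z * w = u)
    {z : K} (hreg : ∀ P : Place k K, (∀ i, P.1 (φ i) ≤ P.1 s) → P.1 z ≤ 1) :
    z ∈ chartRing k φ s := by
  by_contra hz
  set A := chartRing k φ s with hA
  let J : Ideal A.toSubring :=
    { carrier := {w | (w : K) * z ∈ A}
      add_mem' := by
        intro a b ha hb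
        show ((a + b : A.toSubring) : K) * z ∈ A
        rw [Subring.coe_add, add_mul]
        exact Subalgebra.add_mem _ ha hb
      zero_mem' := by
        show ((0 : A.toSubring) : K) * z ∈ A
        rw [Subring.coe_zero, zero_mul]
        exact Subalgebra.zero_mem _
      smul_mem' := by
        intro c a ha
        show ((c • a : A.toSubring) : K) * z ∈ A
        rw [smul_eq_mul, Subring.coe_mul, mul_assoc]
        exact Subalgebra.mul_mem _ c.2 ha }
  have hJmem : ∀ w : A.toSubring, w ∈ J ↔ (w : K) * z ∈ A := fun w => Iff.rfl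
  have hJ : J ≠ ⊤ := by
    intro h
    have h1 : (1 : A.toSubring) ∈ J := by rw [h]; trivial
    rw [hJmem, Subring.coe_one, one_mul] at h1
    exact hz h1
  obtain ⟨B, hAB, hJB⟩ := Ideal.image_subset_nonunits_valuationSubring J hJ
  have hAB' : ∀ a ∈ A, a ∈ B := fun a ha => hAB ha
  have hJB' : ∀ w ∈ A, w * z ∈ A → B.valuation w < 1 := by
    intro w hw hwz
    have : w ∈ B.nonunits := hJB ⟨⟨w, hw⟩, hwz, rfl⟩
    exact (ValuationSubring.mem_nonunits_iff B).1 this
  have hkB : ∀ c : k, algebraMap k K c ∈ B := fun c => hAB' _ (A.algebraMap_mem c)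
  have hBtop : B ≠ ⊤ := by
    intro hB
    obtain ⟨u, hu, w, hw, hw0, hzw⟩ := hfrac z
    have h1 := hJB' w hw (by rw [mul_comm, hzw]; exact hu)
    have h2 : B.valuation w⁻¹ ≤ 1 := (B.valuation_le_one_iff _).2 (by rw [hB]; trivial)
    rw [map_inv₀] at h2
    have h3 : 0 < B.valuation w := by
      rw [pos_iff_ne_zero]; exact (Valuation.ne_zero_iff _).2 hw0
    rw [inv_le_one₀ h3] at h2
    exact absurd h1 (not_lt.2 h2)
  obtain ⟨P, hP⟩ := exists_place_of_valuationSubring hK B hkB hBtop
  have hPB : ∀ x : K, x ∈ B ↔ P.1 x ≤ 1 := by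
    intro x
    rw [← hP]
    exact Valuation.mem_valuationSubring_iff _ _
  have hPs : ∀ i, P.1 (φ i) ≤ P.1 s := by
    intro i
    have := (hPB _).1 (hAB' _ (ratio_mem_chartRing φ s i))
    rw [map_div₀] at this
    exact (div_le_one₀ (pos_iff_ne_zero.2 (P.v_ne_zero hs0))).1 this
  have hPz := hreg P hPs
  obtain ⟨j, hj0, hjle, u, hu, w, hw, hw1, hzw⟩ := hns P z hPz
  have hj : IsLeast φ P j := ⟨hj0, hjle⟩
  have hsj : P.1 (φ j / s) = 1 := by
    rw [map_div₀, le_antisymm (hPs j) (hj.v_le_of_mem_span hsW)]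
    exact div_self (P.v_ne_zero hs0)
  obtain ⟨N1, h1⟩ := exists_pow_mul_mem_chartRing φ hs0 hj0 hu
  obtain ⟨N2, h2⟩ := exists_pow_mul_mem_chartRing φ hs0 hj0 hw
  set N := max N1 N2 with hN
  have hw' := h2 N (le_max_right _ _)
  have hu' := h1 N (le_max_left _ _)
  have hlt := hJB' _ hw' (by
    have : w * (φ j / s) ^ N * z = u * (φ j / s) ^ N := by rw [← hzw]; ring
    rw [this]; exact hu')
  have hPw' : P.1 (w * (φ j / s) ^ N) = 1 := by
    rw [map_mul, map_pow, hw1, hsj, one_pow, one_mul]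
  have hw'0 : w * (φ j / s) ^ N ≠ 0 := by
    intro h0
    rw [h0, map_zero] at hPw'
    exact zero_ne_one hPw'
  have h3 : B.valuation (w * (φ j / s) ^ N)⁻¹ ≤ 1 := by
    rw [B.valuation_le_one_iff, hPB, map_inv₀, hPw', inv_one]
  rw [map_inv₀, inv_le_one₀ (by
    rw [pos_iff_ne_zero]; exact (Valuation.ne_zero_iff _).2 hw'0)] at h3
  exact absurd hlt (not_lt.2 h3)

end conductor

section decomposition

variable (hK : IsFunctionField k K)

include hK in
/-- Iterating the multiplication map: sections of `(m₁ + r) E` are combinations of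
`s^i L(m₁ E)`, `i ≤ r`. -/
theorem exists_sum_pow_mul {E : Divisor k K} (hE : 0 ≤ E) {s : K}
    (hs : ∀ Q : Place k K, Q.1 s ≤ exp (E Q)) (hs' : ∀ Q : Place k K, 0 < E Q → Q.1 s = exp (E Q))
    (hs0 : s ≠ 0) (m1 : ℕ) (hm1 : 1 ≤ m1)
    (hm : 2 * (genus k K : ℤ) - 1 ≤ ((m1 : ℤ) - 1) * E.deg) (r : ℕ) :
    ∀ w ∈ L ((m1 + r) • E), ∃ f : ℕ → K, (∀ i, f i ∈ L (m1 • E)) ∧
      w = ∑ i ∈ Finset.range (r + 1), s ^ i * f i := by
  have hdeg0 : 0 ≤ E.deg := Divisor.deg_nonneg hE
  induction r with
  | zero =>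
    intro w hw
    exact ⟨fun _ => w, fun _ => hw, by simp⟩
  | succ r ih =>
    intro w hw
    have hstep := L_succ_nsmul_eq_sup hK hE hs hs' hs0 (m1 + r) (by omega) (by
      have : ((m1 : ℤ) - 1) * E.deg ≤ (((m1 + r : ℕ) : ℤ) - 1) * E.deg := by
        push_cast; nlinarith
      linarith)
    rw [show m1 + (r + 1) = m1 + r + 1 by ring, hstep, Submodule.mem_sup] at hw
    obtain ⟨a, ha, y, ⟨b, hb, rfl⟩, rfl⟩ := hw
    obtain ⟨f, hf, rfl⟩ := ih a ha
    obtain ⟨g, hg, rfl⟩ := ih b hb
    refine ⟨fun i => (if i ≤ r then f i else 0) + (if 1 ≤ i then g (i - 1) else 0), ?_, ?_⟩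
    · intro i
      refine Submodule.add_mem _ ?_ ?_
      · split_ifs
        · exact hf i
        · exact Submodule.zero_mem _
      · split_ifs
        · exact hg _
        · exact Submodule.zero_mem _
    · simp only [mul_add, Finset.sum_add_distrib, LinearMap.mulLeft_apply]
      congr 1
      · rw [Finset.sum_range_succ _ (r + 1)]
        rw [if_neg (by omega), mul_zero, add_zero]
        refine Finset.sum_congr rfl (fun i hi => ?_)
        rw [Finset.mem_range] at hi
        rw [if_pos (by omega)]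
      · rw [Finset.sum_range_succ' _ (r + 1)]
        rw [if_neg (by omega), mul_zero, add_zero, Finset.mul_sum]
        refine Finset.sum_congr rfl (fun i _ => ?_)
        rw [if_pos (by omega), Nat.add_sub_cancel, pow_succ]
        ring

end decomposition

section normality

variable [IsAlgClosed k] (hK : IsFunctionField k K) [Fintype ι] [Nonempty ι]

include hK in
/-- **Projective normality in large degrees.** A birational projective map that is nonsingular at
every place has `W^m = L(m D)` for all large `m`. -/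
theorem pow_eq_L_of_nonsingular (φ : ι → K) {j0 : ι} (hj0 : φ j0 = 1)
    (hbir : IntermediateField.adjoin k (Set.range φ) = ⊤)
    (hns : ∀ P : Place k K, IsNonsingularAt φ P) :
    ∃ m0 : ℕ, ∀ m, m0 ≤ m →
      (Submodule.span k (Set.range φ)) ^ m = L (m • mapDiv k φ) := by
  classical
  set D := mapDiv k φ with hD
  set W := Submodule.span k (Set.range φ) with hW
  have hD0 : 0 ≤ D := mapDiv_nonneg_of_one hK φ hj0
  have hWL : W ≤ L D := span_le_L_mapDiv hK φ
  have h1W : (1 : K) ∈ W := by rw [← hj0]; exact Submodule.subset_span ⟨j0, rfl⟩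
  -- `D ≠ 0`
  have hDne : D ≠ 0 := by
    intro hDz
    have hconst : ∀ i, φ i ∈ Set.range (algebraMap k K) := by
      intro i
      have h1 := hWL (Submodule.subset_span ⟨i, rfl⟩)
      rw [hDz, L_zero hK, Submodule.mem_one] at h1
      exact h1
    obtain ⟨⟨x, hx, -⟩, -⟩ := hK
    apply hx
    have hxmem : x ∈ IntermediateField.adjoin k (Set.range φ) := by rw [hbir]; trivial
    have hbot : IntermediateField.adjoin k (Set.range φ) = ⊥ := by
      rw [IntermediateField.adjoin_eq_bot_iff]
      rintro _ ⟨i, rfl⟩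
      show φ i ∈ (⊥ : IntermediateField k K)
      rw [IntermediateField.mem_bot]
      exact hconst i
    rw [hbot, IntermediateField.mem_bot] at hxmem
    obtain ⟨a', rfl⟩ := hxmem
    exact isAlgebraic_algebraMap a'
  have hdeg : 1 ≤ D.deg := by
    by_contra hlt
    have h0 : D.deg = 0 := le_antisymm (by omega) (Divisor.deg_nonneg hD0)
    exact hDne (Divisor.eq_zero_of_nonneg_of_deg_eq_zero hK hD0 h0)
  -- generic section
  obtain ⟨t, htW, ht⟩ := exists_generic_section hK φ
  have hts : ∀ Q : Place k K, Q.1 t ≤ exp (D Q) := fun Q => hWL htW Q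
  have hts' : ∀ Q : Place k K, 0 < D Q → Q.1 t = exp (D Q) := fun Q hQ => ht Q hQ.ne'
  have ht0 : t ≠ 0 := by
    rintro rfl
    obtain ⟨Q, hQ⟩ : ∃ Q, D Q ≠ 0 := by
      by_contra hno
      push Not at hno
      exact hDne (Finsupp.ext hno)
    have := ht Q hQ
    rw [map_zero] at this
    exact exp_ne_zero this.symm
  -- fractions
  have hfrac : ∀ s : K, s ≠ 0 → ∀ z : K,
      ∃ u ∈ chartRing k φ s, ∃ w ∈ chartRing k φ s, w ≠ 0 ∧ z * w = u := by
    intro s hs0 z
    have htop : IntermediateField.adjoin k (Set.range fun i => φ i / s) = ⊤ := by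
      rw [eq_top_iff, ← hbir, IntermediateField.adjoin_le_iff]
      rintro _ ⟨i, rfl⟩
      have h1 : φ i / s ∈ IntermediateField.adjoin k (Set.range fun i => φ i / s) :=
        IntermediateField.subset_adjoin k _ ⟨i, rfl⟩
      have h2 : φ j0 / s ∈ IntermediateField.adjoin k (Set.range fun i => φ i / s) :=
        IntermediateField.subset_adjoin k _ ⟨j0, rfl⟩
      have := div_mem h1 h2
      rwa [div_div_div_cancel_right₀ hs0, hj0, _root_.div_one] at this
    have hz : z ∈ IntermediateField.adjoin k (Set.range fun i => φ i / s) := by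
      rw [htop]; trivial
    rw [IntermediateField.mem_adjoin_iff_div] at hz
    obtain ⟨r, hr, q, hq, rfl⟩ := hz
    by_cases hq0 : q = 0
    · exact ⟨0, Subalgebra.zero_mem _, 1, Subalgebra.one_mem _, one_ne_zero, by simp [hq0]⟩
    · exact ⟨r, hr, q, hq, hq0, div_mul_cancel₀ r hq0⟩
  -- the base degree
  set g := genus k K with hg
  set m1 := 2 * g + 1 with hm1
  have hm1' : 2 * (g : ℤ) - 1 ≤ ((m1 : ℤ) - 1) * D.deg := by
    rw [hm1]; push_cast; nlinarith [Int.natCast_nonneg g]
  set T := L (m1 • D) with hT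
  have hfinT : FiniteDimensional k T := finiteDimensional_L hK _
  -- exactness of `t` at places of its chart
  have htexact : ∀ P : Place k K, (∀ i, P.1 (φ i) ≤ P.1 t) → P.1 t = exp (D P) := by
    intro P hP
    obtain ⟨j, -, hjv⟩ := exists_isLeast_of_one hK φ hj0 P
    exact le_antisymm (hts P) (hjv ▸ hP j)
  -- each section of `m1 D` becomes a form after multiplying by high powers of `1` or `t`
  have hkey : ∀ z ∈ T, ∃ N : ℕ, ∀ M, N ≤ M → z ∈ W ^ M ∧ z * t ^ (M - m1) ∈ W ^ M := by
    intro z hz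
    have hza : z ∈ chartRing k φ 1 := by
      refine mem_chartRing_of_regular hK φ hns one_ne_zero h1W (hfrac 1 one_ne_zero) ?_
      intro P hP
      obtain ⟨j, -, hjv⟩ := exists_isLeast_of_one hK φ hj0 P
      have h1 := hP j
      rw [hjv, map_one, ← exp_zero, exp_le_exp] at h1
      have h2 := hD0 P
      rw [Finsupp.zero_apply] at h2
      have h3 : D P = 0 := le_antisymm h1 h2
      have := hz P
      rwa [Finsupp.smul_apply, h3, smul_zero, exp_zero] at this
    have hzb : z / t ^ m1 ∈ chartRing k φ t := by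
      refine mem_chartRing_of_regular hK φ hns ht0 htW (hfrac t ht0) ?_
      intro P hP
      have h1 := htexact P hP
      have h2 := hz P
      rw [Finsupp.smul_apply, exp_nsmul] at h2
      rw [map_div₀, map_pow, h1]
      exact div_le_one_of_le₀ h2 zero_le
    obtain ⟨Na, hNa⟩ := exists_mul_pow_mem_pow φ one_ne_zero h1W hza
    obtain ⟨Nb, hNb⟩ := exists_mul_pow_mem_pow φ ht0 htW hzb
    refine ⟨max (max Na Nb) m1, fun M hM => ⟨?_, ?_⟩⟩
    · have := hNa M (by omega)
      rwa [one_pow, mul_one] at this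
    · have := hNb M (by omega)
      have e : z / t ^ m1 * t ^ M = z * t ^ (M - m1) := by
        have : t ^ M = t ^ m1 * t ^ (M - m1) := by rw [← pow_add]; congr 1; omega
        rw [this]
        field_simp
      rwa [e] at this
  -- uniform bound over a basis
  obtain ⟨N, hN⟩ : ∃ N : ℕ, ∀ z ∈ T, ∀ M, N ≤ M → z ∈ W ^ M ∧ z * t ^ (M - m1) ∈ W ^ M := by
    let b := Module.finBasis k T
    choose Nl hNl using fun l => hkey (b l : K) (b l).2
    refine ⟨∑ l, Nl l, fun z hz M hM => ?_⟩
    have hrep : z = ∑ l, b.repr ⟨z, hz⟩ l • (b l : K) := by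
      have := congrArg (Subtype.val) (b.sum_repr ⟨z, hz⟩)
      rw [Submodule.coe_sum] at this
      simp only [Submodule.coe_smul] at this
      exact this.symm
    have hl : ∀ l, Nl l ≤ M := fun l =>
      (Finset.single_le_sum (f := Nl) (fun _ _ => Nat.zero_le _) (Finset.mem_univ l)).trans hM
    constructor
    · rw [hrep]
      exact Submodule.sum_mem _ (fun l _ => Submodule.smul_mem _ _ (hNl l M (hl l)).1)
    · rw [hrep, Finset.sum_mul]
      refine Submodule.sum_mem _ (fun l _ => ?_)
      rw [smul_mul_assoc]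
      exact Submodule.smul_mem _ _ (hNl l M (hl l)).2
  refine ⟨m1 + 2 * (N + m1), fun m hm => ?_⟩
  apply le_antisymm (pow_le_L_nsmul hWL m)
  obtain ⟨r, rfl⟩ := Nat.exists_eq_add_of_le (show m1 ≤ m by omega)
  intro w hw
  obtain ⟨f, hf, rfl⟩ := exists_sum_pow_mul hK hD0 hts hts' ht0 m1 (by omega) hm1' r w hw
  refine Submodule.sum_mem _ (fun i hi => ?_)
  rw [Finset.mem_range] at hi
  by_cases hcase : N ≤ m1 + i
  · have := (hN (f i) (hf i) (m1 + i) hcase).2
    rw [Nat.add_sub_cancel_left, mul_comm] at this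
    exact pow_le_pow_of_one_mem h1W (by omega) this
  · have h1 := (hN (f i) (hf i) N le_rfl).1
    have h2 : t ^ i * f i ∈ W ^ i * W ^ N :=
      Submodule.mul_mem_mul (Submodule.pow_mem_pow W htW i) h1
    rw [← pow_add] at h2
    exact pow_le_pow_of_one_mem h1W (by omega) h2

end normality

end FunFld
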