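import Groth.Agent.Lib.Helper5.FunFld.Plane5

/-! Plane models: genus formula iff nonsingular (helper5). -/

set_option autoImplicit false

namespace FunFld

open WithZero Polynomial

variable {k K : Type*} [Field k] [Field K] [Algebra k K]

section

variable [IsAlgClosed k] (hK : IsFunctionField k K)

include hK in
lemma deg_mapDiv_plane_pos (x y : K) (hxy : IntermediateField.adjoin k ({x, y} : Set K) = ⊤) :
    0 < (mapDiv k ![(1 : K), x, y]).deg := by
  obtain ⟨t, z, -, -, -, -, htnc, hpole⟩ := exists_generic_coords hK x y hxy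
  have hdeg := deg_poleDiv hK htnc
  rw [hpole] at hdeg
  rw [hdeg]
  have := hK.finiteDimensional_adjoin (hK.transcendental_of_notMem htnc)
  have : 0 < Module.finrank (IntermediateField.adjoin k ({t} : Set K)) K := Module.finrank_pos
  exact_mod_cast this

include hK in
/-- A plane model attains the genus bound iff it is nonsingular at every place. -/
theorem two_mul_genus_eq_iff_nonsingular (x y : K)
    (hxy : IntermediateField.adjoin k ({x, y} : Set K) = ⊤) :
    2 * (genus k K : ℤ) = ((mapDiv k ![(1 : K), x, y]).deg - 1) *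
        ((mapDiv k ![(1 : K), x, y]).deg - 2) ↔
      ∀ P : Place k K, IsNonsingularAt ![(1 : K), x, y] P := by
  set D := mapDiv k ![(1 : K), x, y] with hD
  have hdpos := deg_mapDiv_plane_pos hK x y hxy
  rw [← hD] at hdpos
  have hlarge : ∀ m : ℕ, D.deg.toNat + 2 * genus k K ≤ m →
      D.deg ≤ m + 1 ∧ 2 * (genus k K : ℤ) - 1 ≤ m * D.deg := by
    intro m hm
    have h1 : D.deg = (D.deg.toNat : ℤ) := (Int.toNat_of_nonneg hdpos.le).symm
    have h2 : ((D.deg.toNat + 2 * genus k K : ℕ) : ℤ) ≤ (m : ℤ) := by exact_mod_cast hm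
    push_cast at h2
    have h3 : (0 : ℤ) ≤ (genus k K : ℤ) := Int.natCast_nonneg _
    constructor
    · omega
    · nlinarith
  constructor
  · intro hg P
    refine isNonsingularAt_of_pow_eq_L hK ![(1 : K), x, y] (j0 := 0) rfl hdpos ?_ P
    refine ⟨D.deg.toNat + 2 * genus k K, fun m hm => ?_⟩
    obtain ⟨h1, h2⟩ := hlarge m hm
    exact (plane_pow_eq_L_iff hK x y hxy m h1 h2).2 hg
  · intro hns
    have hbir : IntermediateField.adjoin k (Set.range ![(1 : K), x, y]) = ⊤ := by
      rw [eq_top_iff, ← hxy]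
      apply IntermediateField.adjoin.mono
      rintro w (rfl | rfl)
      · exact ⟨1, rfl⟩
      · exact ⟨2, rfl⟩
    obtain ⟨m0, hm0⟩ := pow_eq_L_of_nonsingular hK ![(1 : K), x, y] (j0 := 0) rfl hbir hns
    set m := max m0 (D.deg.toNat + 2 * genus k K) with hm
    obtain ⟨h1, h2⟩ := hlarge m (le_max_right _ _)
    exact (plane_pow_eq_L_iff hK x y hxy m h1 h2).1 (hm0 m (le_max_left _ _))

include hK in
/-- The genus of a function field with a nonsingular plane model is a triangular number. -/
theorem exists_triangular_of_nonsingular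
    (h : ∃ x y : K, IntermediateField.adjoin k ({x, y} : Set K) = ⊤ ∧
      ∀ P : Place k K, IsNonsingularAt ![(1 : K), x, y] P) :
    ∃ m : ℕ, 2 * genus k K = m * (m + 1) := by
  obtain ⟨x, y, hxy, hns⟩ := h
  have hg := (two_mul_genus_eq_iff_nonsingular hK x y hxy).2 hns
  have hdpos := deg_mapDiv_plane_pos hK x y hxy
  set d := (mapDiv k ![(1 : K), x, y]).deg with hd
  obtain ⟨n, hn⟩ : ∃ n : ℕ, d = n := ⟨d.toNat, (Int.toNat_of_nonneg hdpos.le).symm⟩
  rw [hn] at hg hdpos
  have hn1 : 1 ≤ n := by exact_mod_cast hdpos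
  refine ⟨n - 2, ?_⟩
  rcases Nat.lt_or_ge n 2 with h2 | h2
  · have : n = 1 := by omega
    subst this
    simp only [Nat.cast_one, sub_self, zero_mul] at hg
    have : genus k K = 0 := by omega
    rw [this]
  · obtain ⟨m, rfl⟩ : ∃ m, n = m + 2 := ⟨n - 2, by omega⟩
    have : ((2 * genus k K : ℕ) : ℤ) = ((m * (m + 1) : ℕ) : ℤ) := by
      push_cast at hg ⊢
      rw [hg]; ring
    have := Nat.cast_injective this
    rw [Nat.add_sub_cancel]
    exact this

end

end FunFld
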