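import Groth.Agent.Lib.Helper5.FunFld.Plane6
import Mathlib.Algebra.MvPolynomial.Equiv
import Mathlib.Algebra.MvPolynomial.NoZeroDivisors
import Mathlib.RingTheory.AlgebraicIndependent.Basic

/-! Plane models: the ideal of relations is principal (helper5). -/

set_option autoImplicit false

namespace FunFld

open WithZero

variable {k K : Type*} [Field k] [Field K] [Algebra k K]

section bivariate

/-- Evaluation in the second variable only. -/
noncomputable def ev1 (k : Type*) [Field k] [Algebra k K] (b : K) :
    MvPolynomial (Fin 1) k →ₐ[k] K :=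
  MvPolynomial.aeval (fun _ => b)

lemma aeval_eq_eval₂_finSuccEquiv (a b : K) (p : MvPolynomial (Fin 2) k) :
    MvPolynomial.aeval ![a, b] p =
      Polynomial.eval₂ (ev1 k b : MvPolynomial (Fin 1) k →+* K) a
        (MvPolynomial.finSuccEquiv k 1 p) := by
  induction p using MvPolynomial.induction_on with
  | C r =>
    rw [MvPolynomial.aeval_C, MvPolynomial.finSuccEquiv_apply, MvPolynomial.eval₂Hom_C]
    simp [ev1]
  | add p q hp hq => rw [map_add, map_add, Polynomial.eval₂_add, hp, hq]
  | mul_X p i hp =>
    rw [map_mul, map_mul, Polynomial.eval₂_mul, hp, MvPolynomial.aeval_X]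
    congr 1
    fin_cases i
    · show a = _
      rw [show (⟨0, by omega⟩ : Fin 2) = 0 from rfl, MvPolynomial.finSuccEquiv_X_zero,
        Polynomial.eval₂_X]
    · show b = _
      rw [show (⟨1, by omega⟩ : Fin 2) = Fin.succ 0 from rfl, MvPolynomial.finSuccEquiv_X_succ,
        Polynomial.eval₂_C]
      simp [ev1]

lemma ev1_injective {b : K} (hb : Transcendental k b) : Function.Injective (ev1 k b) := by
  have : AlgebraicIndependent k (fun _ : Fin 1 => b) :=
    algebraicIndependent_unique_type_iff.2 hb
  exact this

lemma ev1_mem_adjoin (b : K) (q : MvPolynomial (Fin 1) k) :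
    ev1 k b q ∈ IntermediateField.adjoin k ({b} : Set K) := by
  have h1 : ev1 k b q ∈ (MvPolynomial.aeval (fun _ : Fin 1 => b) : _ →ₐ[k] K).range := ⟨q, rfl⟩
  rw [← Algebra.adjoin_range_eq_range_aeval] at h1
  have h2 : Set.range (fun _ : Fin 1 => b) = {b} := by
    ext w; simp
  rw [h2] at h1
  exact IntermediateField.algebra_adjoin_le_adjoin k _ h1

/-- **Division.** If `G` is monic of degree `n` in the first variable and vanishes at `(a, b)`
with `b` transcendental and `1, a, …, a^(n-1)` independent over `k(b)`, then `G` generates the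
ideal of relations of `(a, b)`. -/
theorem ker_aeval_eq_span {a b : K} (hb : Transcendental k b) {n : ℕ}
    (G : MvPolynomial (Fin 2) k) (hG : (MvPolynomial.finSuccEquiv k 1 G).Monic)
    (hGn : (MvPolynomial.finSuccEquiv k 1 G).natDegree = n)
    (hGev : MvPolynomial.aeval ![a, b] G = 0)
    (hli : LinearIndependent (IntermediateField.adjoin k ({b} : Set K))
      (fun j : Fin n => a ^ (j : ℕ))) :
    RingHom.ker (MvPolynomial.aeval ![a, b] : MvPolynomial (Fin 2) k →ₐ[k] K) =
      Ideal.span {G} := by
  apply le_antisymm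
  · intro h hh
    rw [RingHom.mem_ker, aeval_eq_eval₂_finSuccEquiv] at hh
    rw [aeval_eq_eval₂_finSuccEquiv] at hGev
    set e := MvPolynomial.finSuccEquiv k 1 with he
    set f : MvPolynomial (Fin 1) k →+* K := (ev1 k b : MvPolynomial (Fin 1) k →+* K) with hf
    have hdiv := Polynomial.modByMonic_add_div (e h) (e G)
    have hr0 : Polynomial.eval₂ f a (e h %ₘ e G) = 0 := by
      have := congrArg (Polynomial.eval₂ f a) hdiv
      rw [Polynomial.eval₂_add, Polynomial.eval₂_mul, hGev, zero_mul, add_zero, hh] at this
      exact this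
    have hrem : e h %ₘ e G = 0 := by
      rcases Nat.eq_zero_or_pos n with hn0 | hnpos
      · have : e G = 1 := by
          rw [hn0] at hGn
          exact Polynomial.eq_one_of_monic_natDegree_zero hG hGn
        rw [this, Polynomial.modByMonic_one]
      · have hG1 : e G ≠ 1 := by
          intro h1
          rw [h1, Polynomial.natDegree_one] at hGn
          omega
        have hlt := Polynomial.natDegree_modByMonic_lt (e h) hG hG1
        rw [hGn] at hlt
        set r := e h %ₘ e G with hr
        rw [Polynomial.eval₂_eq_sum_range' f hlt a] at hr0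
        have hcoe : ∀ j : Fin n, f (r.coeff j) ∈ IntermediateField.adjoin k ({b} : Set K) :=
          fun j => ev1_mem_adjoin b _
        have hsum : ∑ j : Fin n, (⟨_, hcoe j⟩ : IntermediateField.adjoin k ({b} : Set K)) •
            a ^ (j : ℕ) = 0 := by
          rw [← hr0, Finset.sum_range]
          rfl
        have hz := Fintype.linearIndependent_iff.1 hli _ hsum
        refine Polynomial.ext (fun j => ?_)
        rw [Polynomial.coeff_zero]
        by_cases hj : j < n
        · have h1 := congrArg (fun w : IntermediateField.adjoin k ({b} : Set K) => (w : K))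
            (hz ⟨j, hj⟩)
          simp only at h1
          have h2 : ev1 k b (r.coeff j) = ev1 k b 0 := by rw [map_zero]; exact h1
          exact ev1_injective hb h2
        · exact Polynomial.coeff_eq_zero_of_natDegree_lt (by omega)
    rw [hrem, zero_add] at hdiv
    rw [Ideal.mem_span_singleton]
    refine ⟨e.symm (e h /ₘ e G), ?_⟩
    apply e.injective
    rw [map_mul, AlgEquiv.apply_symm_apply, hdiv]
  · rw [Ideal.span_le]
    rintro _ rfl
    exact hGev

end bivariate

section relpoly

/-- The plane relation as a bivariate polynomial (`X 0 ↔ z`, `X 1 ↔ t`). -/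
noncomputable def relPoly (a : ℕ → Polynomial k) (n : ℕ) : MvPolynomial (Fin 2) k :=
  MvPolynomial.X 0 ^ n + ∑ i ∈ Finset.range n,
    Polynomial.aeval (MvPolynomial.X 1 : MvPolynomial (Fin 2) k) (a i) * MvPolynomial.X 0 ^ i

lemma aeval_relPoly (a : ℕ → Polynomial k) (n : ℕ) (z t : K) :
    MvPolynomial.aeval ![z, t] (relPoly a n) =
      z ^ n + ∑ i ∈ Finset.range n, Polynomial.aeval t (a i) * z ^ i := by
  unfold relPoly
  rw [map_add, map_pow, MvPolynomial.aeval_X, map_sum]
  congr 1
  refine Finset.sum_congr rfl (fun i _ => ?_)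
  rw [map_mul, map_pow, MvPolynomial.aeval_X, ← Polynomial.aeval_algHom_apply,
    MvPolynomial.aeval_X]
  rfl

lemma finSuccEquiv_relPoly (a : ℕ → Polynomial k) (n : ℕ) :
    MvPolynomial.finSuccEquiv k 1 (relPoly a n) =
      Polynomial.X ^ n + ∑ i ∈ Finset.range n,
        Polynomial.C (Polynomial.aeval (MvPolynomial.X 0 : MvPolynomial (Fin 1) k) (a i)) *
          Polynomial.X ^ i := by
  unfold relPoly
  rw [map_add, map_pow, MvPolynomial.finSuccEquiv_X_zero, map_sum]
  congr 1
  refine Finset.sum_congr rfl (fun i _ => ?_)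
  rw [map_mul, map_pow, MvPolynomial.finSuccEquiv_X_zero]
  congr 1
  have h1 := (Polynomial.aeval_algHom_apply (MvPolynomial.finSuccEquiv k 1).toAlgHom
    (MvPolynomial.X 1 : MvPolynomial (Fin 2) k) (a i)).symm
  have h2 : (MvPolynomial.finSuccEquiv k 1).toAlgHom (MvPolynomial.X 1 : MvPolynomial (Fin 2) k) =
      Polynomial.C (MvPolynomial.X 0) := by
    show MvPolynomial.finSuccEquiv k 1 (MvPolynomial.X (Fin.succ 0)) = _
    rw [MvPolynomial.finSuccEquiv_X_succ]
  rw [h2] at h1
  have h3 := Polynomial.aeval_algHom_apply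
    (Algebra.ofId (MvPolynomial (Fin 1) k) (Polynomial (MvPolynomial (Fin 1) k))
      |>.restrictScalars k) (MvPolynomial.X 0 : MvPolynomial (Fin 1) k) (a i)
  exact h1.trans h3

lemma degree_relPoly_tail_lt (a : ℕ → Polynomial k) (n : ℕ) :
    (∑ i ∈ Finset.range n,
        Polynomial.C (Polynomial.aeval (MvPolynomial.X 0 : MvPolynomial (Fin 1) k) (a i)) *
          Polynomial.X ^ i).degree < (n : WithBot ℕ) := by
  refine lt_of_le_of_lt (Polynomial.degree_sum_le _ _) ?_
  refine (Finset.sup_lt_iff (WithBot.bot_lt_coe n)).2 ?_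
  intro i hi
  rw [Finset.mem_range] at hi
  refine lt_of_le_of_lt (Polynomial.degree_C_mul_X_pow_le i _) ?_
  exact WithBot.coe_lt_coe.2 hi

lemma monic_finSuccEquiv_relPoly (a : ℕ → Polynomial k) (n : ℕ) :
    (MvPolynomial.finSuccEquiv k 1 (relPoly a n)).Monic := by
  rw [finSuccEquiv_relPoly]
  exact Polynomial.monic_X_pow_add (degree_relPoly_tail_lt a n)

lemma natDegree_finSuccEquiv_relPoly (a : ℕ → Polynomial k) (n : ℕ) :
    (MvPolynomial.finSuccEquiv k 1 (relPoly a n)).natDegree = n := by
  rw [finSuccEquiv_relPoly]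
  have h := degree_relPoly_tail_lt a n
  have h2 : ((Polynomial.X : Polynomial (MvPolynomial (Fin 1) k)) ^ n).degree = n :=
    Polynomial.degree_X_pow n
  have h3 := Polynomial.degree_add_eq_left_of_degree_lt
    (p := (Polynomial.X : Polynomial (MvPolynomial (Fin 1) k)) ^ n)
    (q := ∑ i ∈ Finset.range n,
        Polynomial.C (Polynomial.aeval (MvPolynomial.X 0 : MvPolynomial (Fin 1) k) (a i)) *
          Polynomial.X ^ i) (by rw [h2]; exact h)
  rw [h2] at h3
  exact Polynomial.natDegree_eq_of_degree_eq_some h3

lemma totalDegree_polynomial_aeval_X_le (q : Polynomial k) (i : Fin 2) :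
    (Polynomial.aeval (MvPolynomial.X i : MvPolynomial (Fin 2) k) q).totalDegree ≤ q.natDegree := by
  rw [Polynomial.aeval_eq_sum_range]
  refine (MvPolynomial.totalDegree_finsetSum _ _).trans ?_
  rw [Finset.sup_le_iff]
  intro j hj
  rw [Finset.mem_range] at hj
  refine (MvPolynomial.totalDegree_smul_le _ _).trans ?_
  rw [MvPolynomial.totalDegree_X_pow]
  omega

lemma totalDegree_relPoly {a : ℕ → Polynomial k} {n : ℕ}
    (hdeg : ∀ i, i < n → (a i).natDegree ≤ n - i) : (relPoly a n).totalDegree = n := by
  apply le_antisymm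
  · unfold relPoly
    refine (MvPolynomial.totalDegree_add _ _).trans (max_le ?_ ?_)
    · rw [MvPolynomial.totalDegree_X_pow]
    · refine (MvPolynomial.totalDegree_finsetSum _ _).trans ?_
      rw [Finset.sup_le_iff]
      intro i hi
      rw [Finset.mem_range] at hi
      refine (MvPolynomial.totalDegree_mul _ _).trans ?_
      have h1 := totalDegree_polynomial_aeval_X_le (a i) (1 : Fin 2)
      have h2 := hdeg i hi
      rw [MvPolynomial.totalDegree_X_pow]
      omega
  · have h1 := natDegree_finSuccEquiv_relPoly a n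
    rw [MvPolynomial.natDegree_finSuccEquiv] at h1
    have h2 := MvPolynomial.degreeOf_le_totalDegree (relPoly a n) 0
    omega

end relpoly

section generic

variable (hK : IsFunctionField k K)

include hK in
/-- **The ideal of a plane model in generic coordinates** is generated by an irreducible
polynomial of total degree `[K : k(t)]`. -/
theorem exists_ker_aeval_eq_span {t z : K} (ht : t ∉ Set.range (algebraMap k K))
    (htz : IntermediateField.adjoin k ({t, z} : Set K) = ⊤)
    (hz : z ∈ L (poleDiv (k := k) t)) :
    ∃ G : MvPolynomial (Fin 2) k, Irreducible G ∧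
      G.totalDegree = Module.finrank (IntermediateField.adjoin k ({t} : Set K)) K ∧
      RingHom.ker (MvPolynomial.aeval ![z, t] : MvPolynomial (Fin 2) k →ₐ[k] K) =
        Ideal.span {G} := by
  have httr := hK.transcendental_of_notMem ht
  set n := Module.finrank (IntermediateField.adjoin k ({t} : Set K)) K with hn
  obtain ⟨a, hdeg, hrel⟩ := exists_monic_relation_deg hK ht htz hz
  rw [← hn] at hdeg hrel
  have hli := linearIndependent_pow (K := IntermediateField.adjoin k ({t} : Set K)) z
  rw [natDegree_minpoly_eq_finrank hK httr htz, ← hn] at hli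
  have hker := ker_aeval_eq_span httr (relPoly a n) (monic_finSuccEquiv_relPoly a n)
    (natDegree_finSuccEquiv_relPoly a n) (by rw [aeval_relPoly]; exact hrel) hli
  refine ⟨relPoly a n, ?_, totalDegree_relPoly hdeg, hker⟩
  have hne : relPoly a n ≠ 0 := by
    intro h0
    have := monic_finSuccEquiv_relPoly a n
    rw [h0, map_zero] at this
    exact Polynomial.not_monic_zero this
  have hprime : (Ideal.span {relPoly a n}).IsPrime := by
    rw [← hker]
    exact RingHom.ker_isPrime _
  exact ((Ideal.span_singleton_prime hne).1 hprime).irreducible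

end generic

end FunFld
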