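import Groth.Agent.Lib.Helper5.FunFld.LinSeries2

/-! Riemann–Roch computations on curves of genus two over an algebraically closed field (helper5). -/

set_option autoImplicit false

namespace FunFld

open WithZero

variable {k K : Type*} [Field k] [Field K] [Algebra k K]

section

variable (hK : IsFunctionField k K)

include hK in
lemma deg_single' [IsAlgClosed k] (P : Place k K) (n : ℤ) :
    Divisor.deg (Finsupp.single P n : Divisor k K) = n := by
  rw [Divisor.deg_single, Place.deg_eq_one_of_isAlgClosed hK P]; simp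

include hK in
/-- A divisor of degree zero with `ℓ > 0` is principal (up to sign). -/
lemma exists_add_div_eq_zero {D : Divisor k K} (hpos : 0 < ell D) (hdeg : D.deg = 0) :
    ∃ x : K, x ≠ 0 ∧ D + div k x = 0 := by
  obtain ⟨x, hx0, hx⟩ := (ell_pos_iff hK D).1 hpos
  refine ⟨x, hx0, Divisor.eq_zero_of_nonneg_of_deg_eq_zero hK hx ?_⟩
  rw [Divisor.deg_add, deg_div hK, hdeg, add_zero]

include hK in
/-- If `D ≥ 0` and `ℓ(D) = 1` then `L(D)` consists of constants. -/
lemma mem_range_of_mem_L_of_ell_eq_one {D : Divisor k K} (hD : 0 ≤ D) (h1 : ell D = 1) {x : K}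
    (hx : x ∈ L D) : x ∈ Set.range (algebraMap k K) := by
  have hfd := finiteDimensional_L hK D
  have hle : L (0 : Divisor k K) ≤ L D := L_mono hD
  have heq : L (0 : Divisor k K) = L D :=
    Submodule.eq_of_le_of_finrank_eq hle (by
      change ell (0 : Divisor k K) = ell D
      rw [ell_zero hK, h1])
  rw [← heq, L_zero hK, Submodule.mem_one] at hx
  exact hx

end

section genus2

variable [IsAlgClosed k] (hK : IsFunctionField k K) (hg : genus k K = 2)

include hK hg in
/-- S17249. -/
theorem no_weight_three_17249 {C : Divisor k K} (hC : IsCanonical k K C) (A P Q : Place k K)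
    (hA : ell (Finsupp.single A (2 : ℤ) : Divisor k K) = 1) (hQ : Q ≠ A) :
    ell (C + Finsupp.single A (2 : ℤ) - Finsupp.single P (1 : ℤ) - Finsupp.single Q (1 : ℤ)) ≠ 2 := by
  intro h2
  set D : Divisor k K :=
    C + Finsupp.single A (2 : ℤ) - Finsupp.single P (1 : ℤ) - Finsupp.single Q (1 : ℤ) with hD
  have hdegC := deg_canonical hK hC
  have hdegD : D.deg = 2 := by
    rw [hD, Divisor.deg_sub, Divisor.deg_sub, Divisor.deg_add, deg_single' hK, deg_single' hK,
      deg_single' hK, hdegC, hg]; norm_num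
  have hrr := riemann_roch hK hC D
  rw [h2, hdegD, hg] at hrr
  have h1 : ell (C - D) = 1 := by
    have : (ell (C - D) : ℤ) = 1 := by push_cast at hrr; linarith
    exact_mod_cast this
  have hdeg0 : (C - D).deg = 0 := by rw [Divisor.deg_sub, hdegC, hdegD, hg]; norm_num
  obtain ⟨x, hx0, hx⟩ := exists_add_div_eq_zero hK (by omega) hdeg0
  have hCD : C - D = Finsupp.single P (1 : ℤ) + Finsupp.single Q (1 : ℤ) -
      Finsupp.single A (2 : ℤ) := by rw [hD]; abel
  have hxi0 : x⁻¹ ≠ 0 := inv_ne_zero hx0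
  have hmem : x⁻¹ ∈ L (Finsupp.single A (2 : ℤ) : Divisor k K) := by
    rw [mem_L_iff_div hK hxi0, div_inv hK]
    have : (Finsupp.single A (2 : ℤ) : Divisor k K) + -div k x =
        Finsupp.single P (1 : ℤ) + Finsupp.single Q (1 : ℤ) := by
      have : div k x = -(C - D) := (neg_eq_of_add_eq_zero_right hx).symm
      rw [this, hCD]; abel
    rw [this]
    exact add_nonneg (single_nonneg P (by norm_num)) (single_nonneg Q (by norm_num))
  obtain ⟨c, hc⟩ := mem_range_of_mem_L_of_ell_eq_one hK (single_nonneg A (by norm_num)) hA hmem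
  have hdx : div k x = 0 := by
    have h := div_inv hK x
    rw [← hc, div_algebraMap hK] at h
    exact neg_eq_zero.1 h.symm
  rw [hdx, add_zero, hCD] at hx
  have := DFunLike.congr_fun hx Q
  rw [Finsupp.sub_apply, Finsupp.add_apply, Finsupp.single_eq_same,
    Finsupp.single_eq_of_ne hQ, Finsupp.zero_apply] at this
  classical
  by_cases hPQ : Q = P
  · subst hPQ
    rw [Finsupp.single_eq_same] at this
    omega
  · rw [Finsupp.single_eq_of_ne hPQ] at this
    omega

include hK hg in
/-- S17250. -/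
theorem no_weight_three_17250 {C : Divisor k K} (hC : IsCanonical k K C) (A P Q : Place k K)
    (hP : P ≠ A)
    (h1 : ell (C + Finsupp.single A (3 : ℤ) - Finsupp.single P (1 : ℤ) -
      Finsupp.single Q (4 : ℤ)) = 1)
    (h2 : ell (C + Finsupp.single A (3 : ℤ) - Finsupp.single P (1 : ℤ) -
      Finsupp.single Q (2 : ℤ)) = 2) : False := by
  set T : Divisor k K := Finsupp.single A (3 : ℤ) - Finsupp.single P (1 : ℤ) with hT
  have hdegC := deg_canonical hK hC
  rw [hg] at hdegC
  have hdegT : T.deg = 2 := by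
    rw [hT, Divisor.deg_sub, deg_single' hK, deg_single' hK]; norm_num
  have e1 : C + Finsupp.single A (3 : ℤ) - Finsupp.single P (1 : ℤ) - Finsupp.single Q (4 : ℤ) =
      C + T - Finsupp.single Q (4 : ℤ) := by rw [hT]; abel
  have e2 : C + Finsupp.single A (3 : ℤ) - Finsupp.single P (1 : ℤ) - Finsupp.single Q (2 : ℤ) =
      C + T - Finsupp.single Q (2 : ℤ) := by rw [hT]; abel
  rw [e1] at h1
  rw [e2] at h2
  have hdeg1 : (C + T - Finsupp.single Q (4 : ℤ)).deg = 0 := by
    rw [Divisor.deg_sub, Divisor.deg_add, hdegC, hdegT, deg_single' hK]; norm_num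
  obtain ⟨x, hx0, hx⟩ := exists_add_div_eq_zero hK (by omega) hdeg1
  have hdeg2 : (C + T - Finsupp.single Q (2 : ℤ)).deg = 2 := by
    rw [Divisor.deg_sub, Divisor.deg_add, hdegC, hdegT, deg_single' hK]; norm_num
  have hrr := riemann_roch hK hC (C + T - Finsupp.single Q (2 : ℤ))
  rw [h2, hdeg2, hg] at hrr
  have h3 : ell (C - (C + T - Finsupp.single Q (2 : ℤ))) = 1 := by
    have : (ell (C - (C + T - Finsupp.single Q (2 : ℤ))) : ℤ) = 1 := by
      push_cast at hrr; linarith
    exact_mod_cast this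
  have hdeg3 : (C - (C + T - Finsupp.single Q (2 : ℤ))).deg = 0 := by
    rw [Divisor.deg_sub, hdegC, hdeg2]; norm_num
  obtain ⟨y, hy0, hy⟩ := exists_add_div_eq_zero hK (by omega) hdeg3
  have hQ4 : (Finsupp.single Q (4 : ℤ) : Divisor k K) =
      Finsupp.single Q (2 : ℤ) + Finsupp.single Q (2 : ℤ) := by
    rw [← Finsupp.single_add]; norm_num
  -- `T = C + div (x * y * y)`
  have hxyy : x * y * y ≠ 0 := mul_ne_zero (mul_ne_zero hx0 hy0) hy0
  have hTeq : T = C + div k (x * y * y) := by
    rw [div_mul hK (mul_ne_zero hx0 hy0) hy0, div_mul hK hx0 hy0]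
    have hTy : T = Finsupp.single Q (2 : ℤ) + div k y := by
      have : T - Finsupp.single Q (2 : ℤ) - div k y = 0 := by
        rw [← neg_eq_zero, ← hy]; abel
      rw [sub_eq_zero, sub_eq_iff_eq_add] at this
      rw [this]; abel
    have hCx : C = Finsupp.single Q (2 : ℤ) - div k y - div k x := by
      have : C + T - Finsupp.single Q (4 : ℤ) + div k x = 0 := hx
      rw [hQ4, hTy] at this
      have h' : C - (Finsupp.single Q (2 : ℤ) - div k y - div k x) = 0 := by
        rw [← this]; abel
      exact sub_eq_zero.1 h'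
    rw [hTy]
    conv_rhs => rw [hCx]
    abel
  have hellT : ell T = 2 := by
    rw [hTeq, ell_add_div hK C hxyy, ell_canonical hK hC, hg]
  have h3A : (ell (Finsupp.single A (3 : ℤ) : Divisor k K) : ℤ) = 2 := by
    have := ell_eq_of_large_deg hK (D := (Finsupp.single A (3 : ℤ) : Divisor k K))
      (by rw [deg_single' hK, hg]; norm_num)
    rw [this, deg_single' hK, hg]; norm_num
  have hle : T ≤ Finsupp.single A (3 : ℤ) := by
    rw [hT]
    exact sub_le_self _ (single_nonneg P (by norm_num))
  have hfd := finiteDimensional_L hK (Finsupp.single A (3 : ℤ) : Divisor k K)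
  have heq : L T = L (Finsupp.single A (3 : ℤ) : Divisor k K) :=
    Submodule.eq_of_le_of_finrank_eq (L_mono hle) (by
      change ell T = ell (Finsupp.single A (3 : ℤ) : Divisor k K)
      rw [hellT]; exact_mod_cast h3A.symm)
  have h1mem : (1 : K) ∈ L T := by
    rw [heq, mem_L_iff_div hK one_ne_zero, div_one hK, add_zero]
    exact single_nonneg A (by norm_num)
  rw [mem_L_iff_div hK one_ne_zero, div_one hK, add_zero] at h1mem
  have := h1mem P
  rw [hT, Finsupp.sub_apply, Finsupp.single_eq_same, Finsupp.single_eq_of_ne hP,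
    Finsupp.zero_apply] at this
  norm_num at this

include hK hg in
/-- S17251. -/
theorem no_common_ramification_17251 {C : Divisor k K} (hC : IsCanonical k K C) (B Q : Place k K)
    (hB : ell (Finsupp.single B (2 : ℤ) : Divisor k K) = 1) (hQ : Q ≠ B)
    (h1 : ell (C + Finsupp.single B (1 : ℤ) - Finsupp.single Q (2 : ℤ)) = 1)
    (h2 : ell (C + Finsupp.single B (3 : ℤ) - Finsupp.single Q (4 : ℤ)) = 1) : False := by
  have hdegC := deg_canonical hK hC
  rw [hg] at hdegC
  have hellC := ell_canonical hK hC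
  rw [hg] at hellC
  -- Step 1: `ℓ(2Q - B) = 1`
  set D1 : Divisor k K := Finsupp.single Q (2 : ℤ) - Finsupp.single B (1 : ℤ) with hD1
  have hdegD1 : D1.deg = 1 := by
    rw [hD1, Divisor.deg_sub, deg_single' hK, deg_single' hK]; norm_num
  have hrr1 := riemann_roch hK hC D1
  have e1 : C - D1 = C + Finsupp.single B (1 : ℤ) - Finsupp.single Q (2 : ℤ) := by
    rw [hD1]; abel
  rw [e1, h1, hdegD1, hg] at hrr1
  have hellD1 : ell D1 = 1 := by
    have : (ell D1 : ℤ) = 1 := by push_cast at hrr1; linarith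
    exact_mod_cast this
  obtain ⟨x, hx0, hx⟩ := (ell_pos_iff hK D1).1 (by omega)
  -- Step 2: `ℓ(C - 2Q) > 0`
  have hpos : 0 < ell (C - Finsupp.single Q (2 : ℤ)) := by
    by_contra h0
    have h0 : ell (C - Finsupp.single Q (2 : ℤ)) = 0 := by omega
    have hrr := riemann_roch hK hC (Finsupp.single Q (2 : ℤ) : Divisor k K)
    rw [h0, deg_single' hK, hg] at hrr
    have h2Q : ell (Finsupp.single Q (2 : ℤ) : Divisor k K) = 1 := by
      have : (ell (Finsupp.single Q (2 : ℤ) : Divisor k K) : ℤ) = 1 := by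
        push_cast at hrr; linarith
      exact_mod_cast this
    have hxmem : x ∈ L (Finsupp.single Q (2 : ℤ) : Divisor k K) := by
      rw [mem_L_iff_div hK hx0]
      have : (Finsupp.single Q (2 : ℤ) : Divisor k K) + div k x =
          (D1 + div k x) + Finsupp.single B (1 : ℤ) := by rw [hD1]; abel
      rw [this]
      exact add_nonneg hx (single_nonneg B (by norm_num))
    obtain ⟨c, hc⟩ := mem_range_of_mem_L_of_ell_eq_one hK (single_nonneg Q (by norm_num)) h2Q hxmem
    rw [← hc, div_algebraMap hK, add_zero] at hx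
    have := hx B
    rw [hD1, Finsupp.sub_apply, Finsupp.single_eq_same, Finsupp.single_eq_of_ne hQ.symm,
      Finsupp.zero_apply] at this
    norm_num at this
  have hdeg0 : (C - Finsupp.single Q (2 : ℤ)).deg = 0 := by
    rw [Divisor.deg_sub, hdegC, deg_single' hK]; norm_num
  obtain ⟨w, hw0, hw⟩ := exists_add_div_eq_zero hK hpos hdeg0
  -- Step 3: `ℓ(3B - C) = 1`
  have hQ4 : (Finsupp.single Q (4 : ℤ) : Divisor k K) =
      Finsupp.single Q (2 : ℤ) + Finsupp.single Q (2 : ℤ) := by
    rw [← Finsupp.single_add]; norm_num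
  have h2Qeq : (Finsupp.single Q (2 : ℤ) : Divisor k K) = C + div k w := by
    have : C + div k w - Finsupp.single Q (2 : ℤ) = 0 := by rw [← hw]; abel
    exact (sub_eq_zero.1 this).symm
  have hww : w * w ≠ 0 := mul_ne_zero hw0 hw0
  set D2 : Divisor k K := C + C - Finsupp.single B (3 : ℤ) with hD2
  have hdegD2 : D2.deg = 1 := by
    rw [hD2, Divisor.deg_sub, Divisor.deg_add, hdegC, deg_single' hK]; norm_num
  have e2 : Finsupp.single Q (4 : ℤ) - Finsupp.single B (3 : ℤ) = D2 + div k (w * w) := by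
    rw [hQ4, h2Qeq, div_mul hK hw0 hw0, hD2]; abel
  have hrr2 := riemann_roch hK hC (Finsupp.single Q (4 : ℤ) - Finsupp.single B (3 : ℤ))
  have e3 : C - (Finsupp.single Q (4 : ℤ) - Finsupp.single B (3 : ℤ)) =
      C + Finsupp.single B (3 : ℤ) - Finsupp.single Q (4 : ℤ) := by abel
  rw [e3, h2, e2, ell_add_div hK D2 hww, Divisor.deg_add, deg_div hK, hdegD2, hg] at hrr2
  have hrr3 := riemann_roch hK hC D2
  have e4 : C - D2 = Finsupp.single B (3 : ℤ) - C := by rw [hD2]; abel
  rw [e4, hdegD2, hg] at hrr3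
  have h3BC : ell (Finsupp.single B (3 : ℤ) - C) = 1 := by
    have : (ell (Finsupp.single B (3 : ℤ) - C) : ℤ) = 1 := by
      push_cast at hrr2 hrr3; linarith
    exact_mod_cast this
  obtain ⟨z, hz0, hz⟩ := (ell_pos_iff hK _).1 (by omega : 0 < ell (Finsupp.single B (3 : ℤ) - C))
  set E : Divisor k K := Finsupp.single B (3 : ℤ) - C + div k z with hE
  have hdegE : E.deg = 1 := by
    rw [hE, Divisor.deg_add, Divisor.deg_sub, deg_single' hK, hdegC, deg_div hK]; norm_num
  obtain ⟨S, -, hS⟩ := exists_single_of_nonneg_of_deg_one hK hz hdegE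
  -- Step 4: `L(C) = L(C + E)`
  have hCE : C + E = Finsupp.single B (3 : ℤ) + div k z := by rw [hE]; abel
  have hellCE : ell (C + E) = 2 := by
    rw [hCE, ell_add_div hK _ hz0]
    have := ell_eq_of_large_deg hK (D := (Finsupp.single B (3 : ℤ) : Divisor k K))
      (by rw [deg_single' hK, hg]; norm_num)
    rw [deg_single' hK, hg] at this
    have h' : (ell (Finsupp.single B (3 : ℤ) : Divisor k K) : ℤ) = 2 := by
      rw [this]; norm_num
    exact_mod_cast h'
  have hfd := finiteDimensional_L hK (C + E)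
  have heq : L C = L (C + E) :=
    Submodule.eq_of_le_of_finrank_eq (L_mono (le_add_of_nonneg_right hz)) (by
      change ell C = ell (C + E)
      rw [hellC, hellCE])
  have hzi0 : z⁻¹ ≠ 0 := inv_ne_zero hz0
  have hzmem : z⁻¹ ∈ L C := by
    rw [heq, mem_L_iff_div hK hzi0, div_inv hK, hCE]
    have : (Finsupp.single B (3 : ℤ) : Divisor k K) + div k z + -div k z =
        Finsupp.single B (3 : ℤ) := by abel
    rw [this]
    exact single_nonneg B (by norm_num)
  rw [mem_L_iff_div hK hzi0, div_inv hK] at hzmem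
  have hCz : C + -div k z = Finsupp.single B (3 : ℤ) - E := by rw [hE]; abel
  rw [hCz, hS] at hzmem
  have hSB : S = B := by
    by_contra hne
    have := hzmem S
    rw [Finsupp.sub_apply, Finsupp.single_eq_same, Finsupp.single_eq_of_ne hne,
      Finsupp.zero_apply] at this
    norm_num at this
  subst hSB
  -- Step 5: `2B ~ C`
  have h2B : (Finsupp.single S (2 : ℤ) : Divisor k K) = C + div k z⁻¹ := by
    rw [div_inv hK, hCz, hS, ← Finsupp.single_sub]; norm_num
  rw [h2B, ell_add_div hK C hzi0, hellC] at hB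
  omega

end genus2

end FunFld
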