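import Groth.Agent.Lib.Helper5.FunFld.FlagChain

/-! Two-point vanishing bifiltration of a linear series: S16265, S16266 (helper5). -/

set_option autoImplicit false

namespace FunFld

open WithZero

variable {k K : Type*} [Field k] [Field K] [Algebra k K]

/-- `L(D - mP - nQ) ∩ L(D - m'P - n'Q) ≤ L(D - max(m,m')P - max(n,n')Q)` for `P ≠ Q`,
in the form needed: first has the `P`-order, second the `Q`-order. -/
lemma L_inf_two_points {D : Divisor k K} {P Q : Place k K} (hPQ : P ≠ Q) {m m' n n' : ℤ}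
    (hm : m' ≤ m) (hn : n ≤ n') :
    L (D - Finsupp.single P m - Finsupp.single Q n) ⊓
      L (D - Finsupp.single P m' - Finsupp.single Q n') ≤
      L (D - Finsupp.single P m - Finsupp.single Q n') := by
  classical
  intro x hx R
  by_cases hR : R = Q
  · subst hR
    have := hx.2 R
    refine this.trans (exp_le_exp.2 ?_)
    simp only [Finsupp.sub_apply, Finsupp.single_eq_same, Finsupp.single_eq_of_ne hPQ.symm]
    omega
  · have := hx.1 R
    refine this.trans (exp_le_exp.2 ?_)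
    simp only [Finsupp.sub_apply, Finsupp.single_eq_of_ne hR]
    omega

/-- S16266. -/
theorem no_common_ramification_16266 (D : Divisor k K)
    (V : Submodule k K) (r : ℕ) (hr : Module.finrank k ↥V = r + 1)
    (P : Place k K)
    (hns : ∀ R : Place k K,
      Module.finrank k ↥(V ⊓ L (D - Finsupp.single R (r : ℤ))) ≤ 1)
    (hns' : ∀ R : Place k K,
        V ⊓ L (D - Finsupp.single P 1 - Finsupp.single R ((r : ℤ) + 1)) = ⊥)
    (Q : Place k K) (hQP : Q ≠ P) :
    ¬ (V ⊓ L (D - Finsupp.single Q ((r : ℤ) + 1)) ≠ ⊥ ∧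
       V ⊓ L (D - Finsupp.single P 1 - Finsupp.single Q (r : ℤ)) ≠ ⊥) := by
  rintro ⟨h1, h2⟩
  have hfinV : FiniteDimensional k V := Module.finite_of_finrank_pos (by omega)
  obtain ⟨s₁, hs₁, hs₁0⟩ := (Submodule.ne_bot_iff _).1 h1
  obtain ⟨s₂, hs₂, hs₂0⟩ := (Submodule.ne_bot_iff _).1 h2
  set W := V ⊓ L (D - Finsupp.single Q (r : ℤ)) with hW
  have hfinW : FiniteDimensional k W := Submodule.finiteDimensional_of_le inf_le_left
  have hs₁W : s₁ ∈ W :=
    ⟨hs₁.1, L_mono (sub_le_sub_left (single_mono Q (by omega)) D) hs₁.2⟩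
  have hs₂W : s₂ ∈ W := by
    refine ⟨hs₂.1, L_mono ?_ hs₂.2⟩
    have : D - Finsupp.single P 1 - Finsupp.single Q (r : ℤ) =
        D - Finsupp.single Q (r : ℤ) - Finsupp.single P 1 := by abel
    rw [this]
    exact sub_le_self _ (single_nonneg P (by norm_num))
  obtain ⟨v, hv⟩ := finrank_le_one_iff.1 (hns Q)
  obtain ⟨c₁, hc₁⟩ := hv ⟨s₁, hs₁W⟩
  obtain ⟨c₂, hc₂⟩ := hv ⟨s₂, hs₂W⟩
  have hc₂0 : c₂ ≠ 0 := by
    rintro rfl
    rw [zero_smul] at hc₂
    exact hs₂0 (congrArg Subtype.val hc₂).symm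
  have hs₁eq : s₁ = (c₁ * c₂⁻¹) • s₂ := by
    have e1 : (v : K) = c₂⁻¹ • s₂ := by
      have := congrArg Subtype.val hc₂
      simp only [Submodule.coe_smul] at this
      rw [← this, smul_smul, inv_mul_cancel₀ hc₂0, one_smul]
    have e2 := congrArg Subtype.val hc₁
    simp only [Submodule.coe_smul] at e2
    rw [← e2, e1, smul_smul]
  have hs₁L : s₁ ∈ L (D - Finsupp.single P 1 - Finsupp.single Q (r : ℤ)) := by
    rw [hs₁eq]
    exact Submodule.smul_mem _ _ hs₂.2
  have hs₁L' : s₁ ∈ L (D - Finsupp.single P 0 - Finsupp.single Q ((r : ℤ) + 1)) := by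
    rw [Finsupp.single_zero, sub_zero]
    exact hs₁.2
  have := L_inf_two_points (k := k) (D := D) hQP.symm (m := 1) (m' := 0) (n := (r : ℤ))
    (n' := (r : ℤ) + 1) (by norm_num) (by omega) ⟨hs₁L, hs₁L'⟩
  have hmem : s₁ ∈ V ⊓ L (D - Finsupp.single P 1 - Finsupp.single Q ((r : ℤ) + 1)) :=
    ⟨hs₁.1, this⟩
  rw [hns' Q] at hmem
  exact hs₁0 ((Submodule.mem_bot k).1 hmem)

section bifil

variable [IsAlgClosed k] (hK : IsFunctionField k K)

/-- `V(-mP-nQ)`. -/
noncomputable def Vmn (V : Submodule k K) (D : Divisor k K) (P Q : Place k K) (m n : ℤ) :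
    Submodule k K :=
  V ⊓ L (D - Finsupp.single P m - Finsupp.single Q n)

lemma Vmn_anti (V : Submodule k K) (D : Divisor k K) (P Q : Place k K) {m m' n n' : ℤ}
    (hm : m ≤ m') (hn : n ≤ n') : Vmn V D P Q m' n' ≤ Vmn V D P Q m n :=
  inf_le_inf_left _ (L_mono (sub_le_sub (sub_le_sub_left (single_mono P hm) D) (single_mono Q hn)))

lemma Vmn_inf (V : Submodule k K) (D : Divisor k K) {P Q : Place k K} (hPQ : P ≠ Q)
    {m m' n n' : ℤ} (hm : m' ≤ m) (hn : n ≤ n') :
    Vmn V D P Q m n ⊓ Vmn V D P Q m' n' ≤ Vmn V D P Q m n' := by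
  intro x hx
  exact ⟨hx.1.1, L_inf_two_points hPQ hm hn ⟨hx.1.2, hx.2.2⟩⟩

include hK in
lemma finrank_Vmn_stepP (V : Submodule k K) [FiniteDimensional k V] (D : Divisor k K)
    (P Q : Place k K) (m n : ℤ) :
    Module.finrank k ↥(Vmn V D P Q m n) ≤ Module.finrank k ↥(Vmn V D P Q (m + 1) n) + 1 := by
  have h := finrank_inf_L_add_single_le hK V
    (D - Finsupp.single P (m + 1) - Finsupp.single Q n) P
  rw [Place.deg_eq_one_of_isAlgClosed hK P] at h
  have e : D - Finsupp.single P (m + 1) - Finsupp.single Q n + Finsupp.single P 1 =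
      D - Finsupp.single P m - Finsupp.single Q n := by
    rw [Finsupp.single_add]; abel
  rw [e] at h
  exact h

include hK in
lemma finrank_Vmn_stepQ (V : Submodule k K) [FiniteDimensional k V] (D : Divisor k K)
    (P Q : Place k K) (m n : ℤ) :
    Module.finrank k ↥(Vmn V D P Q m n) ≤ Module.finrank k ↥(Vmn V D P Q m (n + 1)) + 1 := by
  have h := finrank_inf_L_add_single_le hK V
    (D - Finsupp.single P m - Finsupp.single Q (n + 1)) Q
  rw [Place.deg_eq_one_of_isAlgClosed hK Q] at h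
  have e : D - Finsupp.single P m - Finsupp.single Q (n + 1) + Finsupp.single Q 1 =
      D - Finsupp.single P m - Finsupp.single Q n := by
    rw [Finsupp.single_add]; abel
  rw [e] at h
  exact h

include hK in
/-- S16265 (bifiltration form). -/
theorem special_ramification_pair_iff (V : Submodule k K) [FiniteDimensional k V]
    (D : Divisor k K) {P Q : Place k K} (hPQ : P ≠ Q) (a b : ℤ) :
    ((2 ≤ Module.finrank k ↥(Vmn V D P Q a (b - 1)) ∨
        1 ≤ Module.finrank k ↥(Vmn V D P Q a (b + 1))) ∧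
      (2 ≤ Module.finrank k ↥(Vmn V D P Q (a - 1) b) ∨
        1 ≤ Module.finrank k ↥(Vmn V D P Q (a + 1) b))) ↔
    (1 ≤ Module.finrank k ↥(Vmn V D P Q (a + 1) (b + 1)) ∨
      3 ≤ Module.finrank k ↥(Vmn V D P Q (a - 1) (b - 1)) ∨
      (1 ≤ Module.finrank k ↥(Vmn V D P Q a (b + 1)) ∧
        2 ≤ Module.finrank k ↥(Vmn V D P Q (a - 1) b)) ∨
      (1 ≤ Module.finrank k ↥(Vmn V D P Q (a + 1) b) ∧
        2 ≤ Module.finrank k ↥(Vmn V D P Q a (b - 1)))) := by
  have hfin : ∀ m n : ℤ, FiniteDimensional k ↥(Vmn V D P Q m n) := fun m n =>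
    Submodule.finiteDimensional_of_le inf_le_left
  have mono : ∀ {m m' n n' : ℤ}, m ≤ m' → n ≤ n' →
      Module.finrank k ↥(Vmn V D P Q m' n') ≤ Module.finrank k ↥(Vmn V D P Q m n) :=
    fun hm hn => Submodule.finrank_mono (Vmn_anti V D P Q hm hn)
  constructor
  · rintro ⟨h1 | h1, h2 | h2⟩
    · -- case (i)
      by_cases h3 : 3 ≤ Module.finrank k ↥(Vmn V D P Q (a - 1) (b - 1))
      · exact Or.inr (Or.inl h3)
      · rw [not_le] at h3
        have e1 : Vmn V D P Q a (b - 1) = Vmn V D P Q (a - 1) (b - 1) :=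
          Submodule.eq_of_le_of_finrank_le (Vmn_anti V D P Q (by omega) le_rfl) (by omega)
        have e2 : Vmn V D P Q (a - 1) b = Vmn V D P Q (a - 1) (b - 1) :=
          Submodule.eq_of_le_of_finrank_le (Vmn_anti V D P Q le_rfl (by omega)) (by omega)
        have h4 := Vmn_inf V D hPQ (m := a) (m' := a - 1) (n := b - 1) (n' := b)
          (by omega) (by omega)
        rw [e1, e2, inf_idem] at h4
        have h5 := Submodule.finrank_mono h4
        rw [← e1] at h5
        have h6 := finrank_Vmn_stepQ hK V D P Q a b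
        exact Or.inr (Or.inr (Or.inl ⟨by omega, h2⟩))
    · exact Or.inr (Or.inr (Or.inr ⟨h2, h1⟩))
    · exact Or.inr (Or.inr (Or.inl ⟨h1, h2⟩))
    · -- case (iv)
      by_cases h3 : 2 ≤ Module.finrank k ↥(Vmn V D P Q a b)
      · have := mono (m := a) (m' := a) (n := b - 1) (n' := b) le_rfl (by omega)
        exact Or.inr (Or.inr (Or.inr ⟨h2, by omega⟩))
      · rw [not_le] at h3
        have e1 : Vmn V D P Q a (b + 1) = Vmn V D P Q a b :=
          Submodule.eq_of_le_of_finrank_le (Vmn_anti V D P Q le_rfl (by omega)) (by omega)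
        have e2 : Vmn V D P Q (a + 1) b = Vmn V D P Q a b :=
          Submodule.eq_of_le_of_finrank_le (Vmn_anti V D P Q (by omega) le_rfl) (by omega)
        have h4 := Vmn_inf V D hPQ (m := a + 1) (m' := a) (n := b) (n' := b + 1)
          (by omega) (by omega)
        rw [e1, e2, inf_idem] at h4
        have h5 := Submodule.finrank_mono h4
        rw [← e1] at h5
        exact Or.inl (by omega)
  · rintro (h | h | ⟨h1, h2⟩ | ⟨h1, h2⟩)
    · have := mono (m := a) (m' := a + 1) (n := b + 1) (n' := b + 1) (by omega) le_rfl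
      have := mono (m := a + 1) (m' := a + 1) (n := b) (n' := b + 1) le_rfl (by omega)
      exact ⟨Or.inr (by omega), Or.inr (by omega)⟩
    · have h1 := finrank_Vmn_stepP hK V D P Q (a - 1) (b - 1)
      have h2 := finrank_Vmn_stepQ hK V D P Q (a - 1) (b - 1)
      rw [sub_add_cancel] at h1 h2
      exact ⟨Or.inl (by omega), Or.inl (by omega)⟩
    · exact ⟨Or.inr h1, Or.inl h2⟩
    · exact ⟨Or.inl h2, Or.inr h1⟩

end bifil

end FunFld
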