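import Groth.Agent.Lib.Helper5.FunFld.LSpace2

/-! Riemann's theorem and the genus (helper5). -/

set_option autoImplicit false

namespace FunFld

open WithZero Polynomial

variable {k K : Type*} [Field k] [Field K] [Algebra k K]

section

variable (hK : IsFunctionField k K)

include hK in
/-- The counting estimate behind `[K : k(x)] ≤ deg (x)_∞` and Riemann's theorem. -/
theorem exists_forall_le_ell {x : K} (hx : x ∉ Set.range (algebraMap k K)) :
    ∃ C : Divisor k K, 0 ≤ C ∧ ∀ l : ℕ,
      (l + 1) * Module.finrank (IntermediateField.adjoin k ({x} : Set K)) K ≤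
        ell (l • poleDiv (k := k) x + C) := by
  classical
  have hx0 : x ≠ 0 := by rintro rfl; exact hx ⟨0, map_zero _⟩
  have htr := hK.transcendental_of_notMem hx
  have hfd := hK.finiteDimensional_adjoin' hx
  set F := IntermediateField.adjoin k ({x} : Set K) with hF
  set n := Module.finrank F K with hn
  let b := Module.finBasis F K
  let B : Divisor k K := poleDiv x
  let C : Divisor k K := ∑ j, poleDiv (b j)
  have hB0 : (0 : Divisor k K) ≤ B := poleDiv_nonneg x
  have hC0 : (0 : Divisor k K) ≤ C := Finset.sum_nonneg (fun j _ => poleDiv_nonneg _)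
  have hCj : ∀ j (P : Place k K), -C P ≤ P.ord (b j) := by
    intro j P
    have h1 : poleDiv (b j) P ≤ C P := by
      have : poleDiv (k := k) (b j) ≤ C :=
        Finset.single_le_sum (f := fun j => poleDiv (k := k) (b j))
          (fun j _ => poleDiv_nonneg _) (Finset.mem_univ j)
      exact this P
    rw [poleDiv_apply hK] at h1
    have := le_max_left (-P.ord (b j)) 0
    omega
  have hBx : ∀ P : Place k K, -B P ≤ P.ord x ∧ 0 ≤ B P := by
    intro P
    have h1 : B P = max (-P.ord x) 0 := poleDiv_apply hK x P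
    have := le_max_left (-P.ord x) 0
    have := le_max_right (-P.ord x) 0
    constructor <;> omega
  let g : F := IntermediateField.AdjoinSimple.gen k x
  have hg : Transcendental k g := by
    intro halg
    apply htr
    have := halg.algebraMap (A := K)
    simpa [g] using this
  have hli : LinearIndependent k (fun p : ℕ × Fin n => g ^ p.1 • (b p.2 : K)) :=
    linearIndependent_smul (linearIndependent_pow_of_transcendental hg) b.linearIndependent
  refine ⟨C, hC0, fun l => ?_⟩
  have hfin := finiteDimensional_L hK (l • B + C)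
  have hmem : ∀ p : Fin (l + 1) × Fin n, g ^ (p.1 : ℕ) • (b p.2 : K) ∈ L (l • B + C) := by
    intro p P
    have hgx : g ^ (p.1 : ℕ) • (b p.2 : K) = x ^ (p.1 : ℕ) * b p.2 := by
      rw [Algebra.smul_def, IntermediateField.algebraMap_apply, SubmonoidClass.coe_pow,
        IntermediateField.AdjoinSimple.coe_gen]
    rw [hgx]
    have hne : x ^ (p.1 : ℕ) * b p.2 ≠ 0 := mul_ne_zero (pow_ne_zero _ hx0) (b.ne_zero _)
    rw [P.v_le_exp_iff hne, P.ord_mul (pow_ne_zero _ hx0) (b.ne_zero _), P.ord_pow,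
      Finsupp.add_apply, Finsupp.smul_apply, nsmul_eq_mul]
    have h1 := hCj p.2 P
    obtain ⟨h2, h3⟩ := hBx P
    have h4 : ((p.1 : ℕ) : ℤ) ≤ l := by
      have := p.1.2
      exact_mod_cast Nat.lt_succ_iff.1 this
    have h5 : (0 : ℤ) ≤ ((p.1 : ℕ) : ℤ) := Int.natCast_nonneg _
    nlinarith
  let w : Fin (l + 1) × Fin n → L (l • B + C) := fun p => ⟨_, hmem p⟩
  have hwli : LinearIndependent k w := by
    apply LinearIndependent.of_comp (L (l • B + C)).subtype
    have : (L (l • B + C)).subtype ∘ w =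
        (fun p : ℕ × Fin n => g ^ p.1 • (b p.2 : K)) ∘
          (fun p : Fin (l + 1) × Fin n => ((p.1 : ℕ), p.2)) := by
      funext p; rfl
    rw [this]
    refine hli.comp _ ?_
    rintro ⟨a1, a2⟩ ⟨b1, b2⟩ h
    simp only [Prod.mk.injEq] at h
    exact Prod.ext (Fin.ext h.1) h.2
  have h1 := hwli.fintype_card_le_finrank
  rw [Fintype.card_prod, Fintype.card_fin, Fintype.card_fin] at h1
  exact h1

include hK in
/-- `deg D - ℓ(D)` is monotone in `D`. -/
theorem deg_sub_ell_mono {D₁ D₂ : Divisor k K} (h : D₁ ≤ D₂) :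
    D₁.deg - ell D₁ ≤ D₂.deg - ell D₂ := by
  have := ell_sub_le hK D₁ D₂ h
  linarith

include hK in
/-- `deg D - ℓ(D)` only depends on the class of `D`. -/
theorem deg_sub_ell_add_div (D : Divisor k K) {z : K} (hz : z ≠ 0) :
    (D + div k z).deg - ell (D + div k z) = D.deg - ell D := by
  rw [Divisor.deg_add, deg_div hK, add_zero, ell_add_div hK D hz]

include hK in
/-- **Riemann's inequality**, existence of a bound. -/
theorem exists_bound_deg_sub_ell : ∃ γ : ℤ, ∀ A : Divisor k K, A.deg - ell A ≤ γ := by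
  obtain ⟨⟨x, hxtr, -⟩, -⟩ := id hK
  have hx : x ∉ Set.range (algebraMap k K) := by
    rintro ⟨c, rfl⟩
    exact hxtr (isAlgebraic_algebraMap c)
  have hfd := hK.finiteDimensional_adjoin' hx
  obtain ⟨C, hC0, hC⟩ := exists_forall_le_ell hK hx
  set n := Module.finrank (IntermediateField.adjoin k ({x} : Set K)) K with hn
  have hnpos : 0 < n := Module.finrank_pos
  set B : Divisor k K := poleDiv x with hB
  have hBdeg : B.deg = n := deg_poleDiv hK hx
  -- bound along multiples of `B`
  have hlB : ∀ l : ℕ, (l • B).deg - ell (l • B) ≤ C.deg - n := by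
    intro l
    have h1 := ell_sub_le hK (l • B) (l • B + C) (le_add_of_nonneg_right hC0)
    have h2 : (((l + 1) * n : ℕ) : ℤ) ≤ ell (l • B + C) := by exact_mod_cast hC l
    rw [Divisor.deg_add] at h1
    rw [Divisor.deg_nsmul, hBdeg]
    push_cast at h2
    linarith
  refine ⟨C.deg - n, fun A => ?_⟩
  set A₁ : Divisor k K := A ⊔ 0 with hA₁
  have hAA₁ : A ≤ A₁ := le_sup_left
  have hA₁0 : (0 : Divisor k K) ≤ A₁ := le_sup_right
  have hA₁deg := Divisor.deg_nonneg hA₁0
  -- choose `l` large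
  obtain ⟨l, hl⟩ : ∃ l : ℕ, (C.deg - n) + A₁.deg < l * n := by
    refine ⟨((C.deg - n) + A₁.deg).toNat + 1, ?_⟩
    have h1 : (C.deg - n) + A₁.deg ≤ (((C.deg - n) + A₁.deg).toNat : ℤ) := Int.self_le_toNat _
    have h2 : (1 : ℤ) ≤ n := by exact_mod_cast hnpos
    push_cast
    nlinarith
  have h1 := ell_sub_le hK (l • B - A₁) (l • B) (sub_le_self _ hA₁0)
  rw [Divisor.deg_sub] at h1
  have h2 := hlB l
  rw [Divisor.deg_nsmul, hBdeg] at h2
  have hpos : 0 < ell (l • B - A₁) := by
    have : (0 : ℤ) < ell (l • B - A₁) := by linarith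
    exact_mod_cast this
  obtain ⟨z, hz0, hz⟩ := (ell_pos_iff hK _).1 hpos
  -- `D = A₁ - (z) ≤ l B`
  have hD : A₁ + div k z⁻¹ ≤ l • B := by
    rw [div_inv hK]
    have : (0 : Divisor k K) ≤ l • B - (A₁ + -div k z) := by
      have e : l • B - (A₁ + -div k z) = l • B - A₁ + div k z := by abel
      rw [e]; exact hz
    exact sub_nonneg.1 this
  calc A.deg - ell A ≤ A₁.deg - ell A₁ := deg_sub_ell_mono hK hAA₁
    _ = (A₁ + div k z⁻¹).deg - ell (A₁ + div k z⁻¹) :=
        (deg_sub_ell_add_div hK A₁ (inv_ne_zero hz0)).symm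
    _ ≤ (l • B).deg - ell (l • B) := deg_sub_ell_mono hK hD
    _ ≤ C.deg - n := hlB l

include hK in
theorem bddAbove_genus_set :
    BddAbove (Set.range fun D : Divisor k K => (D.deg + 1 - (ell D : ℤ)).toNat) := by
  obtain ⟨γ, hγ⟩ := exists_bound_deg_sub_ell hK
  refine ⟨(γ + 1).toNat, ?_⟩
  rintro _ ⟨D, rfl⟩
  apply Int.toNat_le_toNat
  have := hγ D
  linarith

include hK in
/-- Riemann's inequality `deg D + 1 - ℓ(D) ≤ g`. -/
theorem deg_add_one_sub_ell_le_genus (D : Divisor k K) :
    D.deg + 1 - (ell D : ℤ) ≤ genus k K := by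
  have h1 : (D.deg + 1 - (ell D : ℤ)).toNat ≤ genus k K :=
    le_csSup (bddAbove_genus_set hK) ⟨D, rfl⟩
  have h2 := Int.self_le_toNat (D.deg + 1 - (ell D : ℤ))
  have h3 : ((D.deg + 1 - (ell D : ℤ)).toNat : ℤ) ≤ genus k K := by exact_mod_cast h1
  linarith

include hK in
/-- The genus is attained. -/
theorem exists_deg_add_one_sub_ell_eq_genus :
    ∃ D : Divisor k K, D.deg + 1 - (ell D : ℤ) = genus k K := by
  by_cases hg : genus k K = 0
  · refine ⟨0, ?_⟩
    rw [hg, Divisor.deg_zero, ell_zero hK]; simp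
  · have hne : (Set.range fun D : Divisor k K => (D.deg + 1 - (ell D : ℤ)).toNat).Nonempty :=
      ⟨_, ⟨0, rfl⟩⟩
    obtain ⟨D, hD⟩ := Nat.sSup_mem hne (bddAbove_genus_set hK)
    refine ⟨D, ?_⟩
    have hD' : (D.deg + 1 - (ell D : ℤ)).toNat = genus k K := hD
    have hpos : 0 < (D.deg + 1 - (ell D : ℤ)).toNat := by
      rw [hD']; exact Nat.pos_of_ne_zero hg
    rw [← hD']
    have : 0 < D.deg + 1 - (ell D : ℤ) := Int.lt_toNat.1 (by exact_mod_cast hpos)
    rw [Int.toNat_of_nonneg this.le]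

include hK in
/-- **Riemann's theorem**: equality for divisors of large degree. -/
theorem exists_forall_deg_add_one_sub_ell_eq_genus :
    ∃ N : ℤ, ∀ D : Divisor k K, N ≤ D.deg → D.deg + 1 - (ell D : ℤ) = genus k K := by
  obtain ⟨D₀, hD₀⟩ := exists_deg_add_one_sub_ell_eq_genus hK
  refine ⟨D₀.deg + genus k K, fun A hA => ?_⟩
  refine le_antisymm (deg_add_one_sub_ell_le_genus hK A) ?_
  have h1 := deg_add_one_sub_ell_le_genus hK (A - D₀)
  rw [Divisor.deg_sub] at h1
  have hpos : 0 < ell (A - D₀) := by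
    have : (0 : ℤ) < ell (A - D₀) := by linarith
    exact_mod_cast this
  obtain ⟨z, hz0, hz⟩ := (ell_pos_iff hK _).1 hpos
  have hle : D₀ ≤ A + div k z := by
    have e : A + div k z - D₀ = A - D₀ + div k z := by abel
    exact sub_nonneg.1 (by rw [e]; exact hz)
  have h2 := deg_sub_ell_mono hK hle
  rw [deg_sub_ell_add_div hK A hz0] at h2
  linarith

end

end FunFld
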