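import Groth.Agent.Lib.Helper5.FunFld.Rational

/-! Strong approximation (helper5). -/

set_option autoImplicit false

namespace FunFld

open WithZero
open scoped Classical

variable {k K : Type*} [Field k] [Field K] [Algebra k K]

section

variable (hK : IsFunctionField k K)

include hK in
theorem exists_nsmul_large (D : Divisor k K) (P₀ : Place k K) :
    ∃ m : ℕ, ∀ D₂ : Divisor k K, D + m • Finsupp.single P₀ 1 ≤ D₂ →
      D₂.deg + 1 - (ell D₂ : ℤ) = genus k K := by
  obtain ⟨N, hN⟩ := exists_forall_deg_add_one_sub_ell_eq_genus hK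
  have hP₀ := P₀.deg_pos hK
  refine ⟨(N - D.deg).toNat, fun D₂ h2 => hN D₂ ?_⟩
  have h3 := Divisor.deg_mono h2
  rw [Divisor.deg_add, Divisor.deg_nsmul, Divisor.deg_single, one_mul] at h3
  have h4 : N - D.deg ≤ ((N - D.deg).toNat : ℤ) := Int.self_le_toNat _
  have h5 : (1 : ℤ) ≤ P₀.deg := by exact_mod_cast hP₀
  have h6 : (0 : ℤ) ≤ ((N - D.deg).toNat : ℤ) := Int.natCast_nonneg _
  nlinarith

lemma mem_adele_of_finite_support {a : Place k K → K} (S : Finset (Place k K))
    (h : ∀ Q, Q ∉ S → a Q = 0) : a ∈ adele k K := by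
  change ∀ᶠ Q : Place k K in Filter.cofinite, Q.1 (a Q) ≤ 1
  rw [Filter.eventually_cofinite]
  refine S.finite_toSet.subset (fun Q hQ => ?_)
  by_contra hQS
  apply hQ
  rw [h Q hQS, map_zero]
  exact zero_le_one

include hK in
/-- Strong approximation with inequalities. -/
theorem exists_strong_approx_le (Pinf : Place k K) (S : Finset (Place k K)) (hS : Pinf ∉ S)
    (y : Place k K → K) (e : Place k K → ℤ) :
    ∃ z : K, (∀ Q ∈ S, Q.1 (z - y Q) ≤ exp (e Q)) ∧
      ∀ Q : Place k K, Q ∉ S → Q ≠ Pinf → Q.1 z ≤ 1 := by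
  let D₀ : Divisor k K := Finsupp.onFinset S (fun Q => if Q ∈ S then e Q else 0)
    (fun Q hQ => by
      by_contra hQS
      exact hQ (if_neg hQS))
  have hD₀S : ∀ Q ∈ S, D₀ Q = e Q := fun Q hQ => by
    simp only [D₀, Finsupp.onFinset_apply, if_pos hQ]
  have hD₀N : ∀ Q, Q ∉ S → D₀ Q = 0 := fun Q hQ => by
    simp only [D₀, Finsupp.onFinset_apply, if_neg hQ]
  obtain ⟨m, hm⟩ := exists_nsmul_large hK D₀ Pinf
  set D₁ : Divisor k K := D₀ + m • Finsupp.single Pinf 1 with hD₁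
  have hD₁Q : ∀ Q, Q ≠ Pinf → D₁ Q = D₀ Q := by
    intro Q hQ
    rw [hD₁, Finsupp.add_apply, Finsupp.smul_apply, Finsupp.single_eq_of_ne hQ]; simp
  have hA := adele_eq_ADX_of_large hK hm
  let α : Place k K → K := fun Q => if Q ∈ S then y Q else 0
  have hα : α ∈ adele k K := mem_adele_of_finite_support S (fun Q hQ => if_neg hQ)
  rw [hA] at hα
  obtain ⟨a', ha', b', ⟨z, rfl⟩, hab⟩ := Submodule.mem_sup.1 hα
  have ha'eq : a' = α - diag k K z := by rw [← hab]; abel
  refine ⟨z, fun Q hQ => ?_, fun Q hQS hQinf => ?_⟩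
  · have hne : Q ≠ Pinf := fun h => hS (h ▸ hQ)
    have := ha' Q
    rw [ha'eq, Pi.sub_apply, diag_apply, hD₁Q Q hne, hD₀S Q hQ] at this
    simp only [α, if_pos hQ] at this
    rwa [Valuation.map_sub_swap]
  · have := ha' Q
    rw [ha'eq, Pi.sub_apply, diag_apply, hD₁Q Q hQinf, hD₀N Q hQS, exp_zero] at this
    simp only [α, if_neg hQS, zero_sub, Valuation.map_neg] at this
    exact this

include hK in
/-- Strong approximation, exact orders. -/
theorem exists_strong_approx_eq (Pinf : Place k K) (S : Finset (Place k K)) (hS : Pinf ∉ S)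
    (x : Place k K → K) (r : Place k K → ℤ) :
    ∃ y : K, (∀ Q ∈ S, Q.1 (y - x Q) = exp (r Q)) ∧
      ∀ Q : Place k K, Q ∉ S → Q ≠ Pinf → Q.1 y ≤ 1 := by
  choose t ht using fun Q : Place k K => Q.exists_v_eq (r Q)
  obtain ⟨z₁, hz₁, hz₁'⟩ := exists_strong_approx_le hK Pinf S hS x (fun Q => r Q - 1)
  obtain ⟨z₂, hz₂, hz₂'⟩ := exists_strong_approx_le hK Pinf S hS t (fun Q => r Q - 1)
  have hlt : ∀ Q : Place k K, exp (r Q - 1) < exp (r Q) := fun Q => by
    rw [exp_lt_exp]; omega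
  refine ⟨z₁ + z₂, fun Q hQ => ?_, fun Q hQS hQinf => ?_⟩
  · have h2 : Q.1 z₂ = exp (r Q) := by
      have : z₂ = t Q + (z₂ - t Q) := by ring
      rw [this, Valuation.map_add_eq_of_lt_left _ (by
        rw [ht]; exact lt_of_le_of_lt (hz₂ Q hQ) (hlt Q)), ht]
    have : z₁ + z₂ - x Q = z₂ + (z₁ - x Q) := by ring
    rw [this, Valuation.map_add_eq_of_lt_left _ (by
      rw [h2]; exact lt_of_le_of_lt (hz₁ Q hQ) (hlt Q)), h2]
  · exact Valuation.map_add_le _ (hz₁' Q hQS hQinf) (hz₂' Q hQS hQinf)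

include hK in
/-- Strong approximation, in the shape of the statement. -/
theorem strong_approx (Pinf : Place k K) (n : ℕ) (P : Fin n → Place k K)
    (hP : Function.Injective P) (hinf : Pinf ∉ Set.range P) (x : Fin n → K) (m : Fin n → ℤ) :
    ∃ y : K, (∀ i, (P i).1 (y - x i) = exp (-(m i))) ∧
      ∀ Q : Place k K, Q ≠ Pinf → Q ∉ Set.range P → Q.1 y ≤ 1 := by
  let S : Finset (Place k K) := Finset.univ.image P
  have hS : Pinf ∉ S := by
    intro h
    obtain ⟨i, -, hi⟩ := Finset.mem_image.1 h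
    exact hinf ⟨i, hi⟩
  let X : Place k K → K := fun Q => if h : ∃ i, P i = Q then x h.choose else 0
  let R : Place k K → ℤ := fun Q => if h : ∃ i, P i = Q then -(m h.choose) else 0
  have hX : ∀ i, X (P i) = x i := by
    intro i
    have h : ∃ j, P j = P i := ⟨i, rfl⟩
    simp only [X, dif_pos h]
    rw [hP h.choose_spec]
  have hR : ∀ i, R (P i) = -(m i) := by
    intro i
    have h : ∃ j, P j = P i := ⟨i, rfl⟩
    simp only [R, dif_pos h]
    rw [hP h.choose_spec]
  obtain ⟨y, hy, hy'⟩ := exists_strong_approx_eq hK Pinf S hS X R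
  refine ⟨y, fun i => ?_, fun Q hQinf hQ => ?_⟩
  · have := hy (P i) (Finset.mem_image.2 ⟨i, Finset.mem_univ _, rfl⟩)
    rwa [hX, hR] at this
  · apply hy' Q _ hQinf
    intro h
    obtain ⟨i, -, hi⟩ := Finset.mem_image.1 h
    exact hQ ⟨i, hi⟩

end

end FunFld
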