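import Groth.Agent.Lib.Helper5.FunFld.MapDiv
import Groth.Agent.Lib.Helper5.FunFld.FF

/-! The function field as an extension of itself through an endomorphism (helper5). -/

set_option autoImplicit false

namespace FunFld

variable {k K : Type*} [Field k] [Field K] [Algebra k K]

/-- `K` viewed as an extension of `K` through the endomorphism `τ`. -/
def Twist (_τ : K →ₐ[k] K) : Type _ := K

namespace Twist

variable (τ : K →ₐ[k] K)

instance : Field (Twist τ) := inferInstanceAs (Field K)
instance : Algebra k (Twist τ) := inferInstanceAs (Algebra k K)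
instance : Algebra K (Twist τ) := τ.toRingHom.toAlgebra
instance : IsScalarTower k K (Twist τ) :=
  IsScalarTower.of_algebraMap_eq fun c => (τ.commutes c).symm

lemma algebraMap_apply (x : K) : algebraMap K (Twist τ) x = τ x := rfl

/-- `K` is finite over the image of `τ`. -/
theorem finite_fieldRange (hK : IsFunctionField k K) : Module.Finite τ.fieldRange K := by
  obtain ⟨⟨x, hx, -⟩, -⟩ := id hK
  have hτx : Transcendental k (τ x) := by
    intro halg
    apply hx
    obtain ⟨p, hp0, hp⟩ := halg
    refine ⟨p, hp0, τ.injective ?_⟩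
    rw [map_zero, ← hp]
    exact (Polynomial.aeval_algHom_apply τ x p).symm
  have hfin := hK.finiteDimensional_adjoin hτx
  obtain ⟨⟨b, hb⟩⟩ := hfin
  refine ⟨⟨b, ?_⟩⟩
  rw [eq_top_iff]
  intro z hztop
  clear hztop
  have hz : z ∈ Submodule.span (IntermediateField.adjoin k ({τ x} : Set K)) (b : Set K) := by
    rw [hb]; trivial
  have hle : IntermediateField.adjoin k ({τ x} : Set K) ≤ τ.fieldRange := by
    apply IntermediateField.adjoin_le_iff.2
    rintro _ rfl
    exact ⟨x, rfl⟩
  induction hz using Submodule.span_induction with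
  | mem y hy => exact Submodule.subset_span hy
  | zero => exact zero_mem _
  | add y z _ _ hy hz => exact add_mem hy hz
  | smul l y _ hy =>
    have : l • y = (⟨(l : K), hle l.2⟩ : τ.fieldRange) • y := rfl
    rw [this]
    exact Submodule.smul_mem _ _ hy

/-- The ring isomorphism from the image of `τ` to `K`. -/
noncomputable def rangeEquiv : τ.fieldRange ≃+* K :=
  (AlgEquiv.ofInjectiveField τ).symm.toRingEquiv

/-- The identity, as a ring isomorphism onto the twist. -/
def twistEquiv : K ≃+* Twist τ := RingEquiv.refl K

lemma comp_rangeEquiv :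
    (algebraMap K (Twist τ)).comp (rangeEquiv τ).toRingHom =
      (twistEquiv τ).toRingHom.comp (algebraMap τ.fieldRange K) := by
  ext r
  show τ ((AlgEquiv.ofInjectiveField τ).symm r) = (r : K)
  have := (AlgEquiv.ofInjectiveField τ).apply_symm_apply r
  exact congrArg Subtype.val this

theorem finite (hK : IsFunctionField k K) : Module.Finite K (Twist τ) := by
  have := finite_fieldRange τ hK
  exact Module.Finite.of_equiv_equiv (A₂ := K) (B₂ := Twist τ) (rangeEquiv τ) (twistEquiv τ)
    (comp_rangeEquiv τ)

theorem finrank_eq : Module.finrank K (Twist τ) = Module.finrank τ.fieldRange K :=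
  (Algebra.finrank_eq_of_equiv_equiv (R₁ := K) (S₁ := Twist τ) (rangeEquiv τ) (twistEquiv τ)
    (comp_rangeEquiv τ)).symm

end Twist

section deg

/-- **S11052**: the degree of `τ(φ)` is `deg τ · deg φ`. -/
theorem deg_mapDiv_comp_algHom (hK : IsFunctionField k K) (τ : K →ₐ[k] K) {ι : Type*}
    [Fintype ι] [Nonempty ι] (φ : ι → K) :
    (mapDiv k (τ ∘ φ)).deg = Module.finrank τ.fieldRange K * (mapDiv k φ).deg := by
  have : FiniteDimensional K (Twist τ) := Twist.finite τ hK
  have hK' : IsFunctionField k (Twist τ) := hK
  have h1 := mapDiv_algebraMap_eq_conorm (K' := Twist τ) hK hK' φ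
  have h2 := deg_conorm (K' := Twist τ) hK (mapDiv k φ)
  rw [← h1, Twist.finrank_eq] at h2
  exact h2

end deg

end FunFld
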