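import Groth.Agent.Lib.Helper5.FunFld.CuspUnique

/-! Sections with divisor supported on two points (helper5). -/

set_option autoImplicit false

namespace FunFld

open WithZero

variable {k K : Type*} [Field k] [Field K] [Algebra k K]

section

variable [IsAlgClosed k] (hK : IsFunctionField k K)

include hK in
/-- If the vanishing conditions `≥ a` at `P` and `≥ b` at `P'` with `a + b = d` overlap in `V`,
there is a member of `V` with divisor exactly `aP + bP'`. -/
theorem exists_section_two_points {V : Submodule k K} [FiniteDimensional k V] {D : Divisor k K}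
    {d : ℕ} (hD : D.deg = d) {P P' : Place k K} (hPP' : P ≠ P') {a b : ℕ} (hab : a + b = d)
    (hdim : Module.finrank k ↥V + 1 ≤
      Module.finrank k ↥(V ⊓ L (D - Finsupp.single P (a : ℤ))) +
        Module.finrank k ↥(V ⊓ L (D - Finsupp.single P' (b : ℤ)))) :
    ∃ s ∈ V, s ≠ 0 ∧ div k s + D = Finsupp.single P (a : ℤ) + Finsupp.single P' (b : ℤ) := by
  classical
  set S1 : Submodule k K := V ⊓ L (D - Finsupp.single P (a : ℤ)) with hS1
  set S2 : Submodule k K := V ⊓ L (D - Finsupp.single P' (b : ℤ)) with hS2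
  have hfin1 : FiniteDimensional k S1 := Submodule.finiteDimensional_of_le inf_le_left
  have hfin2 : FiniteDimensional k S2 := Submodule.finiteDimensional_of_le inf_le_left
  have h1 := Submodule.finrank_sup_add_finrank_inf_eq S1 S2
  have h2 : Module.finrank k ↥(S1 ⊔ S2) ≤ Module.finrank k ↥V :=
    Submodule.finrank_mono (sup_le inf_le_left inf_le_left)
  have h3 : 0 < Module.finrank k ↥(S1 ⊓ S2) := by omega
  have hfinI : FiniteDimensional k ↥(S1 ⊓ S2) := Submodule.finiteDimensional_of_le inf_le_left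
  rw [Module.finrank_pos_iff, Submodule.nontrivial_iff_ne_bot, Submodule.ne_bot_iff] at h3
  obtain ⟨s, ⟨hs1, hs2⟩, hs0⟩ := h3
  refine ⟨s, hs1.1, hs0, ?_⟩
  have e1 := (mem_L_iff_div hK hs0).1 hs1.2
  have e2 := (mem_L_iff_div hK hs0).1 hs2.2
  have hge : 0 ≤ div k s + D - (Finsupp.single P (a : ℤ) + Finsupp.single P' (b : ℤ)) := by
    intro R
    have e1R := e1 R
    have e2R := e2 R
    simp only [Finsupp.coe_zero, Pi.zero_apply, Finsupp.add_apply, Finsupp.sub_apply] at e1R e2R ⊢
    by_cases hR : R = P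
    · subst hR
      rw [Finsupp.single_eq_same] at e1R ⊢
      rw [Finsupp.single_eq_of_ne hPP']
      omega
    · by_cases hR' : R = P'
      · subst hR'
        rw [Finsupp.single_eq_same] at e2R ⊢
        rw [Finsupp.single_eq_of_ne hR]
        omega
      · rw [Finsupp.single_eq_of_ne hR] at e1R ⊢
        rw [Finsupp.single_eq_of_ne hR']
        omega
  have h0 := Divisor.eq_zero_of_nonneg_of_deg_eq_zero hK hge (by
    rw [Divisor.deg_sub, Divisor.deg_add, Divisor.deg_add, deg_div hK, hD, Divisor.deg_single,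
      Divisor.deg_single, Place.deg_eq_one_of_isAlgClosed hK P,
      Place.deg_eq_one_of_isAlgClosed hK P']
    push_cast [← hab]; ring)
  exact sub_eq_zero.1 h0

include hK in
/-- All but at most one vanishing order at `P'` is strictly smaller than the corresponding
order of the neighbouring aspect at the node. -/
theorem vanishing_orders_subsingleton [CharZero k] (hg0 : genus k K = 0)
    {KZ : Type*} [Field KZ] [Algebra k KZ]
    {d r : ℕ} {DY : Divisor k K} (hDY : DY.deg = d) {DZ : Divisor k KZ}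
    {VY : Submodule k K} (hVYr : Module.finrank k ↥VY = r + 1)
    {VZ : Submodule k KZ}
    {QY : Place k K} (hcusp : r ≤ Module.finrank k ↥(VY ⊓ L (DY - Finsupp.single QY ((2 : ℤ)))))
    {P : Place k K} (hP : P ≠ QY) {Q : Place k KZ}
    (hcomp : ∀ n : ℕ, n ≤ d + 1 →
      Module.finrank k ↥(VY ⊓ L (DY - Finsupp.single P ((n : ℤ)))) +
        Module.finrank k ↥(VZ ⊓ L (DZ - Finsupp.single Q ((d : ℤ) + 1 - n))) = r + 1)
    {P' : Place k K} (hP'P : P' ≠ P) (hP'Q : P' ≠ QY) :
    {i : ℕ | i ≤ r ∧ ∃ m : ℕ,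
        Module.finrank k ↥(VY ⊓ L (DY - Finsupp.single P' ((m : ℤ)))) = r + 1 - i ∧
        Module.finrank k ↥(VY ⊓ L (DY - Finsupp.single P' ((m : ℤ) + 1))) = r - i ∧
        Module.finrank k ↥(VZ ⊓ L (DZ - Finsupp.single Q ((m : ℤ)))) = r + 1 - i ∧
        Module.finrank k ↥(VZ ⊓ L (DZ - Finsupp.single Q ((m : ℤ) + 1))) = r - i}.Subsingleton := by
  classical
  have hfinV : FiniteDimensional k VY := Module.finite_of_finrank_pos (by omega)
  have hdP' := Place.deg_eq_one_of_isAlgClosed hK P'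
  have key : ∀ i m : ℕ, i ≤ r →
      Module.finrank k ↥(VY ⊓ L (DY - Finsupp.single P' ((m : ℤ)))) = r + 1 - i →
      Module.finrank k ↥(VZ ⊓ L (DZ - Finsupp.single Q ((m : ℤ) + 1))) = r - i →
      ∃ s ∈ VY, s ≠ 0 ∧ div k s + DY =
        Finsupp.single P' (m : ℤ) + Finsupp.single P ((d - m : ℕ) : ℤ) := by
    intro i m hi h1 h4
    have hmd : m ≤ d := by
      by_contra hlt
      have := Vn_eq_bot hK VY (D := DY) P' (n := (m : ℤ)) (by
        rw [hDY, hdP']; push_cast; omega)
      rw [Vn_def] at this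
      rw [this, finrank_bot] at h1
      omega
    have hc := hcomp (d - m) (by omega)
    have e : (d : ℤ) + 1 - ((d - m : ℕ) : ℤ) = (m : ℤ) + 1 := by
      rw [Nat.cast_sub hmd]; ring
    rw [e, h4] at hc
    refine exists_section_two_points hK hDY hP'P (a := m) (b := d - m) (by omega) ?_
    rw [hVYr, h1]
    omega
  rintro i ⟨hi, m, h1, -, -, h4⟩ i' ⟨hi', m', h1', -, -, h4'⟩
  obtain ⟨s, hsV, hs0, hs⟩ := key i m hi h1 h4
  obtain ⟨s', hsV', hs0', hs'⟩ := key i' m' hi' h1' h4'
  have hsupp : ∀ (m : ℕ) (s : K), div k s + DY =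
      Finsupp.single P' (m : ℤ) + Finsupp.single P ((d - m : ℕ) : ℤ) →
      ∀ R : Place k K, R ≠ P' → R ≠ P → (div k s + DY) R = 0 := by
    intro m s hs R hR hR'
    rw [hs, Finsupp.add_apply, Finsupp.single_eq_of_ne hR, Finsupp.single_eq_of_ne hR', add_zero]
  obtain ⟨c, hc⟩ := cusp_unique_section hK hg0 hVYr hcusp hP'Q hP hsV hsV' hs0 hs0'
    (hsupp m s hs) (hsupp m' s' hs')
  have hc0 : c ≠ 0 := by
    rintro rfl
    rw [zero_smul] at hc
    exact hs0' hc
  have hdiv : div k s' = div k s := by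
    ext R
    rw [div_apply hK, div_apply hK, hc, Algebra.smul_def,
      R.ord_mul ((map_ne_zero _).2 hc0) hs0, Place.ord_algebraMap, zero_add]
  have hmm : (m : ℤ) = m' := by
    have e1 := congrArg (fun E : Divisor k K => E P') hs
    have e2 := congrArg (fun E : Divisor k K => E P') hs'
    simp only [Finsupp.add_apply, Finsupp.single_eq_same, Finsupp.single_eq_of_ne hP'P,
      add_zero] at e1 e2
    rw [hdiv] at e2
    omega
  have hmm' : m = m' := by exact_mod_cast hmm
  subst hmm'
  omega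

include hK in
/-- Large weights at two places force a torsion relation between them. -/
theorem exists_torsion_of_weights {V : Submodule k K} {D : Divisor k K} {d r : ℕ}
    (hD : D.deg = d) (hV : V ≤ L D) (hVr : Module.finrank k ↥V = r + 1)
    {P Q : Place k K} (hPQ : P ≠ Q)
    (hw : (r + 1) * d + 1 ≤ Wsum V D P d + Wsum V D Q d + r) :
    ∃ m : ℕ, 1 ≤ m ∧ m ≤ d ∧ ∃ h : K, h ≠ 0 ∧
      div k h = Finsupp.single Q (m : ℤ) - Finsupp.single P (m : ℤ) := by
  classical
  have hfinV : FiniteDimensional k V := Module.finite_of_finrank_pos (by omega)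
  have hdP := Place.deg_eq_one_of_isAlgClosed hK P
  have hdQ := Place.deg_eq_one_of_isAlgClosed hK Q
  obtain ⟨aP, haP⟩ : ∃ aP : ℕ → ℕ, ∀ n : ℕ,
      aP n = Module.finrank k ↥(V ⊓ L (D - Finsupp.single P (n : ℤ))) := ⟨_, fun _ => rfl⟩
  obtain ⟨aQ, haQ⟩ : ∃ aQ : ℕ → ℕ, ∀ n : ℕ,
      aQ n = Module.finrank k ↥(V ⊓ L (D - Finsupp.single Q (n : ℤ))) := ⟨_, fun _ => rfl⟩
  have haP0 : aP 0 = r + 1 := by
    have : V ⊓ L (D - Finsupp.single P ((0 : ℕ) : ℤ)) = V := by
      rw [Nat.cast_zero, Finsupp.single_zero, sub_zero]; exact inf_eq_left.2 hV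
    rw [haP, this, hVr]
  have haQ0 : aQ 0 = r + 1 := by
    have : V ⊓ L (D - Finsupp.single Q ((0 : ℕ) : ℤ)) = V := by
      rw [Nat.cast_zero, Finsupp.single_zero, sub_zero]; exact inf_eq_left.2 hV
    rw [haQ, this, hVr]
  have hWP : Wsum V D P d = ∑ j ∈ Finset.range d, aP (j + 1) := by
    rw [Wsum_def]
    refine Finset.sum_congr rfl (fun j _ => ?_)
    rw [haP]; push_cast; rfl
  have hWQ : Wsum V D Q d = ∑ j ∈ Finset.range d, aQ (j + 1) := by
    rw [Wsum_def]
    refine Finset.sum_congr rfl (fun j _ => ?_)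
    rw [haQ]; push_cast; rfl
  obtain ⟨b, hb⟩ : ∃ b : ℕ → ℕ, ∀ n : ℕ, b n = aP n + aQ (d - n) := ⟨_, fun _ => rfl⟩
  have hble : ∀ n, n ≤ d → b n ≤ r + 2 := by
    intro n hn
    rw [hb, haP, haQ]
    set S1 : Submodule k K := V ⊓ L (D - Finsupp.single P (n : ℤ)) with hS1
    set S2 : Submodule k K := V ⊓ L (D - Finsupp.single Q ((d - n : ℕ) : ℤ)) with hS2
    have hfin1 : FiniteDimensional k S1 := Submodule.finiteDimensional_of_le inf_le_left
    have hfin2 : FiniteDimensional k S2 := Submodule.finiteDimensional_of_le inf_le_left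
    have h1 := Submodule.finrank_sup_add_finrank_inf_eq S1 S2
    have h2 : Module.finrank k ↥(S1 ⊔ S2) ≤ r + 1 := by
      rw [← hVr]; exact Submodule.finrank_mono (sup_le inf_le_left inf_le_left)
    have hle : S1 ⊓ S2 ≤ L (D - Finsupp.single P (n : ℤ) - Finsupp.single Q ((d - n : ℕ) : ℤ)) := by
      rintro x ⟨⟨-, hx1⟩, ⟨-, hx2⟩⟩ R
      have e1 := hx1 R
      have e2 := hx2 R
      simp only [Finsupp.sub_apply] at e1 e2 ⊢
      by_cases hR : R = Q
      · subst hR
        rw [Finsupp.single_eq_of_ne hPQ.symm, sub_zero]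
        exact e2
      · rw [Finsupp.single_eq_of_ne hR, sub_zero]
        exact e1
    have hfinL := finiteDimensional_L hK
      (D - Finsupp.single P (n : ℤ) - Finsupp.single Q ((d - n : ℕ) : ℤ))
    have h3 : Module.finrank k ↥(S1 ⊓ S2) ≤ 1 := by
      refine (Submodule.finrank_mono hle).trans ?_
      have hdeg : (D - Finsupp.single P (n : ℤ) - Finsupp.single Q ((d - n : ℕ) : ℤ)).deg = 0 := by
        rw [Divisor.deg_sub, Divisor.deg_sub, Divisor.deg_single, Divisor.deg_single, hD, hdP, hdQ,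
          Nat.cast_sub hn]
        ring
      have := ell_le_deg_add_one'' hK _ (le_of_eq hdeg.symm)
      rw [hdeg] at this
      have h' : ell (D - Finsupp.single P (n : ℤ) - Finsupp.single Q ((d - n : ℕ) : ℤ)) ≤ 1 := by
        exact_mod_cast this
      exact h'
    omega
  have hsum : ∑ n ∈ Finset.range (d + 1), b n =
      2 * (r + 1) + Wsum V D P d + Wsum V D Q d := by
    simp only [hb]
    rw [Finset.sum_add_distrib]
    have e1 : ∑ n ∈ Finset.range (d + 1), aQ (d - n) = ∑ n ∈ Finset.range (d + 1), aQ n := by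
      have := Finset.sum_range_reflect aQ (d + 1)
      simpa using this
    rw [e1, Finset.sum_range_succ' aP, Finset.sum_range_succ' aQ, haP0, haQ0, hWP, hWQ]
    ring
  -- two indices with overlap
  have hex : ∃ n1 n2 : ℕ, n1 < n2 ∧ n2 ≤ d ∧ r + 2 ≤ b n1 ∧ r + 2 ≤ b n2 := by
    by_contra hno
    push Not at hno
    set G := (Finset.range (d + 1)).filter (fun n => r + 2 ≤ b n) with hG
    have hcard : G.card ≤ 1 := by
      rw [Finset.card_le_one]
      intro x hx y hy
      rw [hG, Finset.mem_filter, Finset.mem_range] at hx hy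
      by_contra hxy
      rcases lt_or_gt_of_ne hxy with h | h
      · exact absurd hy.2 (not_le.2 (hno x y h (by omega) hx.2))
      · exact absurd hx.2 (not_le.2 (hno y x h (by omega) hy.2))
    have hle : ∑ n ∈ Finset.range (d + 1), b n ≤
        ∑ n ∈ Finset.range (d + 1), ((r + 1) + if r + 2 ≤ b n then 1 else 0) := by
      refine Finset.sum_le_sum (fun n hn => ?_)
      rw [Finset.mem_range] at hn
      have := hble n (by omega)
      split_ifs <;> omega
    have hR : ∑ n ∈ Finset.range (d + 1), ((r + 1) + if r + 2 ≤ b n then 1 else 0) =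
        (d + 1) * (r + 1) + G.card := by
      rw [Finset.sum_add_distrib, Finset.sum_const, Finset.card_range, smul_eq_mul, hG,
        Finset.card_filter]
    rw [hR, hsum] at hle
    have : (d + 1) * (r + 1) = (r + 1) * d + (r + 1) := by ring
    omega
  obtain ⟨n1, n2, h12, h2d, hb1, hb2⟩ := hex
  obtain ⟨s1, -, hs10, hs1⟩ := exists_section_two_points hK hD hPQ (V := V) (a := n1)
    (b := d - n1) (by omega) (by rw [hVr, ← haP, ← haQ, ← hb]; exact hb1)
  obtain ⟨s2, -, hs20, hs2⟩ := exists_section_two_points hK hD hPQ (V := V) (a := n2)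
    (b := d - n2) (by omega) (by rw [hVr, ← haP, ← haQ, ← hb]; exact hb2)
  refine ⟨n2 - n1, by omega, by omega, s1 / s2, div_ne_zero hs10 hs20, ?_⟩
  have e : div k (s1 / s2) = (div k s1 + D) - (div k s2 + D) := by
    rw [div_eq_mul_inv, div_mul hK hs10 (inv_ne_zero hs20), div_inv hK]
    abel
  rw [e, hs1, hs2]
  ext R
  simp only [Finsupp.sub_apply, Finsupp.add_apply]
  by_cases hR : R = P
  · subst hR
    rw [Finsupp.single_eq_same, Finsupp.single_eq_same, Finsupp.single_eq_same,
      Finsupp.single_eq_of_ne hPQ, Finsupp.single_eq_of_ne hPQ, Finsupp.single_eq_of_ne hPQ]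
    push_cast [Nat.cast_sub h12.le]
    ring
  · by_cases hR' : R = Q
    · subst hR'
      rw [Finsupp.single_eq_same, Finsupp.single_eq_same, Finsupp.single_eq_same,
        Finsupp.single_eq_of_ne hR, Finsupp.single_eq_of_ne hR, Finsupp.single_eq_of_ne hR]
      push_cast [Nat.cast_sub h12.le, Nat.cast_sub h2d, Nat.cast_sub (h12.le.trans h2d)]
      ring
    · simp [Finsupp.single_eq_of_ne hR, Finsupp.single_eq_of_ne hR']

end

end FunFld
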