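import Groth.Agent.Lib.Helper5.FunFld.Adele2
import Mathlib.Data.Int.LeastGreatest

/-! Weil differentials (helper5). -/

set_option autoImplicit false

namespace FunFld

open WithZero

variable {k K : Type*} [Field k] [Field K] [Algebra k K]

lemma mem_WD {D : Divisor k K} {ω : Module.Dual k (adele k K)} :
    ω ∈ WD D ↔ ∀ a : adele k K, (a : Place k K → K) ∈ ADX D → ω a = 0 := by
  rw [WD, Submodule.mem_dualAnnihilator]
  rfl

lemma WD_anti {D E : Divisor k K} (h : E ≤ D) : WD D ≤ WD E := by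
  intro ω hω
  rw [mem_WD] at hω ⊢
  exact fun a ha => hω a (ADX_mono h ha)

lemma mulW_apply (x : K) (hx : ∀ a ∈ adele k K, x • a ∈ adele k K)
    (ω : Module.Dual k (adele k K)) (a : adele k K) :
    mulW x hx ω a = ω ⟨x • (a : Place k K → K), hx a a.2⟩ := rfl

lemma smul_mem_adele (hK : IsFunctionField k K) (x : K) (a : Place k K → K)
    (ha : a ∈ adele k K) : x • a ∈ adele k K := by
  change ∀ᶠ P : Place k K in Filter.cofinite, P.1 ((x • a) P) ≤ 1
  have h1 : ∀ᶠ P : Place k K in Filter.cofinite, P.1 (a P) ≤ 1 := ha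
  have h2 : ∀ᶠ P : Place k K in Filter.cofinite, P.1 x ≤ 1 := by
    have := range_diag_le_adele hK ⟨x, rfl⟩
    exact this
  filter_upwards [h1, h2] with P hP1 hP2
  rw [Pi.smul_apply, smul_eq_mul, map_mul]
  exact mul_le_one' hP2 hP1

section mulW

variable (h : ∀ (x : K), ∀ a ∈ adele k K, x • a ∈ adele k K)

lemma mulW_mulW (x y : K) (ω : Module.Dual k (adele k K)) :
    mulW x (h x) (mulW y (h y) ω) = mulW (y * x) (h (y * x)) ω := by
  ext a
  rw [mulW_apply, mulW_apply, mulW_apply]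
  congr 1
  apply Subtype.ext
  simp [mul_smul]

lemma mulW_one (ω : Module.Dual k (adele k K)) : mulW 1 (h 1) ω = ω := by
  ext a
  rw [mulW_apply]
  congr 1
  apply Subtype.ext
  simp

lemma mulW_zero (ω : Module.Dual k (adele k K)) : mulW 0 (h 0) ω = 0 := by
  ext a
  rw [mulW_apply]
  have : (⟨(0 : K) • (a : Place k K → K), h 0 a a.2⟩ : adele k K) = 0 := by
    apply Subtype.ext; simp
  rw [this, map_zero]; rfl

lemma mulW_zero_right (x : K) : mulW x (h x) (0 : Module.Dual k (adele k K)) = 0 := by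
  ext a; rw [mulW_apply]; rfl

lemma mulW_add (x y : K) (ω : Module.Dual k (adele k K)) :
    mulW (x + y) (h (x + y)) ω = mulW x (h x) ω + mulW y (h y) ω := by
  ext a
  rw [LinearMap.add_apply, mulW_apply, mulW_apply, mulW_apply, ← map_add]
  congr 1
  apply Subtype.ext
  simp [add_smul]

lemma mulW_smul (c : k) (x : K) (ω : Module.Dual k (adele k K)) :
    mulW (c • x) (h (c • x)) ω = c • mulW x (h x) ω := by
  ext a
  rw [LinearMap.smul_apply, mulW_apply, mulW_apply, ← map_smul]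
  congr 1
  apply Subtype.ext
  simp [smul_assoc]

lemma mulW_sub (x y : K) (ω : Module.Dual k (adele k K)) :
    mulW (x - y) (h (x - y)) ω = mulW x (h x) ω - mulW y (h y) ω := by
  have := mulW_add h (x - y) y ω
  rw [sub_add_cancel] at this
  rw [this, add_sub_cancel_right]

include h in
lemma mulW_eq_zero_iff {x : K} (hx : x ≠ 0) (ω : Module.Dual k (adele k K)) :
    mulW x (h x) ω = 0 ↔ ω = 0 := by
  constructor
  · intro h0
    have := mulW_mulW h x⁻¹ x ω
    rw [h0, mulW_zero_right, mul_inv_cancel₀ hx, mulW_one] at this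
    exact this.symm
  · rintro rfl; exact mulW_zero_right h x

include h in
lemma mulW_injective_left {ω : Module.Dual k (adele k K)} (hω : ω ≠ 0) {x y : K}
    (hxy : mulW x (h x) ω = mulW y (h y) ω) : x = y := by
  by_contra hne
  have h1 : mulW (x - y) (h (x - y)) ω = 0 := by rw [mulW_sub, hxy, sub_self]
  exact hω ((mulW_eq_zero_iff h (sub_ne_zero.2 hne) ω).1 h1)

end mulW

/-- `L(D) · W(C) ⊆ W(C - D)`. -/
theorem mulW_mem_WD (C D : Divisor k K) (x : K) (hxD : x ∈ L D)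
    (hx : ∀ a ∈ adele k K, x • a ∈ adele k K) (ω : Module.Dual k (adele k K))
    (hω : ω ∈ WD C) : mulW x hx ω ∈ WD (C - D) := by
  rw [mem_WD] at hω ⊢
  intro a ha
  rw [mulW_apply]
  apply hω
  obtain ⟨a₁, ha₁, b, ⟨y, rfl⟩, hab⟩ := Submodule.mem_sup.1 ha
  change x • (a : Place k K → K) ∈ ADX C
  rw [← hab, smul_add]
  refine Submodule.add_mem _ ((le_sup_left : AD C ≤ ADX C) ?_)
    ((le_sup_right : _ ≤ ADX C) ⟨x * y, ?_⟩)
  · intro P
    rw [Pi.smul_apply, smul_eq_mul, map_mul]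
    have h1 := hxD P
    have h2 := ha₁ P
    rw [Finsupp.sub_apply] at h2
    calc P.1 x * P.1 (a₁ P) ≤ exp (D P) * exp (C P - D P) := mul_le_mul' h1 h2
      _ = exp (C P) := by rw [← exp_add]; congr 1; ring
  · funext P
    simp [diag_apply]

section div

variable (hK : IsFunctionField k K)

include hK in
lemma Divisor.eq_zero_of_nonneg_of_deg_eq_zero {D : Divisor k K} (hD : 0 ≤ D)
    (hdeg : D.deg = 0) : D = 0 := by
  rw [Divisor.deg_eq_sum] at hdeg
  have h1 := (Finset.sum_eq_zero_iff_of_nonneg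
    (fun P _ => mul_nonneg (hD P) (Int.natCast_nonneg _))).1 hdeg
  ext P
  by_cases hP : P ∈ D.support
  · have := h1 P hP
    have hpos : (0 : ℤ) < P.deg := by exact_mod_cast P.deg_pos hK
    rcases mul_eq_zero.1 this with h | h
    · exact h
    · omega
  · exact Finsupp.notMem_support_iff.1 hP

include hK in
lemma WD_sup {D₁ D₂ : Divisor k K} {ω : Module.Dual k (adele k K)} (h1 : ω ∈ WD D₁)
    (h2 : ω ∈ WD D₂) : ω ∈ WD (D₁ ⊔ D₂) := by
  rw [mem_WD] at h1 h2 ⊢
  intro a ha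
  rw [ADX, AD_sup] at ha
  obtain ⟨a', ha', b, hb, hab⟩ := Submodule.mem_sup.1 ha
  obtain ⟨a₁, ha₁, a₂, ha₂, ha12⟩ := Submodule.mem_sup.1 ha'
  have hmem1 : a₁ ∈ adele k K := AD_le_adele D₁ ha₁
  have hmem2 : a₂ + b ∈ adele k K :=
    Submodule.add_mem _ (AD_le_adele D₂ ha₂) (range_diag_le_adele hK hb)
  have : a = (⟨a₁, hmem1⟩ : adele k K) + ⟨a₂ + b, hmem2⟩ := by
    apply Subtype.ext
    change (a : Place k K → K) = a₁ + (a₂ + b)
    rw [← hab, ← ha12]; abel
  rw [this, map_add, h1 _ ((le_sup_left : AD D₁ ≤ ADX D₁) ha₁),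
    h2 _ (Submodule.add_mem _ ((le_sup_left : AD D₂ ≤ ADX D₂) ha₂)
      ((le_sup_right : _ ≤ ADX D₂) hb)), add_zero]

include hK in
/-- A Weil differential vanishing on `A(D) + K` with `D` of large degree is zero. -/
lemma eq_zero_of_mem_WD_large {D : Divisor k K} {ω : Module.Dual k (adele k K)}
    (hω : ω ∈ WD D)
    (hD : ∀ D₂ : Divisor k K, D ≤ D₂ → D₂.deg + 1 - (ell D₂ : ℤ) = genus k K) : ω = 0 := by
  have hA := adele_eq_ADX_of_large hK hD
  rw [mem_WD] at hω
  ext a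
  rw [hω a (by rw [← hA]; exact a.2)]; rfl

include hK in
/-- A nonzero Weil differential has a divisor. -/
theorem exists_isDivOf {ω : Module.Dual k (adele k K)} (hω : IsWeil ω) (h0 : ω ≠ 0) :
    ∃ C : Divisor k K, IsDivOf ω C := by
  obtain ⟨N, hN⟩ := exists_forall_deg_add_one_sub_ell_eq_genus hK
  obtain ⟨D₀, hD₀⟩ := hω
  -- degrees of divisors in `M` are bounded by `N`
  have hbound : ∀ E : Divisor k K, ω ∈ WD E → E.deg < N := by
    intro E hE
    by_contra hge
    rw [not_lt] at hge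
    exact h0 (eq_zero_of_mem_WD_large hK hE
      (fun D₂ h2 => hN D₂ (hge.trans (Divisor.deg_mono h2))))
  -- choose one of maximal degree
  obtain ⟨d, ⟨C, hC, hCd⟩, hmax⟩ : ∃ d : ℤ, (∃ E : Divisor k K, ω ∈ WD E ∧ E.deg = d) ∧
      ∀ d' : ℤ, (∃ E : Divisor k K, ω ∈ WD E ∧ E.deg = d') → d' ≤ d := by
    refine Int.exists_greatest_of_bdd ⟨N, ?_⟩ ⟨D₀.deg, D₀, hD₀, rfl⟩
    rintro d' ⟨E, hE, rfl⟩
    exact (hbound E hE).le
  refine ⟨C, fun E => ⟨fun hE => ?_, fun hE => WD_anti hE hC⟩⟩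
  have hsup := WD_sup hK hC hE
  have h1 := hmax _ ⟨C ⊔ E, hsup, rfl⟩
  have h2 : (0 : Divisor k K) ≤ C ⊔ E - C := sub_nonneg.2 le_sup_left
  have h3 : (C ⊔ E - C).deg = 0 := by
    have := Divisor.deg_nonneg h2
    rw [Divisor.deg_sub] at this ⊢
    omega
  have h4 := Divisor.eq_zero_of_nonneg_of_deg_eq_zero hK h2 h3
  have h5 : C ⊔ E = C := sub_eq_zero.1 h4
  exact h5 ▸ le_sup_right

lemma IsDivOf.mem_WD {ω : Module.Dual k (adele k K)} {C : Divisor k K} (h : IsDivOf ω C) :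
    ω ∈ WD C := (h C).2 le_rfl

lemma IsDivOf.isWeil {ω : Module.Dual k (adele k K)} {C : Divisor k K} (h : IsDivOf ω C) :
    IsWeil ω := ⟨C, h.mem_WD⟩

lemma IsDivOf.unique {ω : Module.Dual k (adele k K)} {C C' : Divisor k K} (h : IsDivOf ω C)
    (h' : IsDivOf ω C') : C = C' :=
  le_antisymm ((h' C).1 h.mem_WD) ((h C').1 h'.mem_WD)

lemma IsDivOf.ne_zero {ω : Module.Dual k (adele k K)} {C : Divisor k K} (h : IsDivOf ω C)
    (P : Place k K) : ω ≠ 0 := by
  rintro rfl
  have h1 : (0 : Module.Dual k (adele k K)) ∈ WD (C + Finsupp.single P 1) := Submodule.zero_mem _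
  have h2 := (h _).1 h1 P
  rw [Finsupp.add_apply, Finsupp.single_eq_same] at h2
  omega

include hK in
lemma mem_L_neg_div {x : K} (hx : x ≠ 0) : x ∈ L (-div k x) := by
  rw [mem_L_iff_div hK hx, neg_add_cancel]

include hK in
/-- `(xω) = (x) + (ω)`. -/
theorem isDivOf_mulW {x : K} (h0 : x ≠ 0) (hx : ∀ a ∈ adele k K, x • a ∈ adele k K)
    {ω : Module.Dual k (adele k K)} {C : Divisor k K} (hω : IsDivOf ω C) :
    IsDivOf (mulW x hx ω) (C + div k x) := by
  have h := smul_mem_adele hK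
  intro E
  constructor
  · intro hE
    have h1 := mulW_mem_WD E (-div k x⁻¹) x⁻¹ (mem_L_neg_div hK (inv_ne_zero h0)) (h x⁻¹) _ hE
    have h2 : mulW x⁻¹ (h x⁻¹) (mulW x hx ω) = ω := by
      have := mulW_mulW h x⁻¹ x ω
      rw [mul_inv_cancel₀ h0, mulW_one] at this
      exact this
    rw [h2, div_inv hK, neg_neg] at h1
    have h3 := (hω _).1 h1
    have : E = E - div k x + div k x := by abel
    rw [this]
    exact add_le_add_left h3 _
  · intro hE
    have h1 := mulW_mem_WD C (-div k x) x (mem_L_neg_div hK h0) hx ω hω.mem_WD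
    rw [sub_neg_eq_add] at h1
    exact WD_anti hE h1

end div

end FunFld
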