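import Groth.Agent.Lib.Helper5.FunFld.Weil

/-! Local description of the divisor of a Weil differential (helper5). -/

set_option autoImplicit false

namespace FunFld

open WithZero
open scoped Classical

variable {k K : Type*} [Field k] [Field K] [Algebra k K]

lemma single_mem_adele (P : Place k K) (y : K) :
    (Pi.single P y : Place k K → K) ∈ adele k K := by
  classical
  change ∀ᶠ Q : Place k K in Filter.cofinite, Q.1 ((Pi.single P y : Place k K → K) Q) ≤ 1
  rw [Filter.eventually_cofinite]
  refine (Set.finite_singleton P).subset (fun Q hQ => ?_)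
  rw [Set.mem_singleton_iff]
  by_contra hne
  apply hQ
  rw [Pi.single_eq_of_ne hne, map_zero]
  exact zero_le_one

theorem le_isDivOf_apply_iff (ω : Module.Dual k (adele k K)) (C : Divisor k K)
    (hω : IsDivOf ω C) (P : Place k K) (e : ℤ) :
    e ≤ C P ↔ ∀ (a : Place k K → K) (ha : a ∈ adele k K),
      (∀ Q, Q ≠ P → a Q = 0) → P.1 (a P) ≤ exp e → ω ⟨a, ha⟩ = 0 := by
  classical
  constructor
  · intro he a ha hconc hP
    have h1 := hω.mem_WD
    rw [mem_WD] at h1
    apply h1
    refine (le_sup_left : AD C ≤ ADX C) ?_
    intro Q
    by_cases hQ : Q = P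
    · subst hQ
      exact hP.trans (exp_le_exp.2 he)
    · change Q.1 (a Q) ≤ _
      rw [hconc Q hQ, map_zero]; exact zero_le
  · intro hyp
    by_contra hlt
    rw [not_le] at hlt
    set E : Divisor k K := C + Finsupp.single P (e - C P) with hE
    have hEP : E P = e := by
      rw [hE, Finsupp.add_apply, Finsupp.single_eq_same]; ring
    have hEQ : ∀ Q, Q ≠ P → E Q = C Q := by
      intro Q hQ
      rw [hE, Finsupp.add_apply, Finsupp.single_eq_of_ne hQ, add_zero]
    have hmem : ω ∈ WD E := by
      rw [mem_WD]
      intro a ha
      obtain ⟨a', ha', b', hb', hab⟩ := Submodule.mem_sup.1 ha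
      have hc := single_mem_adele (k := k) P (a' P)
      have hωc : ω ⟨_, hc⟩ = 0 := by
        apply hyp _ hc
        · intro Q hQ
          exact Pi.single_eq_of_ne (M := fun _ : Place k K => K) hQ (a' P)
        · rw [Pi.single_eq_same]
          have := ha' P
          rwa [hEP] at this
      have hdiff : (a : Place k K → K) - Pi.single P (a' P) ∈ adele k K :=
        Submodule.sub_mem _ a.2 hc
      have hωd : ω ⟨_, hdiff⟩ = 0 := by
        have h1 := hω.mem_WD
        rw [mem_WD] at h1
        apply h1
        change (a : Place k K → K) - Pi.single P (a' P) ∈ ADX C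
        have : (a : Place k K → K) - Pi.single P (a' P) = (a' - Pi.single P (a' P)) + b' := by
          rw [← hab]; abel
        rw [this]
        refine Submodule.add_mem _ ((le_sup_left : AD C ≤ ADX C) ?_)
          ((le_sup_right : _ ≤ ADX C) hb')
        intro Q
        by_cases hQ : Q = P
        · subst hQ
          rw [Pi.sub_apply, Pi.single_eq_same, sub_self, map_zero]; exact zero_le
        · rw [Pi.sub_apply, Pi.single_eq_of_ne hQ, sub_zero]
          have := ha' Q
          rwa [hEQ Q hQ] at this
      have : a = (⟨_, hdiff⟩ : adele k K) + ⟨_, hc⟩ := by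
        apply Subtype.ext
        change (a : Place k K → K) = ((a : Place k K → K) - Pi.single P (a' P)) + Pi.single P (a' P)
        abel
      rw [this, map_add, hωd, hωc, add_zero]
    have := (hω E).1 hmem P
    rw [hEP] at this
    omega

end FunFld
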